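import Cfsg.Agent.H408.EngStr_m3
import Cfsg.Agent.H553.OddHall_m3
import Cfsg.Prelude.Def_LieTypeChar
import Cfsg.Prelude.Def_Classification2
import Cfsg.Agent.Lib.ProductSet
import Cfsg.Agent.OrdDiv.Core
import Cfsg.Agent.H167.RV.Hall_m3
import Mathlib
import Cfsg.Agent.Lib.NilpotentCoprime
import Cfsg.Agent.GenOrth.Normal
import Cfsg.Agent.H125.OrthRows
import Cfsg.Agent.GenOrth.Cases
import Cfsg.Agent.S0752
import Mathlib.LinearAlgebra.QuadraticForm.Basic
import Cfsg.Prelude.Def_KGroupFacts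
import Cfsg.Agent.OddOrderLocal.HallPi
import Cfsg.Agent.S0205
import Cfsg.Agent.H170.HL.OmRows_m3
import Cfsg.Agent.TitsThree.KSideO
import Cfsg.Agent.S2141
import Cfsg.Agent.S2142
import Cfsg.Agent.S0814
import Cfsg.Agent.H481.TBound
import Cfsg.Agent.OddOrderLocal.CNBasic
import Cfsg.Agent.H609.ClassTwoOut_m3
import Cfsg.Agent.S0270
import Cfsg.Agent.H500.AS.Index
import Cfsg.Agent.S2143
import Cfsg.Agent.S2144
import Cfsg.Agent.S2145
import Cfsg.Agent.S2146
import Cfsg.Agent.S2147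
import Cfsg.Agent.S0816
import Cfsg.Agent.S0817
import Cfsg.Agent.S0818
import Cfsg.Agent.H900.Four.Sub
import Cfsg.Agent.ClassicalGeometry.WittQuad
import Cfsg.Agent.Lib.FieldAutCard
import Cfsg.Agent.H196.SymForm2
import Cfsg.Agent.ClassicalGeometry.PSUAutCount
import Cfsg.Agent.ClassicalGeometry.PSUAutMain
import Cfsg.Agent.SmallSimple.S1000.PSLFacts
import Cfsg.Agent.S0283
import Cfsg.Agent.S0242
import Cfsg.Agent.S0245
import Cfsg.Agent.FastGrp
import Cfsg.Agent.Prune
set_option linter.all false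

section
prune_inst 0x7f00000000000000000000000000000000000000000000000000000000000000000000000000000000000000000000000000000000000000000000000000000000000000000000000000000000000000003fffffffffffffffffffffffffffbeffbdffffffff

section
prune_inst 0xe0eef8abb839deffff7e7fa7d0cffc39949fffe6dff943bfe02bdf9bff030209c56ba509e088fe0ed6e23410b87843f9ffca3fe26bdc7ffffd5ff41ffbee1ff5f7b50851d488340fbc0ffe03f0778e7f000000000000000000000000000000000200000000

-- part: H583/DPi/Str
section
set_option linter.all false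
open scoped Cfsg.Agent.FastGrp

/-!
# Groups with a self-centralising subgroup of prime order: the order (helper583, for S4247)
-/

set_option autoImplicit false

namespace Cfsg.Agent.H583.DPi

open Subgroup Cfsg Cfsg.Agent.H361.SelfCent

universe u

variable {Y : Type u} [Group Y] [Finite Y] {r m : ℕ} {x : Y}

/-- the order of the normaliser -/
theorem norm_card (h : Sit Y r m x) : Nat.card (normalizer ((zpowers x : Subgroup Y) : Set Y)) = r * (m % r) := by
  have hrf : Fact r.Prime := ⟨h.prime⟩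
  by_cases hm : m = 1
  · subst hm
    have hc : Nat.card Y = r := by rw [h.card, mul_one]
    have hcyc : IsCyclic Y := isCyclic_of_prime_card (p := r) hc
    have htop : normalizer ((zpowers x : Subgroup Y) : Set Y) = ⊤ := by
      rw [eq_top_iff]
      intro g _
      rw [mem_normalizer_iff]
      intro y
      have h2 : g * y * g⁻¹ = y := by
        have : g * y = y * g := by
          obtain ⟨z, hz⟩ := hcyc.exists_generator
          obtain ⟨a, rfl⟩ := mem_zpowers_iff.1 (hz g)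
          obtain ⟨b, rfl⟩ := mem_zpowers_iff.1 (hz y)
          exact (Commute.refl z).zpow_zpow a b
        rw [this]; group
      rw [h2]
    rw [htop, card_top, hc, Nat.mod_eq_of_lt h.prime.one_lt, mul_one]
  · obtain ⟨e, he1, he2⟩ := h.card_norm hm
    have hsyl := h.card_sylow_mul hm he2
    have h1 : Nat.card (Sylow r Y) ≡ 1 [MOD r] := card_sylow_modEq_one r Y
    have h2 : m ≡ e [MOD r] := by
      rw [← hsyl]
      simpa using h1.mul_right e
    have h3 : e < r := by
      have := Nat.le_of_dvd (Nat.sub_pos_of_lt h.prime.one_lt) he1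
      have := h.prime.one_lt
      omega
    have h4 : m % r = e := by
      rw [← Nat.mod_eq_of_lt h3]
      exact h2
    rw [he2, h4]

/-- subgroups -/
theorem sub (h : Sit Y r m x) (hm : m ≠ 1) (H : Subgroup Y) (hr : r ∣ Nat.card H) :
    ∃ (m' : ℕ) (x' : H), Sit H r m' x' ∧ Nat.card H = r * m' ∧ m' % r ∣ m % r := by
  have hrf : Fact r.Prime := ⟨h.prime⟩
  obtain ⟨x', hx'⟩ := exists_prime_orderOf_dvd_card' r hr
  have hx'' : orderOf (x' : Y) = r := by rw [Subgroup.orderOf_coe, hx']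
  have hS := h.cent_of_orderOf hm hx''
  obtain ⟨m', hm'⟩ := hr
  have hrm' : ¬ r ∣ m' := by
    rintro ⟨c, hc⟩
    apply h.ndvd
    have h1 : r * m' ∣ r * m := by
      rw [← hm', ← h.card]
      exact Subgroup.card_subgroup_dvd_card _
    exact (Dvd.intro _ hc.symm).trans (Nat.dvd_of_mul_dvd_mul_left h.prime.pos h1)
  have hC' : Nat.card (centralizer ({x'} : Set H)) = r := by
    have h1 : centralizer ({x'} : Set H) = zpowers x' := by
      apply le_antisymm
      · intro w hw
        rw [mem_centralizer_singleton_iff] at hw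
        have h2 : (w : Y) ∈ centralizer ({(x' : Y)} : Set Y) :=
          mem_centralizer_singleton_iff.2 (congrArg Subtype.val hw)
        rw [hS.cent_eq hm] at h2
        obtain ⟨j, hj⟩ := mem_zpowers_iff.1 h2
        exact mem_zpowers_iff.2 ⟨j, Subtype.ext hj⟩
      · rw [zpowers_le]
        exact Sit.mem_self x'
    rw [h1, Nat.card_zpowers, hx']
  have hSit' : Sit H r m' x' := ⟨h.prime, hm', hrm', hC'⟩
  refine ⟨m', x', hSit', hm', ?_⟩
  have h1 := norm_card hSit'
  have h2 := norm_card hS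
  have h3 : (normalizer ((zpowers x' : Subgroup H) : Set H)).map H.subtype ≤
      normalizer ((zpowers (x' : Y) : Subgroup Y) : Set Y) := by
    rintro _ ⟨g, hg, rfl⟩
    have h5 : (zpowers x').map H.subtype = zpowers (x' : Y) := by
      rw [MonoidHom.map_zpowers]; rfl
    rw [← h5]
    have hg1 : g * x' * g⁻¹ ∈ zpowers x' := (mem_normalizer_iff.1 hg x').1 (mem_zpowers x')
    rw [SetLike.mem_coe, mem_normalizer_iff] at hg
    rw [mem_normalizer_iff]
    intro w
    constructor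
    · rintro ⟨w, hw, rfl⟩
      exact ⟨g * w * g⁻¹, (hg w).1 hw, rfl⟩
    · rintro ⟨w', hw', hw''⟩
      have hwH : w ∈ H := by
        have h12 : (g : Y) * w * (g : Y)⁻¹ ∈ H := by
          have : H.subtype w' ∈ H := w'.2
          rwa [hw''] at this
        have h13 := H.mul_mem (H.mul_mem (H.inv_mem g.2) h12) g.2
        simpa [mul_assoc] using h13
      refine ⟨⟨w, hwH⟩, (hg _).2 ?_, rfl⟩
      have : g * (⟨w, hwH⟩ : H) * g⁻¹ = w' := Subtype.ext hw''.symm
      rw [this]
      exact hw'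
  have h4 := Subgroup.card_dvd_of_le h3
  rw [card_map_of_injective H.subtype_injective, h1, h2] at h4
  exact Nat.dvd_of_mul_dvd_mul_left h.prime.pos h4

/-- Frattini, exact form -/
theorem index_mul (h : Sit Y r m x) (hm : m ≠ 1) (M : Subgroup Y) [hM : M.Normal] {m' : ℕ} (hr : Nat.card M = r * m') :
    M.index * (m' % r) = m % r := by
  have hrf : Fact r.Prime := ⟨h.prime⟩
  have hrM : r ∣ Nat.card M := by rw [hr]; exact dvd_mul_right _ _
  obtain ⟨x', hx'⟩ := exists_prime_orderOf_dvd_card' r hrM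
  have hx'' : orderOf (x' : Y) = r := by rw [Subgroup.orderOf_coe, hx']
  have hS := h.cent_of_orderOf hm hx''
  have hrm' : ¬ r ∣ m' := by
    rintro ⟨c, hc⟩
    apply h.ndvd
    have h1 : r * m' ∣ r * m := by
      rw [← hr, ← h.card]
      exact Subgroup.card_subgroup_dvd_card _
    exact (Dvd.intro _ hc.symm).trans (Nat.dvd_of_mul_dvd_mul_left h.prime.pos h1)
  have hC' : Nat.card (centralizer ({x'} : Set M)) = r := by
    have h1 : centralizer ({x'} : Set M) = zpowers x' := by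
      apply le_antisymm
      · intro w hw
        rw [mem_centralizer_singleton_iff] at hw
        have h2 : (w : Y) ∈ centralizer ({(x' : Y)} : Set Y) :=
          mem_centralizer_singleton_iff.2 (congrArg Subtype.val hw)
        rw [hS.cent_eq hm] at h2
        obtain ⟨j, hj⟩ := mem_zpowers_iff.1 h2
        exact mem_zpowers_iff.2 ⟨j, Subtype.ext hj⟩
      · rw [zpowers_le]
        exact Sit.mem_self x'
    rw [h1, Nat.card_zpowers, hx']
  have hSit' : Sit M r m' x' := ⟨h.prime, hr, hrm', hC'⟩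
  have h1 := norm_card hSit'
  have h2 := norm_card hS
  set N := normalizer ((zpowers (x' : Y) : Subgroup Y) : Set Y) with hN
  -- the Sylow subgroup of `M`
  have hPx : IsPGroup r (zpowers x') := IsPGroup.of_card (n := 1) (by rw [Nat.card_zpowers, hx', pow_one])
  obtain ⟨R, hR⟩ := hPx.exists_le_sylow
  have hPe : zpowers x' = R := by
    apply Subgroup.eq_of_le_of_card_ge hR
    rw [hSit'.card_sylow R, Nat.card_zpowers, hx']
  have hfr := Sylow.normalizer_sup_eq_top R
  have h5 : (zpowers x').map M.subtype = zpowers (x' : Y) := by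
    rw [MonoidHom.map_zpowers]; rfl
  have h6 : ((R : Subgroup M).map M.subtype : Subgroup Y) = zpowers (x' : Y) := by rw [← hPe, h5]
  rw [h6, ← hN] at hfr
  have h7 : M.relIndex N = M.index := by
    have h3 : M.relIndex (N ⊔ M) = M.relIndex N := Subgroup.relIndex_sup_right _ _
    rw [hfr, relIndex_top_right] at h3
    exact h3.symm
  have h8 : Nat.card (normalizer ((zpowers x' : Subgroup M) : Set M)) = Nat.card (M ⊓ N : Subgroup Y) := by
    have h9 : normalizer ((zpowers x' : Subgroup M) : Set M) = N.subgroupOf M := by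
      have hmem : ∀ w : M, w ∈ zpowers x' ↔ (w : Y) ∈ zpowers (x' : Y) := by
        intro w
        rw [mem_zpowers_iff, mem_zpowers_iff]
        constructor
        · rintro ⟨j, hj⟩
          exact ⟨j, congrArg Subtype.val hj⟩
        · rintro ⟨j, hj⟩
          exact ⟨j, Subtype.ext hj⟩
      have hxM : zpowers (x' : Y) ≤ M := by rw [zpowers_le]; exact x'.2
      ext w
      rw [mem_subgroupOf, hN, mem_normalizer_iff, mem_normalizer_iff]
      constructor
      · intro h y
        constructor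
        · intro hy
          exact (hmem _).1 ((h ⟨y, hxM hy⟩).1 ((hmem _).2 hy))
        · intro hy
          have hyH' : y ∈ M := by
            have h3 := mul_mem (mul_mem (inv_mem w.2) (hxM hy)) w.2
            rwa [show (w : Y)⁻¹ * ((w : Y) * y * (w : Y)⁻¹) * w = y by group] at h3
          exact (hmem _).1 ((h ⟨y, hyH'⟩).2 ((hmem _).2 hy))
      · intro h y
        rw [hmem, hmem]
        exact h y
    rw [h9, ← Subgroup.inf_subgroupOf_right, inf_comm]
    exact Nat.card_congr (Subgroup.subgroupOfEquivOfLe inf_le_left).toEquiv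
  have h9 : Nat.card (M ⊓ N : Subgroup Y) * M.relIndex N = Nat.card N := by
    have := relIndex_mul_relIndex ⊥ (M ⊓ N) N bot_le inf_le_right
    rw [relIndex_bot_left, inf_relIndex_right, relIndex_bot_left] at this
    exact this
  rw [← h8, h1, h7, h2] at h9
  apply Nat.eq_of_mul_eq_mul_left h.prime.pos
  rw [← h9]; ring

/-- **The structure**: `|Y| = N o d`. -/
theorem str (h : Sit Y r m x) : ∃ N o d : ℕ, Nat.card Y = N * o * d ∧ ¬ r ∣ N ∧
    (∀ s : ℕ, s.Prime → s ^ (N.factorization s) % r = 1) ∧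
    (o = r ∨ ∃ (X : Type u) (_ : Group X) (_ : Finite X) (_ : IsSimpleGroup X), (¬ ∀ a b : X, a * b = b * a) ∧
      Nat.card X = o) ∧ r ∣ o ∧ d * ((o / r) % r) = m % r := by
  classical
  have hrp := h.prime
  have hrf : Fact r.Prime := ⟨h.prime⟩
  by_cases hm : m = 1
  · subst hm
    refine ⟨1, r, 1, by rw [h.card]; ring, by simpa using hrp.one_lt.ne', ?_, Or.inl rfl, dvd_refl _, ?_⟩
    · intro s _
      simp [Nat.mod_eq_of_lt hrp.one_lt]
    · rw [Nat.div_self hrp.pos]; simp
  -- a maximal normal `r'`-subgroup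
  have hfin : Set.Finite {N : Subgroup Y | N.Normal ∧ ¬ r ∣ Nat.card N} := Set.toFinite _
  obtain ⟨N, hN⟩ := hfin.exists_maximal ⟨⊥, (inferInstance : (⊥ : Subgroup Y).Normal), by
    rw [card_bot]; exact fun h => hrp.one_lt.ne' (Nat.dvd_one.1 h)⟩
  obtain ⟨⟨hNn, hNr⟩, hNmax⟩ := hN
  have hnt : Nontrivial (Y ⧸ N) := by
    rw [QuotientGroup.nontrivial_iff]
    rintro rfl
    apply hNr
    rw [card_top, h.card]
    exact dvd_mul_right _ _
  obtain ⟨L, hL, hL1, hmin⟩ := Cfsg.Agent.Lib.SubnormalJoin.exists_minimal_normal (Y ⧸ N)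
  set M : Subgroup Y := L.comap (QuotientGroup.mk' N) with hM
  have hMn : M.Normal := hL.comap _
  have hNM : N ≤ M := by
    intro y hy
    rw [hM, mem_comap]
    have : (QuotientGroup.mk' N) y = 1 := (QuotientGroup.eq_one_iff y).2 hy
    rw [this]; exact one_mem _
  have hMi : M.index = L.index := index_comap_of_surjective _ (QuotientGroup.mk'_surjective N)
  have hMc : Nat.card M = Nat.card N * Nat.card L := by
    have h1 := M.card_mul_index
    have h2 := L.card_mul_index
    have h3 := N.card_mul_index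
    have h4 : Nat.card (Y ⧸ N) = N.index := rfl
    have hi : 0 < M.index := Nat.pos_of_ne_zero (Subgroup.FiniteIndex.index_ne_zero (H := M))
    apply Nat.eq_of_mul_eq_mul_right hi
    rw [h1, ← h3, ← h4, ← h2, hMi]; ring
  have hrL : r ∣ Nat.card L := by
    by_contra hno
    have h1 : ¬ r ∣ Nat.card M := by
      rw [hMc]
      intro h
      rcases (Nat.Prime.dvd_mul hrp).1 h with h | h
      · exact hNr h
      · exact hno h
    have h2 := hNmax ⟨hMn, h1⟩ hNM
    have h3 : M = N := le_antisymm h2 hNM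
    apply hL1
    rw [eq_bot_iff]
    intro y hy
    obtain ⟨z, rfl⟩ := QuotientGroup.mk'_surjective N y
    have h4 : z ∈ M := hy
    rw [h3] at h4
    exact (QuotientGroup.eq_one_iff z).2 h4
  -- `L` is simple
  obtain ⟨T, j, hTN, hT, hj, ⟨e⟩⟩ := Cfsg.Agent.Lib.MinNormal.exists_mulEquiv_pi L hL1 hmin
  have hc : Nat.card L = Nat.card T ^ j := by
    rw [Nat.card_congr e.toEquiv, Nat.card_pi]
    simp
  have hrT : r ∣ Nat.card T := by
    rw [hc] at hrL
    exact hrp.dvd_of_dvd_pow hrL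
  have hMY : Nat.card M ∣ r * m := by
    rw [← h.card]
    exact Subgroup.card_subgroup_dvd_card M
  have hj1 : j = 1 := by
    by_contra hj2
    have h2 : r ^ j ∣ Nat.card L := by
      rw [hc]
      exact pow_dvd_pow_of_dvd hrT j
    have h1 : r ^ 2 ∣ r * m := ((pow_dvd_pow r (by omega)).trans h2).trans
      ((by rw [hMc]; exact dvd_mul_left _ _ : Nat.card L ∣ Nat.card M).trans hMY)
    rw [pow_two] at h1
    exact h.ndvd (Nat.dvd_of_mul_dvd_mul_left hrp.pos h1)
  subst hj1
  rw [pow_one] at hc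
  have ho : Nat.card T = r ∨ ∃ (X : Type u) (_ : Group X) (_ : Finite X) (_ : IsSimpleGroup X),
      (¬ ∀ a b : X, a * b = b * a) ∧ Nat.card X = Nat.card T := by
    by_cases hab : ∀ a b : T, a * b = b * a
    · left
      have hcp : (Nat.card T).Prime := by
        let _ : CommGroup T := { (inferInstance : Group T) with mul_comm := hab }
        exact IsSimpleGroup.prime_card
      exact ((Nat.prime_dvd_prime_iff_eq hrp hcp).1 hrT).symm
    · right
      exact ⟨T, inferInstance, inferInstance, hT, hab, rfl⟩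
  -- the Sylow orders of `N`
  have hmod : ∀ s : ℕ, s.Prime → s ^ ((Nat.card N).factorization s) % r = 1 := by
    intro s hs
    have hsf : Fact s.Prime := ⟨hs⟩
    obtain ⟨P⟩ : Nonempty (Sylow s N) := inferInstance
    have h1 := h.modEq hm N hNr hs P
    rw [P.card_eq_multiplicity] at h1
    have h3 : s ^ (Nat.card N).factorization s % r = 1 % r := h1
    rw [h3]
    exact Nat.mod_eq_of_lt hrp.one_lt
  have hNmod : Nat.card N % r = 1 := by
    have h1 : (Nat.card N).factorization.prod (fun p k => p ^ k) = Nat.card N :=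
      Nat.prod_factorization_pow_eq_self Nat.card_pos.ne'
    have h2 : ((Nat.card N).factorization.prod (fun p k => p ^ k)) ≡ 1 [MOD r] := by
      unfold Finsupp.prod
      have : ∀ A : Finset ℕ, (∀ s ∈ A, s.Prime) → (∏ s ∈ A, s ^ ((Nat.card N).factorization s)) ≡ 1 [MOD r] := by
        intro A
        induction A using Finset.induction_on with
        | empty => intro _; simp only [Finset.prod_empty]; rfl
        | insert s A hsA ih =>
          intro hA
          rw [Finset.prod_insert hsA]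
          have h3 : s ^ ((Nat.card N).factorization s) ≡ 1 [MOD r] := by
            show _ % r = 1 % r
            rw [hmod s (hA s (Finset.mem_insert_self _ _)), Nat.mod_eq_of_lt hrp.one_lt]
          exact h3.mul (ih fun t ht => hA t (Finset.mem_insert_of_mem ht))
      exact this _ fun s hs => Nat.prime_of_mem_primeFactors (by simpa using hs)
    rw [h1] at h2
    rw [h2, Nat.mod_eq_of_lt hrp.one_lt]
  obtain ⟨q, hq⟩ := hrT
  have hMr : Nat.card M = r * (Nat.card N * q) := by rw [hMc, hc, hq]; ring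
  have h5 := index_mul h hm M hMr
  have h6 : Nat.card N * q % r = q % r := by
    have h7 : Nat.card N * q ≡ 1 * q [MOD r] := by
      apply Nat.ModEq.mul_right
      show _ % r = 1 % r
      rw [hNmod, Nat.mod_eq_of_lt hrp.one_lt]
    rw [one_mul] at h7
    exact h7
  rw [h6] at h5
  refine ⟨Nat.card N, Nat.card T, M.index, ?_, hNr, hmod, ho, by rw [hq]; exact dvd_mul_right _ _, ?_⟩
  · rw [← hc, ← hMc, M.card_mul_index]
  · rw [hq, Nat.mul_div_cancel_left _ hrp.pos]
    exact h5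

end Cfsg.Agent.H583.DPi
end

-- part: H817/DPi/Def
section
set_option linter.all false

/-!
# S4247: products of two `π`-decomposable groups satisfy `D_π` (helper817): the rows for simple groups

`Cfg π P K B` : `S` a group, `P ≤ S`, `K, B ≤ Aut S`, `P` a non-nilpotent Hall `π`-subgroup of `S` (`2 ∉ π`), `K` and `B`
`π'`-groups, `K` centralises `P`, `Γ := K Inn S = B Inn S = (P × K) B`.

`Cls π X` : `X` has a nilpotent Hall `π`-subgroup, or `X` is in the list `LX π X`.

`IH π P K` : every simple non-abelian factor group of a proper subgroup of `S` normalised by `P` and `K` is in the class.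

`Row π S` : `Cfg` and `IH` imply `LX π S`.
-/

set_option autoImplicit false

namespace Cfsg.Agent.H817.DPi

open Subgroup Cfsg Cfsg.Agent.H988.CPi Cfsg.Agent.H571.RV

universe u

/-- `X` has a nilpotent Hall `π`-subgroup -/
def NilHall (π : Set ℕ) (X : Type u) [Group X] : Prop := ∃ H : Subgroup X, IsPiHall π H ∧ Group.IsNilpotent H

/-- `PSL_2(q)`, `PSU_3(q)`, `²G₂(q)` in characteristic `p` -/
def RankOne (p : ℕ) (X : Type u) [Group X] : Prop :=
  (∃ (F : Type) (_ : Field F) (_ : Fintype F) (_ : CharP F p),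
    4 ≤ Fintype.card F ∧ Nonempty (X ≃* Matrix.ProjectiveSpecialLinearGroup (Fin 2) F)) ∨
  (∃ (F : Type) (_ : Field F) (_ : Fintype F) (_ : CharP F p) (q : ℕ),
    Fintype.card F = q ^ 2 ∧ q ≠ 2 ∧ Nonempty (X ≃* PSU 3 F q)) ∨
  (p = 3 ∧ Lie.IsoRee X)

/-- the primes of `π` dividing `|X|` are `r`, `s` -/
def Two (π : Set ℕ) (r s : ℕ) (X : Type u) [Group X] : Prop :=
  ∀ l ∈ π, l.Prime → l ∣ Nat.card X → l = r ∨ l = s

/-- **The list.** -/
def LX (π : Set ℕ) (X : Type u) [Group X] : Prop :=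
  (∃ p ∈ π, p.Prime ∧ RankOne p X) ∨
  Nonempty (X ≃* Matrix.ProjectiveSpecialLinearGroup (Fin 3) (ZMod 2)) ∨
  (Nonempty (X ≃* Matrix.ProjectiveSpecialLinearGroup (Fin 5) (ZMod 2)) ∧ Two π 5 31 X) ∨
  (Spor.IsoM11 X ∧ Two π 5 11 X) ∨
  (Spor.IsoM23 X ∧ Two π 11 23 X)

/-- **The class.** -/
def Cls (π : Set ℕ) (X : Type u) [Group X] : Prop := NilHall π X ∨ LX π X

/-- **The configuration.** -/
structure Cfg (π : Set ℕ) {S : Type u} [Group S] (P : Subgroup S) (K B : Subgroup (MulAut S)) : Prop where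
  two : 2 ∉ π
  hall : IsPiHall π P
  nnil : ¬ Group.IsNilpotent P
  piK : PiN' π (Nat.card K)
  piB : PiN' π (Nat.card B)
  fix : ∀ k ∈ K, ∀ x ∈ P, k x = x
  sup : K ⊔ inn S = B ⊔ inn S
  fac : ∀ g ∈ B ⊔ inn S, ∃ x ∈ P, ∃ k ∈ K, ∃ b ∈ B, g = MulAut.conj x * k * b

/-- **The induction hypothesis.** -/
def IH (π : Set ℕ) {S : Type u} [Group S] (P : Subgroup S) (K : Subgroup (MulAut S)) : Prop :=
  ∀ H : Subgroup S, H ≠ ⊤ → P ≤ normalizer (H : Set S) → K ≤ stab H →
    ∀ (X : Type u) [Group X] [Finite X] [IsSimpleGroup X], ¬ IsMulCommutative X →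
      ∀ f : H →* X, Function.Surjective f → Cls π X

/-- **The row.** -/
def Row (π : Set ℕ) (S : Type u) [Group S] : Prop :=
  ∀ (P : Subgroup S) (K B : Subgroup (MulAut S)), Cfg π P K B → IH π P K → LX π S

end Cfsg.Agent.H817.DPi
end

-- part: H583/DPi/Eng
section
prune_inst 0x1d10071441c4010000000058251003c46a6000190002b8401dd4206400e86d7230900af60f5101f0011c8a2e440394020025c00d90010000020000600411800a080a97282b37cad0436001f80b887180c00000000000000000000000000041004000000000
set_option linter.all false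
open scoped Cfsg.Agent.FastGrp

-- part: H583/DPi/Fact
section
/-!
# Numerical facts of the configuration of S4247 (helper583, for the sporadic rows)
-/

set_option autoImplicit false

namespace Cfsg.Agent.H583.DPi

open Subgroup Cfsg Cfsg.Agent.H988.CPi Cfsg.Agent.H571.RV Cfsg.Agent.H817.DPi
open scoped Pointwise

universe u

variable {π : Set ℕ} {S : Type u} [Group S] [Finite S] {P : Subgroup S} {K B : Subgroup (MulAut S)}

/-- the inner part -/
def ip (B : Subgroup (MulAut S)) : Subgroup S := B.comap MulAut.conj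

theorem conj_inj [IsSimpleGroup S] (hna : ¬ IsMulCommutative S) :
    Function.Injective (MulAut.conj : S →* MulAut S) := by
  rw [← MonoidHom.ker_eq_bot_iff]
  rcases (inferInstance : (MulAut.conj : S →* MulAut S).ker.Normal).eq_bot_or_eq_top with h | h
  · exact h
  · exfalso
    apply hna
    refine ⟨⟨fun x y => ?_⟩⟩
    have h1 : x ∈ (MulAut.conj : S →* MulAut S).ker := by rw [h]; trivial
    have h2 : MulAut.conj x y = y := by rw [MonoidHom.mem_ker.1 h1]; rfl
    rw [MulAut.conj_apply] at h2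
    exact mul_inv_eq_iff_eq_mul.1 h2

theorem card_ip (hinj : Function.Injective (MulAut.conj : S →* MulAut S)) (B : Subgroup (MulAut S)) :
    Nat.card (ip B) = Nat.card (B ⊓ inn S : Subgroup (MulAut S)) := by
  have h1 : (ip B).map MulAut.conj = B ⊓ inn S := by
    unfold ip inn
    rw [map_comap_eq, inf_comm]
  rw [← h1, card_map_of_injective hinj]

theorem card_ip_dvd (hinj : Function.Injective (MulAut.conj : S →* MulAut S)) (B : Subgroup (MulAut S)) :
    Nat.card (ip B) ∣ Nat.card B := by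
  rw [card_ip hinj]
  exact card_dvd_of_le inf_le_left

/-- `|B inn S| |B ∩ inn S| = |B| |S|` -/
theorem card_sup_inn (hinj : Function.Injective (MulAut.conj : S →* MulAut S)) (B : Subgroup (MulAut S)) :
    Nat.card (B ⊔ inn S : Subgroup (MulAut S)) * Nat.card (ip B) = Nat.card B * Nat.card S := by
  rw [card_ip hinj]
  have h1 := Cfsg.Agent.Lib.ProductSet.card_mul_card_inf B (inn S)
  have h2 : Nat.card (inn S) = Nat.card S := by
    have : inn S = (⊤ : Subgroup S).map MulAut.conj := MonoidHom.range_eq_map _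
    rw [this, card_map_of_injective hinj, card_top]
  rw [h2] at h1
  rw [← h1]
  congr 1
  have h3 : ((B ⊔ inn S : Subgroup (MulAut S)) : Set (MulAut S)) = (B : Set (MulAut S)) * (inn S : Set (MulAut S)) :=
    (mul_normal B (inn S))
  rw [← h3]; rfl

variable (C : Cfg π P K B)

include C in
theorem ip_le_centralizer : ip K ≤ centralizer (P : Set S) := by
  intro x hx
  rw [mem_centralizer_iff]
  intro y hy
  have h1 : MulAut.conj x y = y := C.fix _ hx y hy
  rw [MulAut.conj_apply] at h1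
  exact (mul_inv_eq_iff_eq_mul.1 h1).symm

include C in
/-- **The order formula.** -/
theorem card_eq (hinj : Function.Injective (MulAut.conj : S →* MulAut S)) :
    Nat.card S = Nat.card P * B.relIndex K * Nat.card (ip B) := by
  classical
  -- `A = conj P × K`
  have hcomm : ∀ x ∈ P, ∀ κ ∈ K, MulAut.conj x * κ = κ * MulAut.conj x := by
    intro x hx κ hκ
    ext y
    simp only [MulAut.mul_apply, MulAut.conj_apply, map_mul, map_inv, C.fix κ hκ x hx]
  let A : Subgroup (MulAut S) :=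
    { carrier := {g | ∃ x ∈ P, ∃ κ ∈ K, g = MulAut.conj x * κ}
      mul_mem' := by
        rintro _ _ ⟨x, hx, κ, hκ, rfl⟩ ⟨x', hx', κ', hκ', rfl⟩
        refine ⟨x * x', mul_mem hx hx', κ * κ', mul_mem hκ hκ', ?_⟩
        rw [map_mul, mul_assoc, ← mul_assoc κ, ← hcomm x' hx' κ hκ]
        simp only [mul_assoc]
      one_mem' := ⟨1, one_mem _, 1, one_mem _, by simp⟩
      inv_mem' := by
        rintro _ ⟨x, hx, κ, hκ, rfl⟩
        refine ⟨x⁻¹, inv_mem hx, κ⁻¹, inv_mem hκ, ?_⟩
        rw [mul_inv_rev, hcomm x⁻¹ (inv_mem hx) κ⁻¹ (inv_mem hκ), map_inv] }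
  have hPA : P.map MulAut.conj ≤ A := by
    rintro _ ⟨x, hx, rfl⟩
    exact ⟨x, hx, 1, one_mem _, by simp⟩
  have hKA : K ≤ A := fun κ hκ => ⟨1, one_mem _, κ, hκ, by simp⟩
  have hset : (A : Set (MulAut S)) = ((P.map MulAut.conj : Subgroup (MulAut S)) : Set (MulAut S)) * (K : Set (MulAut S)) := by
    ext g
    rw [Set.mem_mul]
    constructor
    · rintro ⟨x, hx, κ, hκ, rfl⟩
      exact ⟨MulAut.conj x, ⟨x, hx, rfl⟩, κ, hκ, rfl⟩
    · rintro ⟨_, ⟨x, hx, rfl⟩, κ, hκ, rfl⟩
      exact ⟨x, hx, κ, hκ, rfl⟩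
  have hPπ : PiN π (Nat.card P) := C.hall.1
  have hcardP : Nat.card (P.map MulAut.conj : Subgroup (MulAut S)) = Nat.card P := card_map_of_injective hinj
  have hinf : (P.map MulAut.conj : Subgroup (MulAut S)) ⊓ K = ⊥ := by
    apply inf_eq_bot_of_coprime
    rw [hcardP]
    exact PiN.coprime hPπ C.piK
  have hcardA : Nat.card A = Nat.card P * Nat.card K := by
    have h1 := Cfsg.Agent.Lib.ProductSet.card_mul_card_inf (P.map MulAut.conj : Subgroup (MulAut S)) K
    rw [hinf, card_bot, mul_one, hcardP] at h1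
    rw [← h1, ← hset]; rfl
  -- `A ∩ B = K ∩ B`
  have hAB : A ⊓ B = B ⊓ K := by
    apply le_antisymm
    · rintro g ⟨⟨x, hx, κ, hκ, rfl⟩, hgB⟩
      have h1 : orderOf (MulAut.conj x * κ) ∣ Nat.card B := by
        have := orderOf_dvd_natCard (⟨_, hgB⟩ : B)
        rwa [orderOf_mk] at this
      have hc : Commute (MulAut.conj x) κ := hcomm x hx κ hκ
      have h2 : orderOf (MulAut.conj x) ∣ Nat.card P := by
        rw [orderOf_injective _ hinj]
        have := orderOf_dvd_natCard (⟨_, hx⟩ : P)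
        rwa [orderOf_mk] at this
      have h3 : orderOf κ ∣ Nat.card K := by
        have := orderOf_dvd_natCard (⟨_, hκ⟩ : K)
        rwa [orderOf_mk] at this
      have h4 : (orderOf (MulAut.conj x)).Coprime (orderOf κ) :=
        Nat.Coprime.coprime_dvd_left h2 (Nat.Coprime.coprime_dvd_right h3 (PiN.coprime hPπ C.piK))
      have h5 := hc.orderOf_mul_eq_mul_orderOf_of_coprime h4
      have h6 : orderOf (MulAut.conj x) ∣ Nat.card B := (Dvd.intro _ rfl).trans (h5 ▸ h1)
      have h7 : orderOf (MulAut.conj x) = 1 :=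
        eq_one_of_both (hPπ.of_dvd h2) (C.piB.of_dvd h6)
      have h8 : MulAut.conj x = 1 := orderOf_eq_one_iff.1 h7
      rw [h8, one_mul] at hgB ⊢
      exact ⟨hgB, hκ⟩
    · exact le_inf (inf_le_right.trans hKA) inf_le_left
  have hΓ : ((B ⊔ inn S : Subgroup (MulAut S)) : Set (MulAut S)) = (A : Set (MulAut S)) * (B : Set (MulAut S)) := by
    ext g
    rw [Set.mem_mul]
    constructor
    · intro hg
      obtain ⟨x, hx, κ, hκ, b, hb, rfl⟩ := C.fac g hg
      exact ⟨_, ⟨x, hx, κ, hκ, rfl⟩, b, hb, rfl⟩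
    · rintro ⟨_, ⟨x, hx, κ, hκ, rfl⟩, b, hb, rfl⟩
      refine mul_mem (mul_mem ?_ ?_) ?_
      · exact mem_sup_right ⟨x, rfl⟩
      · rw [← C.sup]; exact mem_sup_left hκ
      · exact mem_sup_left hb
  have h1 := Cfsg.Agent.Lib.ProductSet.card_mul_card_inf A B
  rw [← hΓ, hcardA, hAB] at h1
  have h2 := card_sup_inn hinj B
  have h3 : Nat.card ((B ⊔ inn S : Subgroup (MulAut S)) : Set (MulAut S)) = Nat.card (B ⊔ inn S : Subgroup (MulAut S)) := rfl
  rw [h3] at h1
  have h4 : Nat.card (B ⊓ K : Subgroup (MulAut S)) * B.relIndex K = Nat.card K := by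
    have := relIndex_mul_relIndex ⊥ (B ⊓ K) K bot_le inf_le_right
    rw [relIndex_bot_left, inf_relIndex_right, relIndex_bot_left] at this
    exact this
  have hb : 0 < Nat.card B := Nat.card_pos
  have hi : 0 < Nat.card (B ⊓ K : Subgroup (MulAut S)) := Nat.card_pos
  have hG : Nat.card (B ⊔ inn S : Subgroup (MulAut S)) = Nat.card P * B.relIndex K * Nat.card B := by
    apply Nat.eq_of_mul_eq_mul_right hi
    rw [h1, ← h4]; ring
  rw [hG] at h2
  apply Nat.eq_of_mul_eq_mul_left hb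
  rw [← h2]; ring

end Cfsg.Agent.H583.DPi
end

-- part: H583/DPi/Num
section
/-!
# S4247, sporadic rows: the numerical test (helper583)
-/

set_option autoImplicit false

namespace Cfsg.Agent.H583.DPi

open Cfsg.Agent.OrdDiv

/-- the numbers `N = ∏ s ^ j` with `s ^ j` congruent to `1` modulo `r` -/
def ns (r : ℕ) : List (ℕ × ℕ) → List ℕ
  | [] => [1]
  | x :: l => (ns r l).flatMap fun N => ((List.range (x.2 + 1)).filter fun j => x.1 ^ j % r == 1).map fun j => x.1 ^ j * N

theorem mem_ns {r : ℕ} (f : ℕ → ℕ) : ∀ (l : List (ℕ × ℕ)), (∀ x ∈ l, f x.1 ≤ x.2 ∧ x.1 ^ f x.1 % r = 1) →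
    ((l.map Prod.fst).map fun p => p ^ f p).prod ∈ ns r l
  | [], _ => by simp [ns]
  | x :: l, h => by
    have ih := mem_ns f l fun y hy => h y (List.mem_cons_of_mem _ hy)
    obtain ⟨h1, h2⟩ := h x List.mem_cons_self
    unfold ns
    rw [List.mem_flatMap]
    refine ⟨_, ih, ?_⟩
    rw [List.mem_map]
    refine ⟨f x.1, ?_, by simp⟩
    rw [List.mem_filter]
    exact ⟨List.mem_range.2 (by omega), by simp [h2]⟩

/-- the candidates for the order of a subgroup of order divisible by `r` -/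
def hs (n : ℕ) (l : List (ℕ × ℕ)) (L : List ℕ) (r : ℕ) : List ℕ :=
  (r :: L.filter fun o => o % r == 0 && o != n).flatMap fun o =>
    (List.range (n / r % r + 1)).flatMap fun d =>
      if n / r % r % (d * (o / r % r)) == 0 && d != 0 then
        ((ns r l).map fun N => N * o * d).filter fun h => n % h == 0
      else []

/-- factorization over a list of primes -/
theorem eq_prod {l : List (ℕ × ℕ)} (hnd : (l.map Prod.fst).Nodup) {m : ℕ} (hm : m ≠ 0)
    (h : ∀ p : ℕ, p.Prime → p ∣ m → p ∈ l.map Prod.fst) :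
    m = ((l.map Prod.fst).map fun p => p ^ m.factorization p).prod := by
  have h1 : m.factorization.prod (fun p k => p ^ k) = m := Nat.prod_factorization_pow_eq_self hm
  rw [Finsupp.prod_of_support_subset (s := (l.map Prod.fst).toFinset) _ _ _ (fun i _ => pow_zero i)] at h1
  · rw [← List.prod_toFinset _ hnd]
    exact h1.symm
  · intro p hp
    rw [List.mem_toFinset]
    have h2 : p ∈ m.primeFactors := by simpa using hp
    exact h p (Nat.prime_of_mem_primeFactors h2) (Nat.dvd_of_mem_primeFactors h2)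

theorem mem_hs {n : ℕ} {l : List (ℕ × ℕ)} {L : List ℕ} {r : ℕ} (hv : valid l n = true)
    (hnd : (l.map Prod.fst).Nodup) (hr : r.Prime) (hr2 : ¬ r ^ 2 ∣ n) {h N o d : ℕ} (hh : h = N * o * d)
    (hd : h ∣ n) (hN : ∀ s : ℕ, s.Prime → s ^ (N.factorization s) % r = 1)
    (ho : o = r ∨ (o ∈ L ∧ o ≠ n)) (hro : r ∣ o) (hrn : r ∣ n) (he : d * (o / r % r) ∣ n / r % r) : h ∈ hs n l L r := by
  have hn0 : n ≠ 0 := (valid_pos hv).ne'
  have hh0 : h ≠ 0 := ne_zero_of_dvd_ne_zero hn0 hd
  have hN0 : N ≠ 0 := by rintro rfl; exact hh0 (by rw [hh]; ring)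
  have hd0 : d ≠ 0 := by rintro rfl; exact hh0 (by rw [hh]; ring)
  have hNn : N ∣ n := (hh ▸ (Dvd.intro _ (by ring : N * (o * d) = N * o * d))).trans hd
  have hmem : ∀ p : ℕ, p.Prime → p ∣ N → p ∈ l.map Prod.fst := by
    intro p hp hpN
    obtain ⟨w, hw, -⟩ := exists_pair hv hp (j := 1) le_rfl (by rw [pow_one]; exact hpN.trans hNn)
    exact List.mem_map.2 ⟨_, hw, rfl⟩
  have hNns : N ∈ ns r l := by
    have h1 := mem_ns (r := r) (fun p => N.factorization p) l ?_
    · rw [← eq_prod hnd hN0 hmem] at h1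
      exact h1
    · intro x hx
      have hxp : x.1.Prime := valid_prime hv _ hx
      refine ⟨?_, hN _ hxp⟩
      by_contra hlt
      apply valid_exact hv _ hx
      refine (pow_dvd_pow x.1 (show x.2 + 1 ≤ N.factorization x.1 by omega)).trans ?_
      exact (Nat.ordProj_dvd N x.1).trans hNn
  have he0 : n / r % r ≠ 0 := by
    intro h0
    apply hr2
    obtain ⟨c, hc⟩ := Nat.dvd_of_mod_eq_zero h0
    obtain ⟨m, rfl⟩ := hrn
    rw [Nat.mul_div_cancel_left _ hr.pos] at hc
    exact ⟨c, by rw [hc]; ring⟩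
  have hdle : d ≤ n / r % r := Nat.le_of_dvd (Nat.pos_of_ne_zero he0) ((dvd_mul_right _ _).trans he)
  unfold hs
  rw [List.mem_flatMap]
  refine ⟨o, ?_, ?_⟩
  · rcases ho with ho | ho
    · rw [ho]; exact List.mem_cons_self
    · apply List.mem_cons_of_mem
      rw [List.mem_filter]
      refine ⟨ho.1, ?_⟩
      simp only [Bool.and_eq_true, beq_iff_eq, bne_iff_ne]
      exact ⟨Nat.mod_eq_zero_of_dvd hro, ho.2⟩
  · rw [List.mem_flatMap]
    refine ⟨d, List.mem_range.2 (by omega), ?_⟩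
    rw [if_pos]
    · rw [List.mem_filter, List.mem_map]
      refine ⟨⟨N, hNns, hh.symm⟩, ?_⟩
      simp only [beq_iff_eq]
      exact Nat.mod_eq_zero_of_dvd hd
    · simp only [Bool.and_eq_true, beq_iff_eq, bne_iff_ne]
      exact ⟨Nat.mod_eq_zero_of_dvd he, hd0⟩

/-- the sublists -/
def subs {α : Type} : List α → List (List α)
  | [] => [[]]
  | a :: l => subs l ++ (subs l).map (a :: ·)

theorem filter_mem_subs {α : Type} (q : α → Bool) : ∀ l : List α, l.filter q ∈ subs l
  | [] => by simp [subs]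
  | a :: l => by
    have ih := filter_mem_subs q l
    unfold subs
    rw [List.filter_cons]
    split
    · exact List.mem_append.2 (Or.inr (List.mem_map.2 ⟨_, ih, rfl⟩))
    · exact List.mem_append.2 (Or.inl ih)

/-- `x.1 ^ a = x.1 ^ (b + c)` with `x.1 ^ b ∣ e`, `r ∣ x.1 ^ c - 1` -/
def compat (r e : ℕ) (x : ℕ × ℕ) : Bool :=
  x.1 == r || (List.range (x.2 + 1)).any fun b => e % x.1 ^ b == 0 && x.1 ^ (x.2 - b) % r == 1

/-- a group of order `x.1 ^ x.2` may have an automorphism of order `y.1` -/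
def link (x y : ℕ × ℕ) : Bool := (List.range x.2).any fun i => x.1 ^ (i + 1) % y.1 == 1

/-- non-nilpotent -/
def nn (T : List (ℕ × ℕ)) : Bool := T.any fun x => T.any fun y => x.1 != y.1 && link x y

/-- the test for the pairs in `nf` -/
def nfOK (c k : ℕ) (T nf : List (ℕ × ℕ)) : Bool :=
  nf.all fun st => T.all fun x => x.1 != st.1 || ((T.all fun y => y.1 != st.2 || link x y || link y x) &&
    ((T.any fun y => y.1 == st.2) || k % (if c % st.2 == 0 then st.2 * st.2 else st.2) != 0))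

/-- the whole test, with the tables `HL` of the orders of subgroups of order divisible by the isolated primes -/
def tst (n c j : ℕ) (HL : List (ℕ × List ℕ)) (nf T : List (ℕ × ℕ)) (k h : ℕ) : Bool :=
  prodl T * k * h == n && (T.all fun x => k % x.1 != 0 && h % x.1 != 0) && k % (2 ^ j * c) != 0 && nn T &&
  nfOK c k T nf && HL.all fun p => if (T.any fun x => x.1 == p.1) then c % k == 0 && T.all (compat p.1 (n / p.1 % p.1))
    else p.2.contains h

/-- the odd part of a list -/
def oddl (l : List (ℕ × ℕ)) : List (ℕ × ℕ) := l.filter fun x => x.1 != 2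

def chkA (n : ℕ) (l : List (ℕ × ℕ)) (c j : ℕ) (HL : List (ℕ × List ℕ)) (nf : List (ℕ × ℕ))
    (E : List (List ℕ × ℕ × ℕ)) : Bool :=
  HL.all fun p => (subs ((oddl l).filter (compat p.1 (n / p.1 % p.1)))).all fun T =>
    !(T.any fun x => x.1 == p.1) || (List.range c).all fun k =>
      !(tst n c j HL nf T (k + 1) (n / (prodl T * (k + 1)))) ||
        E.contains (T.map Prod.fst, n / (prodl T * (k + 1)), k + 1)

def chkB (n : ℕ) (l : List (ℕ × ℕ)) (c j : ℕ) (HL : List (ℕ × List ℕ)) (nf : List (ℕ × ℕ))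
    (E : List (List ℕ × ℕ × ℕ)) : Bool :=
  match HL with
  | [] => false
  | p :: _ => p.2.all fun h => (subs ((oddl l).filter fun x => h % x.1 != 0)).all fun T =>
      !(tst n c j HL nf T (n / (prodl T * h)) h) || E.contains (T.map Prod.fst, h, n / (prodl T * h))

/-- **the numerical theorem** -/
theorem mem_of_chk {n : ℕ} {l : List (ℕ × ℕ)} {c j : ℕ} {HL : List (ℕ × List ℕ)} {nf : List (ℕ × ℕ)}
    {E : List (List ℕ × ℕ × ℕ)} (hn : n ≠ 0) (hA : chkA n l c j HL nf E = true) (hB : chkB n l c j HL nf E = true)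
    (q : ℕ × ℕ → Bool) {k h : ℕ} (hc : c ≠ 0) (h2 : ∀ x ∈ l, q x = true → x.1 ≠ 2)
    (ht : tst n c j HL nf (l.filter q) k h = true) : ((l.filter q).map Prod.fst, h, k) ∈ E := by
  have ht' := ht
  unfold tst at ht'
  simp only [Bool.and_eq_true, beq_iff_eq] at ht'
  obtain ⟨⟨⟨⟨⟨h1, h3⟩, h4⟩, h5⟩, h6⟩, h7⟩ := ht'
  have hP0 : prodl (l.filter q) ≠ 0 := by rintro h0; rw [h0] at h1; simp at h1; exact hn h1.symm
  have hk0 : k ≠ 0 := by rintro rfl; rw [mul_zero, zero_mul] at h1; exact hn h1.symm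
  have hh0 : h ≠ 0 := by rintro rfl; rw [mul_zero] at h1; exact hn h1.symm
  have hfo : l.filter q = (oddl l).filter q := by
    unfold oddl
    rw [List.filter_filter]
    apply List.filter_congr
    intro x hx
    by_cases hq : q x = true
    · simp [hq, h2 x hx hq]
    · simp [hq]
  by_cases hex : ∃ p ∈ HL, ((l.filter q).any fun x => x.1 == p.1) = true
  · obtain ⟨p, hp, hpT⟩ := hex
    rw [List.all_eq_true] at h7
    have h8 := h7 p hp
    rw [if_pos hpT, Bool.and_eq_true, beq_iff_eq, List.all_eq_true] at h8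
    obtain ⟨hck, hco⟩ := h8
    have hkc : k ≤ c := Nat.le_of_dvd (Nat.pos_of_ne_zero hc) (Nat.dvd_of_mod_eq_zero hck)
    unfold chkA at hA
    rw [List.all_eq_true] at hA
    have h9 := hA p hp
    rw [List.all_eq_true] at h9
    have hmem : l.filter q ∈ subs ((oddl l).filter (compat p.1 (n / p.1 % p.1))) := by
      have h10 : l.filter q = ((oddl l).filter (compat p.1 (n / p.1 % p.1))).filter q := by
        rw [hfo, List.filter_filter]
        apply List.filter_congr
        intro x hx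
        by_cases hq : q x = true
        · have hxl : x ∈ l := (List.mem_filter.1 hx).1
          have := hco x (List.mem_filter.2 ⟨hxl, hq⟩)
          simp [hq, this]
        · simp [hq]
      rw [h10]
      exact filter_mem_subs q _
    have h10 := h9 _ hmem
    rw [hpT, Bool.not_true, Bool.false_or, List.all_eq_true] at h10
    have h11 := h10 (k - 1) (List.mem_range.2 (by omega))
    have h12 : k - 1 + 1 = k := by omega
    rw [h12] at h11
    have h13 : n / (prodl (l.filter q) * k) = h := by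
      rw [← h1]
      exact Nat.mul_div_cancel_left _ (Nat.pos_of_ne_zero (mul_ne_zero hP0 hk0))
    rw [h13, ht, Bool.not_true, Bool.false_or] at h11
    exact List.contains_iff_mem.1 h11
  · cases HL with
    | nil => unfold chkB at hB; simp at hB
    | cons p HL =>
      unfold chkB at hB
      simp only [List.all_eq_true] at hB h7
      have h8 := h7 p List.mem_cons_self
      have hno : ¬ (((l.filter q).any fun x => x.1 == p.1) = true) := fun h => hex ⟨p, List.mem_cons_self, h⟩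
      rw [if_neg hno] at h8
      have h9 := hB h (List.contains_iff_mem.1 h8)
      have hmem : l.filter q ∈ subs ((oddl l).filter fun x => h % x.1 != 0) := by
        have h10 : l.filter q = ((oddl l).filter fun x => h % x.1 != 0).filter q := by
          rw [hfo, List.filter_filter]
          apply List.filter_congr
          intro x hx
          by_cases hq : q x = true
          · have hxl : x ∈ l := (List.mem_filter.1 hx).1
            rw [List.all_eq_true] at h3
            have := h3 x (List.mem_filter.2 ⟨hxl, hq⟩)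
            rw [Bool.and_eq_true] at this
            simp only [hq, this.2, Bool.and_true]
          · simp [hq]
        rw [h10]
        exact filter_mem_subs q _
      have h10 := h9 _ hmem
      have h13 : n / (prodl (l.filter q) * h) = k := by
        rw [← h1]
        rw [show prodl (l.filter q) * k * h = prodl (l.filter q) * h * k by ring]
        exact Nat.mul_div_cancel_left _ (Nat.pos_of_ne_zero (mul_ne_zero hP0 hh0))
      rw [h13, ht, Bool.not_true, Bool.false_or] at h10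
      exact List.contains_iff_mem.1 h10

end Cfsg.Agent.H583.DPi
end

-- part: H583/DPi/Pair
section
/-!
# S4247, sporadic rows: pairs of primes (helper583)
-/

set_option autoImplicit false

namespace Cfsg.Agent.H583.DPi

open Subgroup Cfsg Cfsg.Agent.H988.CPi Cfsg.Agent.H553.OddHall

universe u

variable {G : Type u} [Group G] [Finite G] {π : Set ℕ}

/-- Sylow counting -/
theorem pairN_of_num {s t a : ℕ} (hs : s.Prime) (ht : t.Prime) (hst : s ≠ t) (ha : ¬ s ^ (a + 1) ∣ Nat.card G)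
    (hi : ∀ i, 1 ≤ i → i ≤ a → s ^ i % t ≠ 1) : PairN t s G := by
  have htf : Fact t.Prime := ⟨ht⟩
  apply PairN.of_sylow ht
  intro X hX
  obtain ⟨T⟩ : Nonempty (Sylow t X) := inferInstance
  refine ⟨T, ?_⟩
  have h1 : Nat.card (Sylow t X) ∣ (T : Subgroup X).index := T.card_dvd_index
  have h2 : Nat.card (Sylow t X) ≡ 1 [MOD t] := card_sylow_modEq_one t X
  -- the index is a power of `s`
  have h3 : ∀ p : ℕ, p.Prime → p ∣ (T : Subgroup X).index → p = s := by
    intro p hp hpd
    have h4 : p ∣ Nat.card X := hpd.trans (index_dvd_card _)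
    have h5 := hX.1 p hp h4
    rcases h5 with h5 | h5
    · exact h5
    · exfalso
      rw [Set.mem_singleton_iff] at h5
      rw [h5] at hpd
      exact T.not_dvd_index hpd
  have h4 : ∃ i, Nat.card (Sylow t X) = s ^ i := by
    have h5 : ∀ p : ℕ, p.Prime → p ∣ Nat.card (Sylow t X) → p = s := fun p hp hpd => h3 p hp (hpd.trans h1)
    exact ⟨_, Nat.eq_prime_pow_of_unique_prime_dvd Nat.card_pos.ne' (fun {p} hp hpd => h5 p hp hpd)⟩
  obtain ⟨i, hic⟩ := h4
  have h5 : i = 0 := by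
    by_contra h0
    have h6 : i ≤ a := by
      by_contra hlt
      apply ha
      refine (pow_dvd_pow s (show a + 1 ≤ i by omega)).trans ?_
      rw [← hic]
      exact (h1.trans (index_dvd_card _)).trans (card_subgroup_dvd_card X)
    apply hi i (by omega) h6
    rw [hic] at h2
    have h7 : s ^ i % t = 1 % t := h2
    rw [h7, Nat.mod_eq_of_lt ht.one_lt]
  rw [h5, pow_zero] at hic
  have h6 : Subsingleton (Sylow t X) := (Nat.card_eq_one_iff_unique.1 hic).1
  exact T.normal_of_subsingleton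

/-- **nilpotency from the pairs** -/
theorem nilpotent_of_pairs (h2 : 2 ∉ π) {P : Subgroup G} (hP : IsPiHall π P)
    (h : ∀ s t : ℕ, s.Prime → t.Prime → s ≠ t → s ∈ π → t ∈ π → s ∣ Nat.card G → t ∣ Nat.card G → PairN t s G) :
    Group.IsNilpotent P := by
  have h1 : ∀ (p : ℕ) (_ : Fact p.Prime) (T : Sylow p P), (T : Subgroup P).Normal := by
    intro p hp T
    by_cases hpP : p ∣ Nat.card P
    · have hpπ : p ∈ π := hP.1 p hp.out hpP
      have hpG : p ∣ Nat.card G := hpP.trans (card_subgroup_dvd_card P)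
      exact (ns_of_pairs h2 hp.out hpπ (fun s hs hsπ hsp hsG => h s p hs hp.out hsp hsπ hpπ hsG hpG) hP).sylow_normal T
    · have : (T : Subgroup P) = ⊥ := by
        apply Subgroup.card_eq_one.1
        have h2 := T.card_eq_multiplicity
        rw [Nat.factorization_eq_zero_of_not_dvd hpP, pow_zero] at h2
        exact h2
      rw [this]; infer_instance
  have h3 := (Group.isNilpotent_of_finite_tfae (G := P)).out 3 0
  exact h3.1 h1

/-- the Sylow `s`-subgroup of `P` is centralised by an element of order `t` -/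
theorem exists_cent (h2 : 2 ∉ π) {P : Subgroup G} (hP : IsPiHall π P) {s t a : ℕ} (hs : s.Prime) (ht : t.Prime)
    (hst : s ≠ t) (hsπ : s ∈ π) (htπ : t ∈ π) (hsa : s ^ a ∣ Nat.card G) (ha : ¬ s ^ (a + 1) ∣ Nat.card G)
    (htG : t ∣ Nat.card G) (h : PairN t s G) (h' : PairN s t G) :
    ∃ Q : Subgroup G, Nat.card Q = s ^ a ∧ ∃ y : G, orderOf y = t ∧ ∀ x ∈ Q, x * y = y * x := by
  have hsf : Fact s.Prime := ⟨hs⟩
  have htf : Fact t.Prime := ⟨ht⟩
  obtain ⟨X, -, hX, -⟩ := Cfsg.Agent.H167.RV.exists_hall_over hs h2 hP hsπ htπ (S := ⊥) bot_le IsPGroup.of_bot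
  obtain ⟨U, hU, hUp, hUi⟩ := h X hX
  obtain ⟨T, hT, hTp, hTi⟩ := h' X (by rw [Set.pair_comm]; exact hX)
  have htX : t ∣ Nat.card X := by
    rw [← X.card_mul_index] at htG
    rcases ht.dvd_mul.1 htG with h | h
    · exact h
    · exact absurd h (hX.2 t ht (by simp))
  have htU : t ∣ Nat.card U := by
    rw [← U.card_mul_index] at htX
    rcases ht.dvd_mul.1 htX with h | h
    · exact h
    · exact absurd h hUi
  obtain ⟨y, hy⟩ := exists_prime_orderOf_dvd_card' t htU
  refine ⟨T.map X.subtype, ?_, ((y : X) : G), ?_, ?_⟩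
  · rw [card_map_of_injective X.subtype_injective]
    obtain ⟨b, hb⟩ := hTp.exists_card_eq
    have h3 : Nat.card G = s ^ b * (T.index * X.index) := by
      rw [← hb, ← mul_assoc, T.card_mul_index, X.card_mul_index]
    have h4 : ¬ s ∣ T.index * X.index := by
      rw [hs.dvd_mul, not_or]
      exact ⟨hTi, hX.2 s hs (by simp)⟩
    have h5 : a ≤ b := by
      have h6 : s ^ a ∣ s ^ b := by
        refine Nat.Coprime.dvd_of_dvd_mul_right ?_ (h3 ▸ hsa)
        exact Nat.Coprime.pow_left _ ((Nat.Prime.coprime_iff_not_dvd hs).2 h4)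
      exact (Nat.pow_dvd_pow_iff_le_right hs.one_lt).1 h6
    have h6 : b ≤ a := by
      by_contra hlt
      apply ha
      rw [h3]
      exact (pow_dvd_pow s (by omega)).mul_right _
    rw [hb, le_antisymm h6 h5]
  · rw [Subgroup.orderOf_coe, Subgroup.orderOf_coe, hy]
  · rintro _ ⟨x, hx, rfl⟩
    have h3 : Disjoint T U := by
      apply disjoint_of_coprime_natCard
      obtain ⟨b, hb⟩ := hTp.exists_card_eq
      obtain ⟨c, hc⟩ := hUp.exists_card_eq
      rw [hb, hc]
      exact Nat.Coprime.pow _ _ ((Nat.coprime_primes hs ht).2 hst)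
    have h4 := Subgroup.commute_of_normal_of_disjoint T U hT hU h3 x (y : X) hx y.2
    exact congrArg Subtype.val h4.eq

end Cfsg.Agent.H583.DPi
end

-- part: H583/DPi/Eng
section
/-!
# S4247, sporadic rows: the engine (helper583)
-/

set_option autoImplicit false

namespace Cfsg.Agent.H583.DPi

open Subgroup Cfsg Cfsg.Agent.H988.CPi Cfsg.Agent.H571.RV Cfsg.Agent.H817.DPi Cfsg.Agent.OrdDiv
  Cfsg.Agent.H361.SelfCent Cfsg.Agent.H553.OddHall
open scoped Pointwise

universe u

/-- no element of order `t` centralises a subgroup of order `s ^ a` -/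
def NF (S : Type u) [Group S] (s a t : ℕ) : Prop :=
  ∀ Q : Subgroup S, Nat.card Q = s ^ a → ∀ y : S, orderOf y = t → ¬ ∀ x ∈ Q, x * y = y * x

/-- a prime `r` with a self-centralising element -/
structure Iso (S : Type u) [Group S] (n r : ℕ) : Prop where
  prime : r.Prime
  ne_two : r ≠ 2
  dvd : r ∣ n
  sq : ¬ r ^ 2 ∣ n
  cent : ∃ x : S, Nat.card (centralizer ({x} : Set S)) = r

/-- the orders of the nonabelian simple groups dividing `n` -/
def Ords.{v} (n : ℕ) (L : List ℕ) : Prop :=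
  ∀ (X : Type v) [Group X] [Finite X] [IsSimpleGroup X], (¬ ∀ a b : X, a * b = b * a) → Nat.card X ∣ n → Nat.card X ∈ L

section

variable {S : Type u} [Group S] [Finite S]

theorem Iso.sit {n r : ℕ} (h : Iso S n r) (hn : Nat.card S = n) : ∃ x : S, Sit S r (n / r) x := by
  obtain ⟨x, hx⟩ := h.cent
  obtain ⟨m, hm⟩ := h.dvd
  refine ⟨x, h.prime, ?_, ?_, hx⟩
  · rw [hn, hm, Nat.mul_div_cancel_left _ h.prime.pos]
  · intro hd
    apply h.sq
    rw [hm, Nat.mul_div_cancel_left _ h.prime.pos] at hd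
    obtain ⟨c, rfl⟩ := hd
    exact ⟨c, by rw [hm]; ring⟩

theorem prod_filter {f : ℕ → ℕ} (q : ℕ × ℕ → Bool) : ∀ l : List (ℕ × ℕ), (∀ x ∈ l, f x.1 = if q x = true then x.2 else 0) →
    ((l.map Prod.fst).map fun p => p ^ f p).prod = prodl (l.filter q)
  | [], _ => by simp [prodl]
  | x :: l, h => by
    have ih := prod_filter q l fun y hy => h y (List.mem_cons_of_mem _ hy)
    have h1 := h x List.mem_cons_self
    rw [List.map_cons, List.map_cons, List.prod_cons, ih, h1, List.filter_cons]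
    by_cases hq : q x = true
    · rw [if_pos hq, if_pos hq]; simp [prodl]
    · rw [if_neg hq, if_neg hq]; simp

theorem valid_dvd {l : List (ℕ × ℕ)} {n : ℕ} (hv : valid l n = true) {x : ℕ × ℕ} (hx : x ∈ l) : x.1 ^ x.2 ∣ n := by
  rw [← valid_prod hv]
  unfold prodl
  exact List.dvd_prod (List.mem_map.2 ⟨x, hx, rfl⟩)

/-- the orders of subgroups of order divisible by an isolated prime -/
theorem card_mem_hs {n : ℕ} {l : List (ℕ × ℕ)} {L : List ℕ} {r : ℕ} (hv : valid l n = true)
    (hnd : (l.map Prod.fst).Nodup) (hn : Nat.card S = n) (hr : Iso S n r) (hL : Ords.{u} n L) (H : Subgroup S)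
    (hH : r ∣ Nat.card H) (hlt : Nat.card H < n) : Nat.card H ∈ hs n l L r := by
  obtain ⟨x, hS⟩ := hr.sit hn
  have hn0 : 0 < n := valid_pos hv
  have hm : n / r ≠ 1 := by
    intro h1
    have h2 : n = r := by
      obtain ⟨m, hm⟩ := hr.dvd
      rw [hm, Nat.mul_div_cancel_left _ hr.prime.pos] at h1
      rw [hm, h1, mul_one]
    have h3 := Nat.le_of_dvd Nat.card_pos hH
    omega
  obtain ⟨m', x', hS', hc, he⟩ := sub hS hm H hH
  obtain ⟨N, o, d, h1, h2, h3, h4, h5, h6⟩ := str hS'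
  have hHn : Nat.card H ∣ n := by rw [← hn]; exact card_subgroup_dvd_card H
  have ho : o ∣ Nat.card H := by rw [h1]; exact Dvd.intro _ (by ring : o * (N * d) = N * o * d)
  have hon : o ≠ n := by
    intro h
    have := Nat.le_of_dvd Nat.card_pos ho
    omega
  refine mem_hs hv hnd hr.prime hr.sq h1 hHn h3 ?_ h5 hr.dvd ?_
  · rcases h4 with h4 | ⟨X, _, _, _, hna, hX⟩
    · exact Or.inl h4
    · right
      refine ⟨?_, hon⟩
      rw [← hX]
      exact hL X hna (by rw [hX]; exact ho.trans hHn)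
  · rw [h6]; exact he

end

section

variable {π : Set ℕ} {S : Type u} [Group S] [Finite S] {P : Subgroup S} {K B : Subgroup (MulAut S)}

omit [Finite S] in
theorem card_ne_one (C : Cfg π P K B) : Nat.card P ≠ 1 := by
  intro h
  apply C.nnil
  have := (Nat.card_eq_one_iff_unique.1 h).1
  infer_instance

/-- the order of `K` -/
theorem card_K_dvd (hinj : Function.Injective (MulAut.conj : S →* MulAut S)) {c : ℕ} (hout : (inn S).index ∣ c)
    (K : Subgroup (MulAut S)) : Nat.card K ∣ Nat.card (ip K) * c := by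
  have h4 : Nat.card (K ⊓ inn S : Subgroup (MulAut S)) * (inn S).relIndex K = Nat.card K := by
    have := relIndex_mul_relIndex ⊥ (K ⊓ inn S) K bot_le inf_le_left
    rw [relIndex_bot_left, inf_relIndex_left, relIndex_bot_left] at this
    exact this
  rw [← h4, card_ip hinj]
  apply Nat.mul_dvd_mul_left
  exact (relIndex_dvd_index_of_normal (inn S) K).trans hout

/-- **the engine** -/
theorem engine [IsSimpleGroup S] (hna : ¬ IsMulCommutative S) {n : ℕ} {l : List (ℕ × ℕ)} (hv : valid l n = true)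
    (hnd : (l.map Prod.fst).Nodup) (hl1 : ∀ x ∈ l, x.2 ≠ 0) (hn : Nat.card S = n) {c j : ℕ} (hc : c = 1 ∨ c = 2)
    (hout : (inn S).index ∣ c)
    (hj : ∀ b : S, (orderOf b).Prime → orderOf b ≠ 2 → ¬ 2 ^ j ∣ Nat.card (centralizer ({b} : Set S)))
    {L : List ℕ} (hL : Ords.{u} n L) {HL : List (ℕ × List ℕ)}
    (hHL : ∀ p ∈ HL, Iso S n p.1 ∧ ∀ h ∈ hs n l L p.1, h ∈ p.2) {nf : List (ℕ × ℕ)}
    (hnf : ∀ st ∈ nf, st.1.Prime ∧ st.2.Prime ∧ st.1 ≠ st.2 ∧ ∀ a, (st.1, a) ∈ l → NF S st.1 a st.2)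
    {E : List (List ℕ × ℕ × ℕ)} (hA : chkA n l c j HL nf E = true) (hB : chkB n l c j HL nf E = true)
    (C : Cfg π P K B) : ∃ (q : ℕ × ℕ → Bool) (k h : ℕ), (∀ x, q x = true ↔ x.1 ∈ π) ∧
      ((l.filter q).map Prod.fst, h, k) ∈ E ∧ Nat.card (ip B) = h ∧ Nat.card P = prodl (l.filter q) ∧
      Nat.card P * k * h = n := by
  classical
  have hinj := conj_inj hna
  have hcard := card_eq C hinj
  rw [hn] at hcard
  set k := B.relIndex K with hk
  set h := Nat.card (ip B) with hh
  have hn0 : 0 < n := valid_pos hv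
  have hP1 := card_ne_one C
  have hc0 : c ≠ 0 := by rcases hc with rfl | rfl <;> norm_num
  -- divisibility
  have hhB : h ∣ Nat.card B := card_ip_dvd hinj B
  have hkK : k ∣ Nat.card K := relIndex_dvd_card B K
  have hπh : PiN' π h := C.piB.of_dvd hhB
  have hπk : PiN' π k := C.piK.of_dvd hkK
  have hPπ : PiN π (Nat.card P) := C.hall.1
  have hkc : k ∣ Nat.card (ip K) * c := hkK.trans (card_K_dvd hinj hout K)
  have hcent := ip_le_centralizer C
  -- an element of odd prime order in `P`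
  obtain ⟨p₀, hp₀, hp₀P⟩ := Nat.exists_prime_and_dvd hP1
  have hp₀2 : p₀ ≠ 2 := by
    rintro rfl
    exact C.two (hPπ 2 hp₀ hp₀P)
  have hp₀f : Fact p₀.Prime := ⟨hp₀⟩
  obtain ⟨b₀, hb₀⟩ := exists_prime_orderOf_dvd_card' p₀ hp₀P
  have hipK : ∀ t : ℕ, t.Prime → t ∣ Nat.card (ip K) → ∃ y : S, orderOf y = t ∧ ∀ x ∈ P, x * y = y * x := by
    intro t ht htK
    have htf : Fact t.Prime := ⟨ht⟩
    obtain ⟨y, hy⟩ := exists_prime_orderOf_dvd_card' t htK
    exact ⟨y, by rw [Subgroup.orderOf_coe, hy], fun x hx => mem_centralizer_iff.1 (hcent y.2) x hx⟩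
  have hjK : ¬ 2 ^ j ∣ Nat.card (ip K) := by
    intro hd
    apply hj (b₀ : S) (by rw [Subgroup.orderOf_coe, hb₀]; exact hp₀) (by rw [Subgroup.orderOf_coe, hb₀]; exact hp₀2)
    refine hd.trans (Subgroup.card_dvd_of_le ?_)
    intro y hy
    rw [mem_centralizer_singleton_iff]
    exact (mem_centralizer_iff.1 (hcent hy) (b₀ : S) b₀.2).symm
  let q : ℕ × ℕ → Bool := fun x => decide (x.1 ∈ π)
  have hq : ∀ x, q x = true ↔ x.1 ∈ π := fun x => by simp [q]
  -- the primes of `π` in the list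
  have hmemT : ∀ s : ℕ, s.Prime → s ∈ π → s ∣ n → ∃ a, (s, a) ∈ l.filter q := by
    intro s hs hsπ hsn
    obtain ⟨w, hw, -⟩ := exists_pair hv hs (j := 1) le_rfl (by rw [pow_one]; exact hsn)
    exact ⟨w, List.mem_filter.2 ⟨hw, (hq _).2 hsπ⟩⟩
  have hTl : ∀ x ∈ l.filter q, x ∈ l ∧ x.1.Prime ∧ x.1 ∈ π ∧ x.1 ≠ 2 := by
    intro x hx
    obtain ⟨h1, h2⟩ := List.mem_filter.1 hx
    have h3 := (hq _).1 h2
    exact ⟨h1, valid_prime hv _ h1, h3, fun h => C.two (h ▸ h3)⟩
  -- the order of `P`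
  have hPn : Nat.card P ∣ n := by rw [← hn]; exact card_subgroup_dvd_card P
  have hPc : Nat.card P = prodl (l.filter q) := by
    have h1 := eq_prod hnd (m := Nat.card P) Nat.card_pos.ne' ?_
    · rw [h1]
      apply prod_filter
      intro x hx
      have hxp := valid_prime hv _ hx
      by_cases hxq : q x = true
      · rw [if_pos hxq]
        have hxπ := (hq x).1 hxq
        have h2 : n.factorization x.1 = x.2 := by
          apply le_antisymm
          · by_contra hlt
            exact valid_exact hv _ hx ((pow_dvd_pow x.1 (by omega)).trans (Nat.ordProj_dvd n x.1))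
          · exact (hxp.pow_dvd_iff_le_factorization hn0.ne').1 (valid_dvd hv hx)
        rw [← h2, hcard, mul_assoc, Nat.factorization_mul Nat.card_pos.ne' (by
          intro h0
          rw [mul_assoc, h0, mul_zero] at hcard
          omega), Finsupp.add_apply, Nat.factorization_eq_zero_of_not_dvd (n := k * h), add_zero]
        exact (hπk.mul hπh) x.1 hxp hxπ
      · rw [if_neg hxq]
        apply Nat.factorization_eq_zero_of_not_dvd
        intro hd
        exact hxq ((hq x).2 (hPπ x.1 hxp hd))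
    · intro p hp hpP
      obtain ⟨w, hw, -⟩ := exists_pair hv hp (j := 1) le_rfl (by rw [pow_one]; exact hpP.trans hPn)
      exact List.mem_map.2 ⟨_, hw, rfl⟩
  -- the pairs
  have hpair : ∀ x ∈ l.filter q, ∀ y ∈ l.filter q, x.1 ≠ y.1 → link x y = false → PairN y.1 x.1 S := by
    intro x hx y hy hxy hlk
    obtain ⟨hxl, hxp, -, -⟩ := hTl x hx
    obtain ⟨hyl, hyp, -, -⟩ := hTl y hy
    refine pairN_of_num (a := x.2) hxp hyp hxy (by rw [hn]; exact valid_exact hv _ hxl) ?_
    intro i hi1 hi2 hi3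
    unfold link at hlk
    rw [List.any_eq_false] at hlk
    apply hlk (i - 1) (List.mem_range.2 (by omega))
    rw [show i - 1 + 1 = i by omega, hi3]
    rfl
  have hfst : ∀ x ∈ l, ∀ y ∈ l, x.1 = y.1 → x = y := by
    intro x hx y hy hxy
    have h1 : x.2 = y.2 := by
      have e1 : ∀ z ∈ l, n.factorization z.1 = z.2 := by
        intro z hz
        have hzp := valid_prime hv _ hz
        apply le_antisymm
        · by_contra hlt
          exact valid_exact hv _ hz ((pow_dvd_pow z.1 (by omega)).trans (Nat.ordProj_dvd n z.1))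
        · exact (hzp.pow_dvd_iff_le_factorization hn0.ne').1 (valid_dvd hv hz)
      rw [← e1 x hx, ← e1 y hy, hxy]
    exact Prod.ext hxy h1
  have hnn : nn (l.filter q) = true := by
    by_contra hno
    apply C.nnil
    refine nilpotent_of_pairs C.two C.hall ?_
    intro s t hs ht hst hsπ htπ hsG htG
    rw [hn] at hsG htG
    obtain ⟨a, ha⟩ := hmemT s hs hsπ hsG
    obtain ⟨b, hb⟩ := hmemT t ht htπ htG
    apply hpair (s, a) ha (t, b) hb hst
    by_contra hlk
    apply hno
    unfold nn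
    rw [List.any_eq_true]
    refine ⟨_, ha, ?_⟩
    rw [List.any_eq_true]
    refine ⟨_, hb, ?_⟩
    rw [Bool.and_eq_true]
    exact ⟨by simpa using hst, by simpa using hlk⟩
  have hsylP : ∀ x ∈ l.filter q, ∃ Q : Subgroup S, Q ≤ P ∧ Nat.card Q = x.1 ^ x.2 := by
    intro x hx
    obtain ⟨hxl, hxp, hxπ, -⟩ := hTl x hx
    have hxf : Fact x.1.Prime := ⟨hxp⟩
    obtain ⟨Q⟩ : Nonempty (Sylow x.1 P) := inferInstance
    refine ⟨(Q : Subgroup P).map P.subtype, map_subtype_le _, ?_⟩
    rw [card_map_of_injective P.subtype_injective, Q.card_eq_multiplicity]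
    congr 1
    have h2 : n.factorization x.1 = x.2 := by
      apply le_antisymm
      · by_contra hlt
        exact valid_exact hv _ hxl ((pow_dvd_pow x.1 (by omega)).trans (Nat.ordProj_dvd n x.1))
      · exact (hxp.pow_dvd_iff_le_factorization hn0.ne').1 (valid_dvd hv hxl)
    rw [← h2, hcard, mul_assoc, Nat.factorization_mul Nat.card_pos.ne' (by
      intro h0
      rw [mul_assoc, h0, mul_zero] at hcard
      omega), Finsupp.add_apply, Nat.factorization_eq_zero_of_not_dvd (n := k * h), add_zero]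
    exact (hπk.mul hπh) x.1 hxp hxπ
  have htst : tst n c j HL nf (l.filter q) k h = true := by
    unfold tst
    simp only [Bool.and_eq_true, beq_iff_eq]
    refine ⟨⟨⟨⟨⟨?_, ?_⟩, ?_⟩, hnn⟩, ?_⟩, ?_⟩
    · rw [← hPc]; exact hcard.symm
    · rw [List.all_eq_true]
      intro x hx
      obtain ⟨hxl, hxp, hxπ, -⟩ := hTl x hx
      simp only [Bool.and_eq_true, bne_iff_ne]
      exact ⟨fun h0 => hπk x.1 hxp hxπ (Nat.dvd_of_mod_eq_zero h0), fun h0 => hπh x.1 hxp hxπ (Nat.dvd_of_mod_eq_zero h0)⟩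
    · rw [bne_iff_ne]
      intro h0
      apply hjK
      have h1 : 2 ^ j * c ∣ Nat.card (ip K) * c := (Nat.dvd_of_mod_eq_zero h0).trans hkc
      exact Nat.dvd_of_mul_dvd_mul_right (Nat.pos_of_ne_zero hc0) h1
    · unfold nfOK
      rw [List.all_eq_true]
      intro st hst
      rw [List.all_eq_true]
      intro x hx
      obtain ⟨hxl, hxp, hxπ, hx2⟩ := hTl x hx
      obtain ⟨hs, ht, hstne, hNF⟩ := hnf st hst
      by_cases hxs : x.1 = st.1
      swap
      · simp [hxs]
      have hNFx : NF S st.1 x.2 st.2 := hNF x.2 (by rw [← hxs]; exact hxl)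
      rw [Bool.or_eq_true, Bool.and_eq_true]
      right
      refine ⟨?_, ?_⟩
      · rw [List.all_eq_true]
        intro y hy
        obtain ⟨hyl, hyp, hyπ, hy2⟩ := hTl y hy
        by_cases hyt : y.1 = st.2
        swap
        · simp [hyt]
        by_contra hno
        simp only [Bool.or_eq_true, not_or, Bool.not_eq_true] at hno
        obtain ⟨⟨-, h1⟩, h2⟩ := hno
        have hxy : x.1 ≠ y.1 := by rw [hxs, hyt]; exact hstne
        have hp1 := hpair x hx y hy hxy h1
        have hp2 := hpair y hy x hx hxy.symm h2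
        obtain ⟨Q, hQ, z, hz, hQz⟩ := exists_cent (a := x.2) C.two C.hall hxp hyp hxy hxπ hyπ
          (by rw [hn]; exact valid_dvd hv hxl) (by rw [hn]; exact valid_exact hv _ hxl)
          (by
            rw [hn]
            exact (dvd_pow_self y.1 (hl1 y hyl)).trans (valid_dvd hv hyl)) hp1 hp2
        rw [hxs] at hQ
        rw [hyt] at hz
        exact hNFx Q hQ z hz hQz
      · by_cases htT : ((l.filter q).any fun y => y.1 == st.2) = true
        · rw [htT, Bool.true_or]
        rw [Bool.or_eq_true]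
        right
        rw [bne_iff_ne]
        intro h0
        have h1 := (Nat.dvd_of_mod_eq_zero h0).trans hkc
        have h2 : st.2 ∣ Nat.card (ip K) := by
          by_cases hct : c % st.2 = 0
          · rw [if_pos (by simpa using hct)] at h1
            have h3 : st.2 ∣ c := Nat.dvd_of_mod_eq_zero hct
            have h4 : c = st.2 := by
              rcases hc with rfl | rfl
              · exact absurd (Nat.dvd_one.1 h3) ht.one_lt.ne'
              · exact ((Nat.prime_dvd_prime_iff_eq ht Nat.prime_two).1 h3).symm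
            rw [h4] at h1
            exact Nat.dvd_of_mul_dvd_mul_right ht.pos h1
          · rw [if_neg (by simpa using hct)] at h1
            rcases ht.dvd_mul.1 h1 with h3 | h3
            · exact h3
            · exact absurd (Nat.mod_eq_zero_of_dvd h3) hct
        obtain ⟨y, hy, hPy⟩ := hipK st.2 ht h2
        obtain ⟨Q, hQP, hQ⟩ := hsylP x hx
        rw [hxs] at hQ
        exact hNFx Q hQ y hy fun z hz => hPy z (hQP hz)
    · rw [List.all_eq_true]
      intro p hp
      obtain ⟨hIso, hlist⟩ := hHL p hp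
      have hrf : Fact p.1.Prime := ⟨hIso.prime⟩
      obtain ⟨x₀, hS⟩ := hIso.sit hn
      have hm : n / p.1 ≠ 1 := by
        intro h1
        have h2 : n = p.1 := by
          obtain ⟨m, hm⟩ := hIso.dvd
          rw [hm, Nat.mul_div_cancel_left _ hIso.prime.pos] at h1
          rw [hm, h1, mul_one]
        have h3 : Nat.card P = p.1 := by
          have h4 : Nat.card P ∣ p.1 := by rw [← h2]; exact hPn
          rcases (Nat.dvd_prime hIso.prime).1 h4 with h5 | h5
          · exact absurd h5 hP1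
          · exact h5
        apply C.nnil
        have : Fact (p.1).Prime := ⟨hIso.prime⟩
        have h5 : IsPGroup p.1 P := IsPGroup.of_card (n := 1) (by rw [h3, pow_one])
        exact h5.isNilpotent
      by_cases hT : ((l.filter q).any fun x => x.1 == p.1) = true
      · rw [if_pos hT, Bool.and_eq_true, beq_iff_eq, List.all_eq_true]
        rw [List.any_eq_true] at hT
        obtain ⟨w, hw, hwp⟩ := hT
        rw [beq_iff_eq] at hwp
        obtain ⟨hwl, -, hwπ, -⟩ := hTl w hw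
        rw [hwp] at hwπ
        -- `r` divides `|P|`
        have hrP : p.1 ∣ Nat.card P := by
          have h1 := hIso.dvd
          rw [hcard, mul_assoc] at h1
          rcases hIso.prime.dvd_mul.1 h1 with h2 | h2
          · exact h2
          · exact absurd h2 ((hπk.mul hπh) p.1 hIso.prime hwπ)
        obtain ⟨y, hy⟩ := exists_prime_orderOf_dvd_card' p.1 hrP
        have hy' : orderOf (y : S) = p.1 := by rw [Subgroup.orderOf_coe, hy]
        have hSy := hS.cent_of_orderOf hm hy'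
        refine ⟨?_, ?_⟩
        · -- `K₀ = 1`
          have h1 : Nat.card (ip K) ∣ p.1 := by
            rw [← hSy.cent]
            apply Subgroup.card_dvd_of_le
            intro z hz
            rw [mem_centralizer_singleton_iff]
            exact (mem_centralizer_iff.1 (hcent hz) (y : S) y.2).symm
          have h2 : Nat.card (ip K) = 1 := by
            rcases (Nat.dvd_prime hIso.prime).1 h1 with h3 | h3
            · exact h3
            · exfalso
              have h4 := card_ip_dvd hinj K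
              rw [h3] at h4
              exact C.piK p.1 hIso.prime hwπ h4
          rw [h2, one_mul] at hkc
          exact Nat.mod_eq_zero_of_dvd hkc
        · intro x hx
          obtain ⟨hxl, hxp, hxπ, hx2⟩ := hTl x hx
          obtain ⟨m', x', hS', hc', he⟩ := sub hS hm P hrP
          obtain ⟨N, o, d, h1, h2, h3, h4, h5, h6⟩ := str hS'
          have ho : o = p.1 := by
            rcases h4 with h4 | ⟨X, _, _, _, hnaX, hX⟩
            · exact h4
            · exfalso
              have hodd : PiN π (Nat.card X) := hPπ.of_dvd (by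
                rw [hX, h1]
                exact Dvd.intro _ (by ring : o * (N * d) = N * o * d))
              have hsol := solvable_of_pi C.two hodd
              exact hnaX fun a b => (IsSimpleGroup.comm_iff_isSolvable.2 hsol) a b
          unfold compat
          rw [Bool.or_eq_true]
          by_cases hxr : x.1 = p.1
          · left; simpa using hxr
          right
          rw [ho, Nat.div_self hIso.prime.pos, Nat.mod_eq_of_lt hIso.prime.one_lt, mul_one] at h6
          have hP0 : Nat.card P ≠ 0 := Nat.card_pos.ne'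
          have hN0 : N ≠ 0 := by rintro rfl; apply hP0; rw [h1]; ring
          have hd0 : d ≠ 0 := by rintro rfl; apply hP0; rw [h1]; ring
          have hxf : (Nat.card P).factorization x.1 = x.2 := by
            have h2 : n.factorization x.1 = x.2 := by
              apply le_antisymm
              · by_contra hlt
                exact valid_exact hv _ hxl ((pow_dvd_pow x.1 (by omega)).trans (Nat.ordProj_dvd n x.1))
              · exact (hxp.pow_dvd_iff_le_factorization hn0.ne').1 (valid_dvd hv hxl)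
            rw [← h2, hcard, mul_assoc, Nat.factorization_mul Nat.card_pos.ne' (by
              intro h0
              rw [mul_assoc, h0, mul_zero] at hcard
              omega), Finsupp.add_apply, Nat.factorization_eq_zero_of_not_dvd (n := k * h), add_zero]
            exact (hπk.mul hπh) x.1 hxp hxπ
          have hsum : N.factorization x.1 + d.factorization x.1 = x.2 := by
            rw [← hxf, h1, ho, Nat.factorization_mul (mul_ne_zero hN0 hIso.prime.ne_zero) hd0,
              Nat.factorization_mul hN0 hIso.prime.ne_zero, Finsupp.add_apply, Finsupp.add_apply,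
              Nat.factorization_eq_zero_of_not_dvd (n := p.1) (fun hd =>
                hxr ((Nat.prime_dvd_prime_iff_eq hxp hIso.prime).1 hd)), add_zero]
          rw [List.any_eq_true]
          refine ⟨d.factorization x.1, List.mem_range.2 (by omega), ?_⟩
          rw [Bool.and_eq_true, beq_iff_eq, beq_iff_eq]
          refine ⟨?_, ?_⟩
          · apply Nat.mod_eq_zero_of_dvd
            refine (Nat.ordProj_dvd d x.1).trans ?_
            rw [h6]; exact he
          · rw [show x.2 - d.factorization x.1 = N.factorization x.1 by omega]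
            exact h3 x.1 hxp
      · rw [if_neg hT, List.contains_iff_mem]
        apply hlist
        have hrπ : p.1 ∉ π := by
          intro hrπ
          apply hT
          obtain ⟨a, ha⟩ := hmemT p.1 hIso.prime hrπ hIso.dvd
          rw [List.any_eq_true]
          exact ⟨_, ha, by simp⟩
        have hrh : p.1 ∣ h := by
          have h1 := hIso.dvd
          rw [hcard] at h1
          rcases hIso.prime.dvd_mul.1 h1 with h2 | h2
          · exfalso
            rcases hIso.prime.dvd_mul.1 h2 with h3 | h3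
            · exact hrπ (hPπ p.1 hIso.prime h3)
            · rcases hIso.prime.dvd_mul.1 (h3.trans hkc) with h4 | h4
              · obtain ⟨y, hy, hPy⟩ := hipK p.1 hIso.prime h4
                have hSy := hS.cent_of_orderOf hm hy
                have h5 : Nat.card P ∣ p.1 := by
                  rw [← hSy.cent]
                  apply Subgroup.card_dvd_of_le
                  intro z hz
                  rw [mem_centralizer_singleton_iff]
                  exact hPy z hz
                rcases (Nat.dvd_prime hIso.prime).1 h5 with h6 | h6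
                · exact hP1 h6
                · exact hrπ (hPπ p.1 hIso.prime (by rw [h6]))
              · rcases hc with rfl | rfl
                · exact hIso.prime.one_lt.ne' (Nat.dvd_one.1 h4)
                · exact hIso.ne_two ((Nat.prime_dvd_prime_iff_eq hIso.prime Nat.prime_two).1 h4)
          · exact h2
        refine card_mem_hs hv hnd hn hIso hL (ip B) hrh ?_
        show h < n
        have hk0 : 0 < k := Nat.pos_of_ne_zero (by intro h0; rw [h0, mul_zero, zero_mul] at hcard; omega)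
        have hh0 : 0 < h := Nat.card_pos
        have hP2 : 2 ≤ Nat.card P := by
          have : 0 < Nat.card P := Nat.card_pos
          omega
        rw [hcard]
        calc h < 2 * 1 * h := by omega
          _ ≤ Nat.card P * k * h := Nat.mul_le_mul_right _ (Nat.mul_le_mul hP2 hk0)
  exact ⟨q, k, h, hq, mem_of_chk hn0.ne' hA hB q hc0 (fun x hx hqx => (hTl x (List.mem_filter.2 ⟨hx, hqx⟩)).2.2.2) htst,
    rfl, hPc, hcard.symm⟩

end

end Cfsg.Agent.H583.DPi
end

private theorem dce_aa6fccc9d6e0 : _root_.True := by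
  try have : _root_.True := by simp only [_root_.Cfsg.Agent.H583.DPi.ns.eq_1]
  try have : _root_.True := by simp only [_root_.Cfsg.Agent.H583.DPi.subs.eq_def]
  try have : _root_.True := by simp only [_root_.Cfsg.Agent.H583.DPi.ns.eq_def]
  try have : _root_.True := by simp only [_root_.Cfsg.Agent.H583.DPi.ns.eq_2]
  try have : _root_.True := by simp only [_root_.Cfsg.Agent.H583.DPi.subs.eq_2]
  try have : _root_.True := by simp only [_root_.Cfsg.Agent.H583.DPi.subs.eq_1]
  exact _root_.True.intro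
end

-- part: H602/DP/Def
section
set_option linter.all false
open scoped Cfsg.Agent.FastGrp

/-!
# S4247, classical groups in characteristic not in `π`: definitions (helper602)

`TS ρ f Q t T` : `ρ : G → GL(V)` a full isometry group, `T` an abelian `t`-subgroup of `G` (`t` odd, `t ≠ char F`) which
contains all `t`-elements of `C_G(T)`.

`Mn ρ f T U` : `U` is a minimal nondegenerate `T`-invariant subspace on which `T` acts nontrivially.

`GV U` : the elements of `Sp_2m(F)` which are trivial on the orthogonal space of `U`.  `YS φ p T` : the subgroup generated by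
the `p`-elements which centralise `φ T`.

`cnt ρ T U` : the number of restrictions to `U` of the elements of `C_G(T)`.
-/

set_option autoImplicit false
set_option linter.unusedSectionVars false

namespace Cfsg.Agent.H602.DP

open Module Cfsg.Agent.H167.OP Cfsg.Agent.H170.HL Cfsg.Agent.H572.RV

variable {F : Type*} [Field F] [Finite F] {V : Type*} [AddCommGroup V] [Module F V] [Finite V]
  [FiniteDimensional F V] {G : Type*} [Group G] [Finite G]

structure TS (ρ : Representation F G V) (f : V →ₗ[F] V →ₗ[F] F) (Q : V → F) (t : ℕ) (T : Subgroup G) : Prop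
    extends IsoG ρ f Q where
  ht : t.Prime
  hto : Odd t
  htF : (t : F) ≠ 0
  hT : IsPGroup t T
  ab : ∀ a ∈ T, ∀ b ∈ T, a * b = b * a
  mx : ∀ y : G, (∃ k : ℕ, y ^ t ^ k = 1) → (∀ z ∈ T, z * y = y * z) → y ∈ T

/-- `T`-invariant subspaces -/
def Inv (ρ : Representation F G V) (T : Subgroup G) (U : Submodule F V) : Prop := ∀ z ∈ T, ∀ u ∈ U, ρ z u ∈ U

/-- minimal nondegenerate subspaces with a nontrivial action -/
structure Mn (ρ : Representation F G V) (f : V →ₗ[F] V →ₗ[F] F) (T : Subgroup G) (U : Submodule F V) : Prop where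
  inv : Inv ρ T U
  nd : ND f U
  act : ∃ z ∈ T, ∃ u ∈ U, ρ z u ≠ u
  min : ∀ X ≤ U, Inv ρ T X → ND f X → X = ⊥ ∨ X = U

/-- the number of restrictions to `U` of the elements of `C_G(T)` -/
noncomputable def cnt (ρ : Representation F G V) (T : Subgroup G) (U : Submodule F V) : ℕ :=
  Nat.card (Set.range fun u : Subgroup.centralizer (T : Set G) => (ρ (u : G)).domRestrict U)

section sp

open Matrix Subgroup

variable {F : Type*} [Field F] {m : ℕ}

/-- the elements which are trivial on the orthogonal space of `U` -/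
def GV (U : Submodule F (Fin m ⊕ Fin m → F)) : Subgroup (symplecticGroup (Fin m) F) where
  carrier := {g | ∀ w ∈ Orth (SpRow.frm m F) U, rep (SpRow.inc m F) g w = w}
  mul_mem' := fun {a b} ha hb w hw => by
    show rep (SpRow.inc m F) (a * b) w = w
    rw [mul_ap, hb w hw, ha w hw]
  one_mem' := fun w _ => one_ap _ w
  inv_mem' := fun {a} ha w hw => by
    show rep (SpRow.inc m F) a⁻¹ w = w
    nth_rewrite 1 [← ha w hw]
    rw [inv_ap]

/-- the subgroup of `S` generated by the `p`-elements which centralise `φ T` -/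
def YS {S : Type*} [Group S] (φ : symplecticGroup (Fin m) F →* S) (p : ℕ) (T : Subgroup (symplecticGroup (Fin m) F)) :
    Subgroup S :=
  closure {y | (∃ j : ℕ, y ^ p ^ j = 1) ∧ ∀ z ∈ T, φ z * y = y * φ z}

end sp

end Cfsg.Agent.H602.DP
end

-- part: H602/DP/Min
section
prune_inst 0x1f11031446c40100000180580f3001c62b200010200488400ac4206000fc90c62a940a861a3300512101888c420310040025c00900000000000000000011c008000011202b148a100020018000000000000000000000000000000000000000004000000000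
set_option linter.all false
open scoped Cfsg.Agent.FastGrp

/-!
# Minimal nondegenerate subspaces of an abelian Sylow subgroup (S4247, helper602)
-/

set_option autoImplicit false
set_option linter.unusedSectionVars false

namespace Cfsg.Agent.H602.DP

open Module Cfsg.Agent.H167.OP Cfsg.Agent.H170.HL Cfsg.Agent.H572.RV

variable {F : Type*} [Field F] [Finite F] {V : Type*} [AddCommGroup V] [Module F V] [Finite V]
  [FiniteDimensional F V] {G : Type*} [Group G] [Finite G]
  {ρ : Representation F G V} {f : V →ₗ[F] V →ₗ[F] F} {Q : V → F} {t : ℕ} {T : Subgroup G} {U : Submodule F V}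

theorem TS.card_ne (h : TS ρ f Q t T) : (Nat.card T : F) ≠ 0 := by
  have := Fact.mk h.ht
  obtain ⟨n, hn⟩ := IsPGroup.iff_card.mp h.hT
  rw [hn, Nat.cast_pow]
  exact pow_ne_zero _ h.htF

theorem TS.card_odd (h : TS ρ f Q t T) : Odd (Nat.card T) := by
  have := Fact.mk h.ht
  obtain ⟨n, hn⟩ := IsPGroup.iff_card.mp h.hT
  rw [hn]
  exact h.hto.pow

theorem Inv.map_eq {X : Submodule F V} (hX : Inv ρ T X) {z : G} (hz : z ∈ T) : X.map (ρ z) = X := by
  apply map_eq_of_le
  rintro _ ⟨x, hx, rfl⟩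
  exact hX z hz x hx

theorem Inv.inf {X Y : Submodule F V} (hX : Inv ρ T X) (hY : Inv ρ T Y) : Inv ρ T (X ⊓ Y) :=
  fun z hz u hu => ⟨hX z hz u hu.1, hY z hz u hu.2⟩

theorem Inv.orth (h : IsoG ρ f Q) {X : Submodule F V} (hX : Inv ρ T X) : Inv ρ T (Orth f X) := by
  intro z hz u hu x hx
  have h1 := hu _ (hX z⁻¹ (T.inv_mem hz) x hx)
  have h2 := h.iso z (ρ z⁻¹ x) u
  rw [ap_inv] at h2
  rw [h2, h1]

/-- Maschke -/
theorem maschke (hT : (Nat.card T : F) ≠ 0) {A : Submodule F V} (hA : Inv ρ T A) :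
    ∃ C, Inv ρ T C ∧ IsCompl A C := by
  classical
  have : Fintype T := Fintype.ofFinite _
  obtain ⟨C0, hC0⟩ := A.exists_isCompl
  let P : Module.End F V := A.subtype ∘ₗ A.projectionOnto C0 hC0
  have hP1 : ∀ v, P v ∈ A := fun v => (A.projectionOnto C0 hC0 v).2
  have hP2 : ∀ a ∈ A, P a = a := by
    intro a ha
    have h2 : A.projectionOnto C0 hC0 a = ⟨a, ha⟩ := Submodule.projectionOnto_apply_of_mem_left hC0 ha
    show ((A.projectionOnto C0 hC0 a : A) : V) = a
    rw [h2]
  let B : Module.End F V := (Nat.card T : F)⁻¹ • ∑ z : T, ρ (z : G) ∘ₗ P ∘ₗ ρ ((z : G)⁻¹)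
  have hB : ∀ v, B v = (Nat.card T : F)⁻¹ • ∑ z : T, ρ (z : G) (P (ρ ((z : G)⁻¹) v)) := by
    intro v
    simp only [B, LinearMap.sum_apply, _root_.Nat.card_eq_fintype_card, _root_.LinearMap.smul_apply, _root_.LinearMap.coe_comp, _root_.Function.comp_apply]
  have hB1 : ∀ v, B v ∈ A := by
    intro v
    rw [hB]
    exact A.smul_mem _ (A.sum_mem fun z _ => hA z z.2 _ (hP1 _))
  have hB2 : ∀ a ∈ A, B a = a := by
    intro a ha
    rw [hB]
    have h1 : ∀ z : T, ρ (z : G) (P (ρ ((z : G)⁻¹) a)) = a := by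
      intro z
      rw [hP2 _ (hA _ (T.inv_mem z.2) a ha), ap_inv]
    rw [Finset.sum_congr rfl fun z _ => h1 z, Finset.sum_const, Finset.card_univ, ← Nat.card_eq_fintype_card,
      ← Nat.cast_smul_eq_nsmul F, smul_smul, inv_mul_cancel₀ hT, one_smul]
  have hB3 : ∀ z ∈ T, ∀ v, B (ρ z v) = ρ z (B v) := by
    intro z hz v
    rw [hB, hB, map_smul, map_sum]
    congr 1
    refine Fintype.sum_equiv (Equiv.mulLeft (⟨z, hz⟩ : T)⁻¹) _ _ fun x => ?_
    rw [Equiv.coe_mulLeft]
    show ρ (x : G) (P (ρ ((x : G)⁻¹) (ρ z v))) = ρ z (ρ (z⁻¹ * (x : G)) (P (ρ ((z⁻¹ * (x : G))⁻¹) v)))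
    rw [mul_inv_rev, inv_inv, mul_ap, ap_inv, mul_ap ρ _ z]
  refine ⟨LinearMap.ker B, ?_, ?_⟩
  · intro z hz u hu
    rw [LinearMap.mem_ker] at hu ⊢
    rw [hB3 z hz, hu, map_zero]
  · constructor
    · rw [disjoint_iff, eq_bot_iff]
      rintro v ⟨hv1, hv2⟩
      rw [SetLike.mem_coe, LinearMap.mem_ker, hB2 v hv1] at hv2
      exact hv2
    · rw [codisjoint_iff, eq_top_iff]
      intro v _
      rw [Submodule.mem_sup]
      refine ⟨B v, hB1 v, v - B v, ?_, by abel⟩
      rw [LinearMap.mem_ker, map_sub, hB2 _ (hB1 v), sub_self]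

theorem maschke' (hT : (Nat.card T : F) ≠ 0) {A X : Submodule F V} (hA : Inv ρ T A) (hX : Inv ρ T X) (hAX : A ≤ X) :
    ∃ C ≤ X, Inv ρ T C ∧ A ⊓ C = ⊥ ∧ ∀ x ∈ X, ∃ a ∈ A, ∃ c ∈ C, x = a + c := by
  obtain ⟨C, hC, hAC⟩ := maschke hT hA
  refine ⟨C ⊓ X, inf_le_right, hC.inf hX, ?_, ?_⟩
  · rw [eq_bot_iff]
    intro v hv
    have : v ∈ A ⊓ C := ⟨hv.1, hv.2.1⟩
    rwa [hAC.inf_eq_bot] at this
  · intro x hx
    have : x ∈ A ⊔ C := by rw [hAC.sup_eq_top]; trivial
    rw [Submodule.mem_sup] at this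
    obtain ⟨a, ha, c, hc, rfl⟩ := this
    refine ⟨a, ha, c, ⟨hc, ?_⟩, rfl⟩
    have := X.sub_mem hx (hAX ha)
    rwa [add_sub_cancel_left] at this

/-- **A1** -/
theorem isotropic_of_proper (h : TS ρ f Q t T) (hU : Mn ρ f T U) {X : Submodule F V} (hX : X ≤ U)
    (hi : Inv ρ T X) (hne : X ≠ U) : ∀ x ∈ X, ∀ y ∈ X, f x y = 0 := by
  have hR : Inv ρ T (X ⊓ Orth f X) := hi.inf (hi.orth h.toIsoG)
  obtain ⟨C, hCX, hC, hdis, hdec⟩ := maschke' h.card_ne hR hi inf_le_left
  have hnd : ND f C := by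
    intro u hu hx
    have h1 : u ∈ X ⊓ Orth f X := by
      refine ⟨hCX hu, ?_⟩
      intro x hxX
      obtain ⟨r, hr, c, hc, rfl⟩ := hdec x hxX
      rw [map_add, LinearMap.add_apply, hx c hc, add_zero]
      exact h.toIsoG.refl _ _ (hr.2 u (hCX hu))
    have h2 : u ∈ (X ⊓ Orth f X) ⊓ C := ⟨h1, hu⟩
    rwa [hdis, Submodule.mem_bot] at h2
  rcases hU.min C (hCX.trans hX) hC hnd with h1 | h1
  · intro x hx y hy
    obtain ⟨r, hr, c, hc, rfl⟩ := hdec y hy
    rw [h1, Submodule.mem_bot] at hc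
    rw [hc, add_zero]
    exact hr.2 x hx
  · exact absurd (le_antisymm hX (h1 ▸ hCX)) hne

theorem pow_ap' {z : G} {v : V} (h : ρ z v = v) (n : ℕ) : ρ (z ^ n) v = v := pow_of_fixed h n

/-- elements of odd order -/
theorem fix_of_sq (hT : Odd (Nat.card T)) {z : G} (hz : z ∈ T) {v : V} (hv : ρ (z * z) v = v) : ρ z v = v := by
  obtain ⟨m, hm⟩ := hT
  have h1 : z ^ Nat.card T = 1 := by
    have := pow_card_eq_one' (x := (⟨z, hz⟩ : T))
    exact congrArg Subtype.val this
  have h2 : z = (z * z) ^ (m + 1) := by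
    rw [← pow_two, ← pow_mul, mul_add, mul_one, show 2 * m + 2 = Nat.card T + 1 by omega, pow_succ, h1, one_mul]
  rw [h2]
  exact pow_ap' hv _

/-- **A2** -/
theorem eigen (h : TS ρ f Q t T) (hU : Mn ρ f T U) {u : G} (hu : ∀ z ∈ T, z * u = u * z)
    (huU : ∀ x ∈ U, ρ u x ∈ U) {c : F} (hc : c * c = 1) :
    (∀ x ∈ U, ρ u x = c • x → x = 0) ∨ ∀ x ∈ U, ρ u x = c • x := by
  classical
  have hcomm : ∀ z ∈ T, ∀ v, ρ u (ρ z v) = ρ z (ρ u v) := by
    intro z hz v
    rw [← mul_ap, ← mul_ap, hu z hz]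
  have hcs : ∀ v : V, c • c • v = v := fun v => by rw [smul_smul, hc, one_smul]
  obtain ⟨ε, hε, hsym⟩ := h.sym
  let ν : Module.End F V := c • ρ u - 1
  have hν : ∀ v, ν v = c • ρ u v - v := fun v => rfl
  have hνT : ∀ z ∈ T, ∀ v, ν (ρ z v) = ρ z (ν v) := by
    intro z hz v
    rw [hν, hν, hcomm z hz, map_sub, map_smul]
  let N : Submodule F V := U ⊓ LinearMap.ker ν
  have hN : ∀ x, x ∈ N ↔ x ∈ U ∧ ρ u x = c • x := by
    intro x
    show x ∈ U ∧ ν x = 0 ↔ _
    rw [hν]
    constructor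
    · rintro ⟨h1, h2⟩
      refine ⟨h1, ?_⟩
      have h3 := sub_eq_zero.mp h2
      have h4 : c • c • ρ u x = c • x := congrArg (fun w => c • w) h3
      rwa [hcs] at h4
    · rintro ⟨h1, h2⟩
      refine ⟨h1, ?_⟩
      rw [h2, hcs, sub_self]
  by_contra hcon
  push Not at hcon
  obtain ⟨⟨n₀, hn₀U, hn₀, hn₀0⟩, x₁, hx₁, hx₁'⟩ := hcon
  have hNU : N ≤ U := inf_le_left
  have hNne : N ≠ U := by
    intro h0
    rw [← h0, hN] at hx₁
    exact hx₁' hx₁.2
  have hNi : Inv ρ T N := by
    intro z hz x hx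
    rw [hN] at hx ⊢
    exact ⟨hU.inv z hz x hx.1, by rw [hcomm z hz, hx.2, map_smul]⟩
  have hNiso := isotropic_of_proper h hU hNU hNi hNne
  -- the image
  have hνU : ∀ x ∈ U, ν x ∈ U := fun x hx => U.sub_mem (U.smul_mem _ (huU x hx)) hx
  let M : Submodule F V := U.map ν
  have hMU : M ≤ U := by
    rintro _ ⟨x, hx, rfl⟩
    exact hνU x hx
  have hMi : Inv ρ T M := by
    rintro z hz _ ⟨x, hx, rfl⟩
    exact ⟨ρ z x, hU.inv z hz x hx, hνT z hz x⟩
  have hNM : ∀ y ∈ N, ∀ x ∈ M, f y x = 0 := by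
    rintro y hy _ ⟨x, hx, rfl⟩
    rw [hν, map_sub, map_smul]
    have h1 := h.iso u y x
    rw [((hN y).mp hy).2, map_smul, LinearMap.smul_apply] at h1
    rw [h1, sub_self]
  have hMne : M ≠ U := by
    intro h0
    apply hn₀0
    apply hU.nd _ hn₀U
    intro x hx
    apply h.toIsoG.refl
    exact hNM n₀ ((hN _).mpr ⟨hn₀U, hn₀⟩) x (by rw [h0]; exact hx)
  have hMiso := isotropic_of_proper h hU hMU hMi hMne
  -- `ν ν = 0`
  have hνν : ∀ x ∈ U, ν x ∈ N := by
    intro y hy
    refine ⟨hνU y hy, ?_⟩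
    show ν (ν y) = 0
    -- `ν ν y = c u (c u y - 2 y) + ...`
    have h1 : ρ u⁻¹ (ν (ν y)) = 0 := by
      have h2 : ρ u⁻¹ (ν (ν y)) ∈ U := by
        -- `u⁻¹` preserves `U`
        have h3 : U.map (ρ u) = U := map_eq_of_le (by rintro _ ⟨x, hx, rfl⟩; exact huU x hx)
        exact mem_of_map (map_inv_of_map h3) (hνU _ (hνU y hy))
      apply hU.nd _ h2
      intro x hx
      have h3 := hMiso (ν x) ⟨x, hx, rfl⟩ (ν y) ⟨y, hy, rfl⟩
      -- both in terms of `f x (u y)`, `f x (u⁻¹ y)`, `f x y`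
      have h4 : f (ρ u x) y = f x (ρ u⁻¹ y) := by
        have := h.iso u x (ρ u⁻¹ y)
        rwa [ap_inv] at this
      have h5 := h.iso u x y
      rw [hν, hν, map_sub, map_sub, map_smul, LinearMap.sub_apply, LinearMap.sub_apply, map_smul,
        LinearMap.smul_apply, LinearMap.smul_apply, h5, h4] at h3
      simp only [smul_eq_mul] at h3
      have h6 : ρ u⁻¹ (ν (ν y)) = ρ u y - (2 * c) • y + ρ u⁻¹ y := by
        rw [hν, hν, map_sub, map_smul, inv_ap, smul_sub, hcs, map_sub, map_smul, inv_ap]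
        module
      rw [h6, map_add, map_sub, map_smul, smul_eq_mul]
      linear_combination (-c) * h3 + (-(f x) (ρ u y) - (f x) (ρ u⁻¹ y) + (f x y) * c) * hc
    have h2 := congrArg (ρ u) h1
    rwa [ap_inv, map_zero] at h2
  -- a complement
  obtain ⟨N', hN'U, hN'i, hdis, hdec⟩ := maschke' h.card_ne hNi hU.inv hNU
  have hN'ne : N' ≠ U := by
    intro h0
    apply hn₀0
    have h1 : n₀ ∈ N ⊓ N' := ⟨(hN _).mpr ⟨hn₀U, hn₀⟩, by rw [h0]; exact hn₀U⟩
    rwa [hdis, Submodule.mem_bot] at h1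
  have hN'iso := isotropic_of_proper h hU hN'U hN'i hN'ne
  have hN'lt : finrank F N' < finrank F U := Submodule.finrank_lt_finrank_of_lt (lt_of_le_of_ne hN'U hN'ne)
  -- the submodules `{x + z ν x}`
  have key : ∀ z ∈ T, ∀ x ∈ N', ∀ y ∈ N', f x (ρ z (ν y)) = - (ε * f y (ρ z (ν x))) := by
    intro z hz x hx y hy
    let X : Submodule F V := N'.map ((1 : Module.End F V) + ρ z ∘ₗ ν)
    have hXm : ∀ x ∈ N', x + ρ z (ν x) ∈ X := fun x hx => ⟨x, hx, rfl⟩
    have hXU : X ≤ U := by
      rintro _ ⟨x, hx, rfl⟩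
      exact U.add_mem (hN'U hx) (hU.inv z hz _ (hνU _ (hN'U hx)))
    have hXi : Inv ρ T X := by
      rintro z' hz' _ ⟨x, hx, rfl⟩
      refine ⟨ρ z' x, hN'i z' hz' x hx, ?_⟩
      show ρ z' x + ρ z (ν (ρ z' x)) = ρ z' (x + ρ z (ν x))
      rw [hνT z' hz', map_add, ← mul_ap, ← mul_ap, h.ab z hz z' hz']
    have hXne : X ≠ U := by
      intro h0
      have h1 : finrank F X ≤ finrank F N' := Submodule.finrank_map_le _ _
      rw [h0] at h1
      omega
    have h1 := isotropic_of_proper h hU hXU hXi hXne _ (hXm x hx) _ (hXm y hy)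
    have h2 : f (ρ z (ν x)) (ρ z (ν y)) = 0 := by
      rw [h.iso]
      exact hNiso _ (hνν x (hN'U hx)) _ (hνν y (hN'U hy))
    rw [map_add, map_add, LinearMap.add_apply, LinearMap.add_apply, hN'iso x hx y hy, h2, zero_add, add_zero] at h1
    rw [hsym (ρ z (ν x)) y] at h1
    linear_combination h1
  -- `T` is trivial on `N'`
  have hN'T : ∀ z ∈ T, ∀ y ∈ N', ρ z y = y := by
    intro z hz y hy
    apply fix_of_sq h.card_odd hz
    have hyi : ρ z⁻¹ y ∈ N' := hN'i _ (T.inv_mem hz) y hy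
    have hw : ν (ρ z y - ρ z⁻¹ y) = 0 := by
      have hwN : ν (ρ z y - ρ z⁻¹ y) ∈ N := hνν _ (U.sub_mem (hN'U (hN'i z hz y hy)) (hN'U hyi))
      apply hU.nd _ (hNU hwN)
      intro x hx
      obtain ⟨n, hn, x', hx', rfl⟩ := hdec x hx
      rw [map_add, LinearMap.add_apply, hNiso n hn _ hwN, zero_add, map_sub, map_sub, hνT z hz,
        key z hz x' hx' y hy]
      have h1 := key 1 T.one_mem x' hx' _ hyi
      rw [one_ap, one_ap] at h1
      rw [h1]
      have h2 := h.iso z (ρ z⁻¹ y) (ν x')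
      rw [ap_inv] at h2
      rw [h2]
      ring
    have h1 : ρ z y - ρ z⁻¹ y ∈ N ⊓ N' :=
      ⟨⟨U.sub_mem (hN'U (hN'i z hz y hy)) (hN'U hyi), hw⟩, N'.sub_mem (hN'i z hz y hy) hyi⟩
    rw [hdis, Submodule.mem_bot, sub_eq_zero] at h1
    rw [mul_ap, h1, ap_inv]
  -- `T` is trivial on `N`
  have hNT : ∀ z ∈ T, ∀ n ∈ N, ρ z n = n := by
    intro z hz n hn
    rw [← sub_eq_zero]
    have h1 : ρ z n - n ∈ N := N.sub_mem (hNi z hz n hn) hn
    apply hU.nd _ (hNU h1)
    intro x hx
    obtain ⟨n', hn', x', hx', rfl⟩ := hdec x hx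
    rw [map_add, LinearMap.add_apply, hNiso n' hn' _ h1, zero_add, map_sub]
    have h2 := h.iso z x' n
    rw [hN'T z hz x' hx'] at h2
    rw [h2, sub_self]
  obtain ⟨z, hz, x, hx, hne⟩ := hU.act
  obtain ⟨n, hn, x', hx', rfl⟩ := hdec x hx
  apply hne
  rw [map_add, hNT z hz n hn, hN'T z hz x' hx']

/-- **A3** -/
theorem map_mem (h : TS ρ f Q t T) (hU : Mn ρ f T U) {u : G} (hu : ∀ z ∈ T, z * u = u * z) :
    ∀ x ∈ U, ρ u x ∈ U := by
  obtain ⟨z, hz, x₀, hx₀, hne⟩ := hU.act
  obtain ⟨k, hk⟩ := h.toIsoG.exists_part hU.nd (hU.inv z hz)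
  have hzt : ∃ m : ℕ, z ^ t ^ m = 1 := by
    obtain ⟨m, hm⟩ := h.hT ⟨z, hz⟩
    exact ⟨m, congrArg Subtype.val hm⟩
  have hkt := hk.tel (t := t) h.toIsoG hU.nd (hU.inv z hz) hzt
  have hkc : ∀ z' ∈ T, z' * k = k * z' := by
    intro z' hz'
    have h1 := hk.conj h.toIsoG z'
    rw [hU.inv.map_eq hz', h.ab z' hz' z hz, mul_inv_cancel_right] at h1
    have h2 := h1.unique h.inj hU.nd hk
    calc z' * k = (z' * k * z'⁻¹) * z' := by group
      _ = k * z' := by rw [h2]
  have hkT : k ∈ T := h.mx k hkt hkc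
  have hsU : sp ρ k ≤ U := hk.sp_le hU.nd (hU.inv z hz)
  have hsi : Inv ρ T (sp ρ k) := fun z' hz' v hv => map_mem_of_comm (hkc z' hz') hv
  have hsn : ND f (sp ρ k) := nd_sp h.toIsoG h.htF hkt
  rcases hU.min _ hsU hsi hsn with h1 | h1
  · exfalso
    rw [sp_eq_bot h.inj] at h1
    apply hne
    rw [← hk.1 x₀ hx₀, h1, one_ap]
  · intro x hx
    rw [← h1] at hx ⊢
    exact map_mem_of_comm (hu k hkT).symm hx

end Cfsg.Agent.H602.DP
end

-- part: H735/DP/List_mg
section
prune_inst 0x1f11071445c62100000180582e3001c22a2000100004884002c0204000d894c20a940a82181200500108000c440310040035c00900000000000000400011c00a080805002a348010426001f000000000000000000000000000000000000000004000000000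
set_option linter.all false
open scoped Cfsg.Agent.FastGrp

-- part: H735/DP/List
section
/-!
# S4247, parts C and D (helper735)

Decomposition of a nondegenerate `T`-invariant subspace into minimal ones; `p`-elements of `C_G(T)` are trivial on
`[V, T]`.  The lemmas A2, A3 and B on minimal subspaces are hypotheses here.
-/

set_option autoImplicit false
set_option linter.unusedSectionVars false

namespace Cfsg.Agent.H735.DP

open Module Cfsg.Agent.H167.OP Cfsg.Agent.H170.HL Cfsg.Agent.H572.RV Cfsg.Agent.H602.DP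

variable {F : Type*} [Field F] [Finite F] {V : Type*} [AddCommGroup V] [Module F V] [Finite V]
  [FiniteDimensional F V] {G : Type*} [Group G] [Finite G]
  {ρ : Representation F G V} {f : V →ₗ[F] V →ₗ[F] F} {Q : V → F} {t : ℕ} {T : Subgroup G} {U : Submodule F V}

/-- the statement of lemma A2 -/
def A2 (ρ : Representation F G V) (f : V →ₗ[F] V →ₗ[F] F) (T : Subgroup G) : Prop :=
  ∀ U : Submodule F V, Mn ρ f T U → ∀ u : G, (∀ z ∈ T, z * u = u * z) → (∀ x ∈ U, ρ u x ∈ U) →
    ∀ c : F, c * c = 1 → (∀ x ∈ U, ρ u x = c • x → x = 0) ∨ ∀ x ∈ U, ρ u x = c • x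

/-- the statement of lemma A3 -/
def A3 (ρ : Representation F G V) (f : V →ₗ[F] V →ₗ[F] F) (T : Subgroup G) : Prop :=
  ∀ U : Submodule F V, Mn ρ f T U → ∀ u : G, (∀ z ∈ T, z * u = u * z) → ∀ x ∈ U, ρ u x ∈ U

/-- the statement of lemma B -/
def B (ρ : Representation F G V) (f : V →ₗ[F] V →ₗ[F] F) (T : Subgroup G) : Prop :=
  ∀ U : Submodule F V, Mn ρ f T U → cnt ρ T U ≤ Nat.card F ^ (finrank F U / 2) + 1

theorem exists_mn (hi : _root_.Cfsg.Agent.H602.DP.Inv ρ T U) (hnd : ND f U) (h0 : ∀ u ∈ U, (∀ z ∈ T, ρ z u = u) → u = 0) (hU : U ≠ ⊥) :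
    ∃ U₁ ≤ U, U₁ ≠ ⊥ ∧ Mn ρ f T U₁ := by
  have hfin : Finite (Submodule F V) := inferInstance
  let S : Set (Submodule F V) := {X | X ≤ U ∧ X ≠ ⊥ ∧ _root_.Cfsg.Agent.H602.DP.Inv ρ T X ∧ ND f X}
  have hS : S.Nonempty := ⟨U, le_rfl, hU, hi, hnd⟩
  obtain ⟨X, hXS, hXm⟩ := (Set.toFinite S).exists_minimal hS
  obtain ⟨hXU, hX0, hXi, hXn⟩ := hXS
  refine ⟨X, hXU, hX0, hXi, hXn, ?_, ?_⟩
  · by_contra hcon
    push Not at hcon
    apply hX0
    rw [eq_bot_iff]
    intro x hx
    rw [Submodule.mem_bot]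
    exact h0 x (hXU hx) fun z hz => hcon z hz x hx
  · intro Y hY hYi hYn
    by_cases hY0 : Y = ⊥
    · exact Or.inl hY0
    · right
      have hYS : Y ∈ S := ⟨hY.trans hXU, hY0, hYi, hYn⟩
      exact le_antisymm hY (hXm hYS hY)

theorem inv_Orth (h : FRep ρ f) (hi : _root_.Cfsg.Agent.H602.DP.Inv ρ T U) : _root_.Cfsg.Agent.H602.DP.Inv ρ T (Orth f U) := by
  intro z hz w hw u hu
  have h1 := h.iso z (ρ z⁻¹ u) w
  rw [ap_inv] at h1
  rw [h1]
  exact hw _ (hi _ (T.inv_mem hz) u hu)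

section compl

variable {U₁ : Submodule F V}

theorem decomp' (hU : U₁ ≤ U) (hn : ND f U₁) {u : V} (hu : u ∈ U) :
    ∃ a ∈ U₁, ∃ b ∈ U ⊓ Orth f U₁, u = a + b := by
  obtain ⟨a, ha, b, hb, rfl⟩ := decomp hn u
  refine ⟨a, ha, b, ⟨?_, hb⟩, rfl⟩
  have := U.sub_mem hu (hU ha)
  rwa [add_sub_cancel_left] at this

theorem nd_compl (hU : U₁ ≤ U) (hn : ND f U₁) (hnd : ND f U) : ND f (U ⊓ Orth f U₁) := by
  intro u hu hx
  apply hnd u hu.1
  intro x hxU
  obtain ⟨a, ha, b, hb, rfl⟩ := decomp' hU hn hxU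
  rw [map_add, LinearMap.add_apply, hu.2 a ha, hx b hb, add_zero]

theorem inv_compl (h : FRep ρ f) (hi : _root_.Cfsg.Agent.H602.DP.Inv ρ T U) (hi₁ : _root_.Cfsg.Agent.H602.DP.Inv ρ T U₁) : _root_.Cfsg.Agent.H602.DP.Inv ρ T (U ⊓ Orth f U₁) :=
  fun z hz u hu => ⟨hi z hz u hu.1, inv_Orth h hi₁ z hz u hu.2⟩

theorem finrank_compl (hU : U₁ ≤ U) (hn : ND f U₁) :
    finrank F U₁ + finrank F (U ⊓ Orth f U₁ : Submodule F V) = finrank F U := by
  rw [← Submodule.finrank_sup_add_finrank_inf_eq]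
  have h1 : U₁ ⊔ U ⊓ Orth f U₁ = U := by
    apply le_antisymm (sup_le hU inf_le_left)
    intro u hu
    obtain ⟨a, ha, b, hb, rfl⟩ := decomp' hU hn hu
    exact Submodule.add_mem_sup ha hb
  have h2 : U₁ ⊓ (U ⊓ Orth f U₁) = ⊥ := by
    rw [eq_bot_iff]
    rintro x ⟨hx, -, hx'⟩
    rw [Submodule.mem_bot]
    exact hn x hx hx'
  rw [h1, h2, finrank_bot, add_zero]

theorem cnt_mul (hU : U₁ ≤ U) (hn : ND f U₁) : cnt ρ T U ≤ cnt ρ T U₁ * cnt ρ T (U ⊓ Orth f U₁) := by
  classical
  unfold cnt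
  rw [← Nat.card_prod]
  let C := Subgroup.centralizer (T : Set G)
  let R (W : Submodule F V) : Set (W →ₗ[F] V) := Set.range fun u : C => (ρ (u : G)).domRestrict W
  have hch : ∀ A : R U, ∃ u : C, (ρ (u : G)).domRestrict U = A.1 := fun A => A.2
  choose g hg using hch
  let φ : R U → R U₁ × R (U ⊓ Orth f U₁) := fun A => (⟨_, ⟨g A, rfl⟩⟩, ⟨_, ⟨g A, rfl⟩⟩)
  refine Nat.card_le_card_of_injective φ ?_
  intro A A' hAA
  have h1 := congrArg (fun p => p.1.1) hAA
  have h2 := congrArg (fun p => p.2.1) hAA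
  apply Subtype.ext
  rw [← hg A, ← hg A']
  apply LinearMap.ext
  rintro ⟨u, hu⟩
  obtain ⟨a, ha, b, hb, rfl⟩ := decomp' hU hn hu
  have h3 : ρ (g A : G) a = ρ (g A' : G) a := LinearMap.congr_fun h1 ⟨a, ha⟩
  have h4 : ρ (g A : G) b = ρ (g A' : G) b := LinearMap.congr_fun h2 ⟨b, hb⟩
  show ρ (g A : G) (a + b) = ρ (g A' : G) (a + b)
  rw [map_add, map_add, h3, h4]

end compl

/-- fixed points of a group of prime power order on a subspace -/
theorem card_mod {r : ℕ} (hr : r.Prime) {u : G} (hu : ∃ k : ℕ, u ^ r ^ k = 1) (hU : ∀ x ∈ U, ρ u x ∈ U) :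
    Nat.card F ^ finrank F U ≡ Nat.card {x : U // ρ u x = x} [MOD r] := by
  classical
  have := Fact.mk hr
  obtain ⟨k, hk⟩ := hu
  have hpow : ∀ n : ℕ, ∀ x ∈ U, ρ (u ^ n) x ∈ U := by
    intro n
    induction n with
    | zero => intro x hx; rwa [pow_zero, one_ap]
    | succ n ih => intro x hx; rw [pow_succ, mul_ap]; exact ih _ (hU x hx)
  have hP : IsPGroup r (Subgroup.zpowers u) := by
    rintro ⟨_, n, rfl⟩
    refine ⟨k, Subtype.ext ?_⟩
    show ((u ^ n) ^ r ^ k : G) = 1
    rw [← zpow_natCast, ← zpow_mul, mul_comm, zpow_mul, zpow_natCast, hk, one_zpow]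
  have hz : ∀ g ∈ Subgroup.zpowers u, ∀ x ∈ U, ρ g x ∈ U := by
    intro g hg x hx
    rw [mem_zpowers_iff_mem_range_orderOf] at hg
    rw [Finset.mem_image] at hg
    obtain ⟨n, -, rfl⟩ := hg
    exact hpow n x hx
  let : MulAction (Subgroup.zpowers u) U :=
    { smul := fun g x => ⟨ρ (g : G) x, hz g g.2 x x.2⟩
      one_smul := fun x => Subtype.ext (one_ap ρ _)
      mul_smul := fun a b x => Subtype.ext (mul_ap ρ _ _ _) }
  have h1 := hP.card_modEq_card_fixedPoints U
  rw [Module.natCard_eq_pow_finrank (K := F)] at h1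
  have h2 : Nat.card (MulAction.fixedPoints (Subgroup.zpowers u) U) = Nat.card {x : U // ρ u x = x} := by
    refine Nat.card_congr (Equiv.subtypeEquivRight ?_)
    intro x
    constructor
    · intro hx
      exact congrArg Subtype.val (hx ⟨u, Subgroup.mem_zpowers u⟩)
    · intro hx g
      apply Subtype.ext
      show ρ (g : G) x = x
      obtain ⟨g, hg⟩ := g
      rw [mem_zpowers_iff_mem_range_orderOf, Finset.mem_image] at hg
      obtain ⟨n, -, rfl⟩ := hg
      show ρ (u ^ n) x = x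
      clear hg
      induction n with
      | zero => rw [pow_zero, one_ap]
      | succ n ih => rw [pow_succ, mul_ap, hx, ih]
  rwa [h2] at h1

/-- `t ∣ q ^ dim U - 1` -/
theorem dvd_of_mn (h : TS ρ f Q t T) (hA2 : A2 ρ f T) (hU : Mn ρ f T U) : t ∣ Nat.card F ^ finrank F U - 1 := by
  obtain ⟨z, hz, u, hu, hne⟩ := hU.act
  have hzt : ∃ k : ℕ, z ^ t ^ k = 1 := by
    obtain ⟨k, hk⟩ := h.hT ⟨z, hz⟩
    exact ⟨k, congrArg Subtype.val hk⟩
  have h1 := card_mod h.ht hzt (hU.inv z hz) (F := F)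
  have h2 : ∀ x ∈ U, ρ z x = x → x = 0 := by
    rcases hA2 U hU z (fun a ha => h.ab a ha z hz) (hU.inv z hz) 1 (one_mul 1) with h3 | h3
    · intro x hx hxx
      exact h3 x hx (by rw [hxx, one_smul])
    · exact absurd (by rw [h3 u hu, one_smul]) hne
  have h3 : Nat.card {x : U // ρ z x = x} = 1 := by
    rw [Nat.card_eq_one_iff_unique]
    refine ⟨⟨fun a b => ?_⟩, ⟨⟨0, by simp only [_root_.ZeroMemClass.coe_zero, _root_.map_zero]⟩⟩⟩
    apply Subtype.ext
    apply Subtype.ext
    rw [h2 _ a.1.2 a.2, h2 _ b.1.2 b.2]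
  rw [h3] at h1
  exact (Nat.modEq_iff_dvd' (Nat.one_le_pow _ _ Nat.card_pos)).mp h1.symm

theorem cnt_bot : cnt ρ T (⊥ : Submodule F V) ≤ 1 := by
  unfold cnt
  rw [Finite.card_le_one_iff_subsingleton]
  refine ⟨fun a b => Subtype.ext (LinearMap.ext fun x => ?_)⟩
  rw [Subsingleton.elim x 0, map_zero, map_zero]

/-- **Lemma C** -/
theorem exists_list_of (h : TS ρ f Q t T) (hA2 : A2 ρ f T) (hB : B ρ f T) (hi : _root_.Cfsg.Agent.H602.DP.Inv ρ T U) (hnd : ND f U)
    (h0 : ∀ u ∈ U, (∀ z ∈ T, ρ z u = u) → u = 0) :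
    ∃ l : List ℕ, l.sum = finrank F U ∧
      (∀ d ∈ l, ∃ U' ≤ U, Mn ρ f T U' ∧ finrank F U' = d ∧ t ∣ Nat.card F ^ d - 1) ∧
      cnt ρ T U ≤ (l.map fun d => Nat.card F ^ (d / 2) + 1).prod := by
  induction hn : finrank F U using Nat.strong_induction_on generalizing U with
  | _ n ih =>
    by_cases hU : U = ⊥
    · subst hU
      rw [finrank_bot] at hn
      subst hn
      exact ⟨[], rfl, fun d hd => absurd hd List.not_mem_nil, by simpa only [_root_.List.map_nil, _root_.List.prod_nil] using cnt_bot⟩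
    · obtain ⟨U₁, hU₁, hne, hmn⟩ := exists_mn hi hnd h0 hU
      have hfr := finrank_compl hU₁ hmn.nd
      have hpos : 0 < finrank F U₁ := by
        rw [Nat.pos_iff_ne_zero]
        intro h1
        exact hne (Submodule.finrank_eq_zero.mp h1)
      obtain ⟨l, hl1, hl2, hl3⟩ := ih (finrank F (U ⊓ Orth f U₁ : Submodule F V)) (by omega)
        (inv_compl h.toFRep hi hmn.inv) (nd_compl hU₁ hmn.nd hnd) (fun u hu => h0 u hu.1) rfl
      refine ⟨finrank F U₁ :: l, ?_, ?_, ?_⟩
      · rw [List.sum_cons, hl1, hfr, hn]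
      · intro d hd
        rcases List.mem_cons.mp hd with rfl | hd
        · exact ⟨U₁, hU₁, hmn, rfl, dvd_of_mn h hA2 hmn⟩
        · obtain ⟨U', hU', h1⟩ := hl2 d hd
          exact ⟨U', hU'.trans inf_le_left, h1⟩
      · rw [List.map_cons, List.prod_cons]
        exact (cnt_mul hU₁ hmn.nd).trans (Nat.mul_le_mul (hB U₁ hmn) hl3)

/-- `p`-elements of the centraliser of `T` are trivial on minimal subspaces -/
theorem pel_mn (hA2 : A2 ρ f T) (hA3 : A3 ρ f T) {p : ℕ} (hp : p.Prime) [CharP F p] {u : G}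
    (hu : ∀ z ∈ T, z * u = u * z) (hup : ∃ j : ℕ, u ^ p ^ j = 1) (hU : Mn ρ f T U) (hne : U ≠ ⊥) :
    ∀ x ∈ U, ρ u x = x := by
  have hinv := hA3 U hU u hu
  have h1 := card_mod hp hup hinv (F := F)
  have hd : finrank F U ≠ 0 := fun h2 => hne (Submodule.finrank_eq_zero.mp h2)
  have hq : p ∣ Nat.card F := by
    rw [← CharP.cast_eq_zero_iff F p]
    have h3 : Nat.card F • (1 : F) = 0 := card_nsmul_eq_zero'
    rwa [nsmul_one] at h3
  have h2 : p ∣ Nat.card {x : U // ρ u x = x} :=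
    (h1.dvd_iff dvd_rfl).mp (dvd_pow hq hd)
  have h3 : 1 < Nat.card {x : U // ρ u x = x} := by
    have h4 : 0 < Nat.card {x : U // ρ u x = x} := by
      have : Nonempty {x : U // ρ u x = x} := ⟨⟨0, by simp⟩⟩
      exact Nat.card_pos
    exact lt_of_lt_of_le hp.one_lt (Nat.le_of_dvd h4 h2)
  rcases hA2 U hU u hu hinv 1 (one_mul 1) with h4 | h4
  · exfalso
    have h5 : Nat.card {x : U // ρ u x = x} ≤ 1 := by
      rw [Finite.card_le_one_iff_subsingleton]
      refine ⟨fun a b => ?_⟩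
      apply Subtype.ext
      apply Subtype.ext
      rw [h4 _ a.1.2 (by rw [a.2, one_smul]), h4 _ b.1.2 (by rw [b.2, one_smul])]
    omega
  · intro x hx
    rw [h4 x hx, one_smul]

theorem pel_sub (h : FRep ρ f) (hA2 : A2 ρ f T) (hA3 : A3 ρ f T) {p : ℕ} (hp : p.Prime) [CharP F p] {u : G}
    (hu : ∀ z ∈ T, z * u = u * z) (hup : ∃ j : ℕ, u ^ p ^ j = 1) (hi : _root_.Cfsg.Agent.H602.DP.Inv ρ T U) (hnd : ND f U)
    (h0 : ∀ u ∈ U, (∀ z ∈ T, ρ z u = u) → u = 0) : ∀ x ∈ U, ρ u x = x := by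
  induction hn : finrank F U using Nat.strong_induction_on generalizing U with
  | _ n ih =>
    by_cases hU : U = ⊥
    · subst hU
      intro x hx
      rw [Submodule.mem_bot] at hx
      rw [hx, map_zero]
    · obtain ⟨U₁, hU₁, hne, hmn⟩ := exists_mn hi hnd h0 hU
      have hfr := finrank_compl hU₁ hmn.nd
      have hpos : 0 < finrank F U₁ := by
        rw [Nat.pos_iff_ne_zero]
        intro h1
        exact hne (Submodule.finrank_eq_zero.mp h1)
      have h2 := ih (finrank F (U ⊓ Orth f U₁ : Submodule F V)) (by omega)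
        (inv_compl h hi hmn.inv) (nd_compl hU₁ hmn.nd hnd) (fun u hu => h0 u hu.1) rfl
      intro x hx
      obtain ⟨a, ha, b, hb, rfl⟩ := decomp' hU₁ hmn.nd hx
      rw [map_add, h2 b hb, pel_mn hA2 hA3 hp hu hup hmn hne a ha]

theorem inv_CV : _root_.Cfsg.Agent.H602.DP.Inv ρ T (CV ρ T) := by
  intro z hz v hv
  have h1 := (CV ρ T).add_mem (sub_mem_CV ρ hz v) hv
  rwa [sub_add_cancel] at h1

theorem nd_CV' (h : TS ρ f Q t T) : ND f (CV ρ T) :=
  nd_CV h.toIsoG (piN_Pi0 Nat.card_pos.ne' (piN_of_pgroup (F := F) h.ht h.hto h.htF h.hT)).2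

theorem fix_CV (h : TS ρ f Q t T) : ∀ u ∈ CV ρ T, (∀ z ∈ T, ρ z u = u) → u = 0 := fun u hu hz =>
  nd_CV' h u hu fun x hx => ((mem_Orth_CV h.toIsoG).mpr hz : u ∈ Orth f (CV ρ T)) x hx

/-- **Lemma D** -/
theorem pel_of (h : TS ρ f Q t T) (hA2 : A2 ρ f T) (hA3 : A3 ρ f T) {p : ℕ} (hp : p.Prime) [CharP F p] {u : G}
    (hu : ∀ z ∈ T, z * u = u * z) (hup : ∃ j : ℕ, u ^ p ^ j = 1) : ∀ x ∈ CV ρ T, ρ u x = x :=
  pel_sub h.toFRep hA2 hA3 hp hu hup inv_CV (nd_CV' h) (fix_CV h)

end Cfsg.Agent.H735.DP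
end

-- part: H503/DP/CntLe
section
/-!
# S4247, symplectic row, lemma B: `|C_G(T)|_U| ≤ q^(dim U / 2) + 1` for a minimal nondegenerate `T`-invariant `U`
-/

set_option autoImplicit false
set_option linter.unusedSectionVars false

namespace Cfsg.Agent.H503.DP

open Module Cfsg.Agent.H167.OP Cfsg.Agent.H170.HL Cfsg.Agent.H572.RV Cfsg.Agent.H602.DP

variable {F : Type*} [Field F] [Finite F] {V : Type*} [AddCommGroup V] [Module F V] [Finite V]
  [FiniteDimensional F V] {G : Type*} [Group G] [Finite G]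
  {ρ : Representation F G V} {f : V →ₗ[F] V →ₗ[F] F} {Q : V → F} {t : ℕ} {T : Subgroup G} {U : Submodule F V}

/-- an element of a `t`-group, `t` odd, is a power of its `2^j`-th power -/
theorem odd_pow_fix (ht : Odd t) {z : G} (hz : ∃ k : ℕ, z ^ t ^ k = 1) (j : ℕ) {x : V}
    (hx : ρ (z ^ 2 ^ j) x = x) : ρ z x = x := by
  obtain ⟨k, hk⟩ := hz
  have hcop : Nat.Coprime (2 ^ j) (t ^ k) := (Nat.coprime_two_left.mpr (ht.pow)).pow_left j
  have h1 : ∀ n : ℕ, ρ ((z ^ 2 ^ j) ^ n) x = x := by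
    intro n
    induction n with
    | zero => rw [pow_zero, one_ap]
    | succ n ih => rw [pow_succ, mul_ap, hx, ih]
  obtain ⟨m, hm⟩ := exists_pow_eq_self_of_coprime (x := z) (n := 2 ^ j)
    (hcop.coprime_dvd_right (orderOf_dvd_of_pow_eq_one hk))
  rw [← hm, h1]

variable (h : TS ρ f Q t T) (hU : Mn ρ f T U)

include h in
theorem exists_pow_one {z : G} (hz : z ∈ T) : ∃ k : ℕ, z ^ t ^ k = 1 := by
  obtain ⟨k, hk⟩ := h.hT ⟨z, hz⟩
  exact ⟨k, by simpa only [Subtype.ext_iff, _root_.SubmonoidClass.mk_pow, _root_.OneMemClass.coe_one] using hk⟩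

include h hU in
/-- the vector `x₀` -/
theorem exists_x0 (z₀ : G) (hz₀ : z₀ ∈ T) (hact : ∃ u ∈ U, ρ z₀ u ≠ u) : ∃ x ∈ U, f (ρ z₀ x) x ≠ 0 := by
  by_contra hcon
  push Not at hcon
  obtain ⟨ε, hε, hsym⟩ := h.sym
  have hε0 : ε ≠ 0 := by rintro rfl; simp at hε
  obtain ⟨u, hu, hne⟩ := hact
  -- z₀² = -ε on U
  have hpol : ∀ x ∈ U, ρ z₀ x + ε • ρ z₀⁻¹ x = 0 := by
    intro x hx
    have hxi : ρ z₀⁻¹ x ∈ U := hU.inv _ (T.inv_mem hz₀) x hx
    refine hU.nd _ (U.add_mem (hU.inv _ hz₀ x hx) (U.smul_mem _ hxi)) ?_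
    intro y hy
    have h1 := hcon (x + y) (U.add_mem hx hy)
    rw [map_add, map_add, map_add, LinearMap.add_apply, LinearMap.add_apply, hcon x hx, hcon y hy] at h1
    have h2 : f (ρ z₀ y) x = f y (ρ z₀⁻¹ x) := by
      rw [← h.iso z₀⁻¹ (ρ z₀ y) x, inv_ap]
    rw [map_add, map_smul, smul_eq_mul, hsym y (ρ z₀ x)]
    have h3 : f (ρ z₀ x) y = - f (ρ z₀ y) x := by linear_combination h1
    rw [h3, h2]; ring
  refine hne (odd_pow_fix h.hto (exists_pow_one h hz₀) 2 ?_)
  have hsq : ∀ x ∈ U, ρ (z₀ ^ 2) x = -(ε • x) := by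
    intro x hx
    have := hpol (ρ z₀ x) (hU.inv _ hz₀ x hx)
    rw [inv_ap] at this
    rw [pow_two, mul_ap]
    exact eq_neg_of_add_eq_zero_left this
  have h4 : z₀ ^ 2 ^ 2 = z₀ ^ 2 * z₀ ^ 2 := by group
  rw [h4, mul_ap, hsq u hu, map_neg, map_smul, hsq u hu, smul_neg, neg_neg, smul_smul, hε, one_smul]

/-- the span of the images of `x` under `T` -/
def TX (ρ : Representation F G V) (T : Subgroup G) (x : V) : Submodule F V :=
  Submodule.span F (Set.range fun z : T => ρ (z : G) x)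

theorem mem_TX {x : V} {z : G} (hz : z ∈ T) : ρ z x ∈ TX ρ T x := Submodule.subset_span ⟨⟨z, hz⟩, rfl⟩

theorem inv_TX (x : V) : _root_.Cfsg.Agent.H602.DP.Inv ρ T (TX ρ T x) := by
  intro z hz v hv
  induction hv using Submodule.span_induction with
  | mem v hv =>
    obtain ⟨w, rfl⟩ := hv
    show ρ z (ρ (w : G) x) ∈ TX ρ T x
    rw [← mul_ap]
    exact mem_TX (T.mul_mem hz w.2)
  | zero => rw [map_zero]; exact Submodule.zero_mem _
  | add a b _ _ ha hb => rw [map_add]; exact Submodule.add_mem _ ha hb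
  | smul c a _ ha => rw [map_smul]; exact Submodule.smul_mem _ _ ha

theorem TX_le (hi : _root_.Cfsg.Agent.H602.DP.Inv ρ T U) {x : V} (hx : x ∈ U) : TX ρ T x ≤ U := by
  refine Submodule.span_le.mpr ?_
  rintro _ ⟨z, rfl⟩
  exact hi _ z.2 x hx

/-- the value of `y = (1 + u)⁻¹ x` -/
theorem val (hf : ∀ g u v, f (ρ g u) (ρ g v) = f u v) {ε : F} (hε : ε * ε = 1) (hsym : ∀ x y, f x y = ε * f y x)
    {u z : G} (huz : z * u = u * z) (y : V) :
    f y (ρ z⁻¹ (y + ρ u y) + ε • ρ z (y + ρ u y)) = f (ρ z (y + ρ u y)) (y + ρ u y) := by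
  have h1 : ∀ w, f y (ρ z⁻¹ w) = f (ρ z y) w := fun w => by
    rw [← hf z y, ap_inv]
  have h2 : ∀ w, f y (ε • w) = f w y := fun w => by
    rw [map_smul, smul_eq_mul, hsym y w, ← mul_assoc, hε, one_mul]
  have h3 : ρ z (ρ u y) = ρ u (ρ z y) := by rw [← mul_ap, huz, mul_ap]
  have h4 : f (ρ u (ρ z y)) (ρ u y) = f (ρ z y) y := hf _ _ _
  rw [map_add (f y), h1, h2]
  simp only [map_add, LinearMap.add_apply, h3, h4]
  ring

/-- the solutions of the homogeneous equations -/
def KK (ρ : Representation F G V) (f : V →ₗ[F] V →ₗ[F] F) (T : Subgroup G) (U : Submodule F V) (x₀ : V) (ε : F) :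
    Submodule F V where
  carrier := {y | y ∈ U ∧ ∀ z ∈ T, f y (ρ z⁻¹ x₀ + ε • ρ z x₀) = 0}
  zero_mem' := ⟨U.zero_mem, fun z _ => by rw [map_zero f, LinearMap.zero_apply]⟩
  add_mem' := fun {a b} ha hb => ⟨U.add_mem ha.1 hb.1, fun z hz => by
    rw [map_add f, LinearMap.add_apply, ha.2 z hz, hb.2 z hz, add_zero]⟩
  smul_mem' := fun c a ha => ⟨U.smul_mem c ha.1, fun z hz => by
    rw [map_smul f, LinearMap.smul_apply, ha.2 z hz, smul_zero]⟩

include h hU in
/-- **lemma B** modulo the lemmas A1, A2, A3 -/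
theorem cnt_le_of
    (A1 : ∀ X ≤ U, _root_.Cfsg.Agent.H602.DP.Inv ρ T X → X ≠ U → ∀ x ∈ X, ∀ y ∈ X, f x y = 0)
    (A2 : ∀ u : G, (∀ z ∈ T, z * u = u * z) → (∀ x ∈ U, ρ u x ∈ U) → ∀ c : F, c * c = 1 →
      (∀ x ∈ U, ρ u x = c • x → x = 0) ∨ ∀ x ∈ U, ρ u x = c • x)
    (A3 : ∀ u : G, (∀ z ∈ T, z * u = u * z) → ∀ x ∈ U, ρ u x ∈ U) :
    cnt ρ T U ≤ Nat.card F ^ (finrank F U / 2) + 1 := by
  classical
  obtain ⟨ε, hε, hsym⟩ := h.sym
  have hε0 : ε ≠ 0 := by rintro rfl; simp at hε
  obtain ⟨z₀, hz₀, hact⟩ := hU.act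
  obtain ⟨x₀, hx₀, hne⟩ := exists_x0 h hU z₀ hz₀ hact
  -- `z₀² - 1` is injective on `U`
  have hz2 : ∀ x ∈ U, ρ z₀ (ρ z₀ x) = x → x = 0 := by
    intro x hx hxe
    rcases A2 (z₀ ^ 2) (fun z hz => ((show Commute z z₀ from h.ab z hz z₀ hz₀).pow_right 2).eq)
      (fun x hx => by rw [pow_two, mul_ap]; exact hU.inv _ hz₀ _ (hU.inv _ hz₀ x hx)) 1 (one_mul 1) with h1 | h1
    · exact h1 x hx (by rw [pow_two, mul_ap, hxe, one_smul])
    · obtain ⟨u, hu, hne⟩ := hact
      exact absurd (odd_pow_fix h.hto (exists_pow_one h hz₀) 1 (by rw [pow_one, h1 u hu, one_smul])) hne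
  -- the span of `T x₀`
  have hW : TX ρ T x₀ = U := by
    by_contra hcon
    refine hne (A1 _ (TX_le hU.inv hx₀) (inv_TX x₀) hcon _ (mem_TX hz₀) _ ?_)
    have := mem_TX (ρ := ρ) (x := x₀) T.one_mem
    rwa [one_ap] at this
  -- the linear equations
  have hK2 : 2 * finrank F (KK ρ f T U x₀ ε) ≤ finrank F U := by
    have hle : KK ρ f T U x₀ ε ≤ U := fun y hy => hy.1
    have hle' : (KK ρ f T U x₀ ε).map (ρ z₀⁻¹) ≤ U := by
      rintro _ ⟨y, hy, rfl⟩
      exact hU.inv _ (T.inv_mem hz₀) y hy.1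
    have hdis : KK ρ f T U x₀ ε ⊓ (KK ρ f T U x₀ ε).map (ρ z₀⁻¹) = ⊥ := by
      rw [eq_bot_iff]
      rintro y ⟨hy, ⟨k, hk, hyk⟩⟩
      have hky : ρ z₀ y = k := by rw [← hyk, ap_inv]
      have hyU : y ∈ U := hle hy
      -- `f y (z₀ - z₀⁻¹) z x₀ = 0`
      have h1 : ∀ z ∈ T, f y (ρ z₀ (ρ z x₀) - ρ z₀⁻¹ (ρ z x₀)) = 0 := by
        intro z hz
        have e1 := hy.2 (z₀ * z) (T.mul_mem hz₀ hz)
        have e2 := hk.2 z hz
        have e3 : ∀ w, f k w = f y (ρ z₀⁻¹ w) := fun w => by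
          rw [← hky, ← h.iso z₀⁻¹ (ρ z₀ y) w, inv_ap]
        rw [e3, map_add (ρ z₀⁻¹), map_smul (ρ z₀⁻¹)] at e2
        have e4 : ρ (z₀ * z)⁻¹ x₀ = ρ z₀⁻¹ (ρ z⁻¹ x₀) := by
          rw [← mul_ap, h.ab z₀ hz₀ z hz, mul_inv_rev]
        rw [e4, mul_ap] at e1
        rw [map_add, map_smul, smul_eq_mul] at e1 e2
        rw [map_sub]
        have e5 : ε * (f y (ρ z₀ (ρ z x₀)) - f y (ρ z₀⁻¹ (ρ z x₀))) = 0 := by linear_combination e1 - e2
        exact (mul_eq_zero.mp e5).resolve_left hε0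
      have h2 : ∀ w ∈ U, f y (ρ z₀ w - ρ z₀⁻¹ w) = 0 := by
        intro w hw
        rw [← hW] at hw
        induction hw using Submodule.span_induction with
        | mem v hv =>
          obtain ⟨z, rfl⟩ := hv
          exact h1 z z.2
        | zero => simp only [_root_.map_zero, _root_.sub_self]
        | add a b _ _ ha hb =>
          have : ρ z₀ (a + b) - ρ z₀⁻¹ (a + b) = (ρ z₀ a - ρ z₀⁻¹ a) + (ρ z₀ b - ρ z₀⁻¹ b) := by
            rw [map_add, map_add]; abel
          rw [this, map_add, ha, hb, add_zero]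
        | smul c a _ ha =>
          have : ρ z₀ (c • a) - ρ z₀⁻¹ (c • a) = c • (ρ z₀ a - ρ z₀⁻¹ a) := by
            rw [map_smul, map_smul, smul_sub]
          rw [this, map_smul, ha, smul_zero]
      have h3 : ρ z₀ y - ρ z₀⁻¹ y = 0 := by
        refine hU.nd _ (U.sub_mem (hU.inv _ hz₀ y hyU) (hU.inv _ (T.inv_mem hz₀) y hyU)) ?_
        intro w hw
        have e1 : f w (ρ z₀ y) = f (ρ z₀⁻¹ w) y := by rw [← h.iso z₀ (ρ z₀⁻¹ w) y, ap_inv]
        have e2 : f w (ρ z₀⁻¹ y) = f (ρ z₀ w) y := by rw [← h.iso z₀⁻¹ (ρ z₀ w) y, inv_ap]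
        rw [map_sub, e1, e2, hsym _ y, hsym _ y, ← mul_sub, ← map_sub]
        have e3 : ρ z₀⁻¹ w - ρ z₀ w = -(ρ z₀ w - ρ z₀⁻¹ w) := by abel
        rw [e3, map_neg, h2 w hw, neg_zero, mul_zero]
      refine hz2 y hyU ?_
      have h4 : ρ z₀ y = ρ z₀⁻¹ y := sub_eq_zero.mp h3
      rw [h4, ap_inv]
    have h1 := Submodule.finrank_sup_add_finrank_inf_eq (KK ρ f T U x₀ ε) ((KK ρ f T U x₀ ε).map (ρ z₀⁻¹))
    rw [hdis, finrank_bot, add_zero] at h1
    have h2 := Submodule.finrank_mono (sup_le hle hle')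
    have h3 : finrank F ((KK ρ f T U x₀ ε).map (ρ z₀⁻¹)) = finrank F (KK ρ f T U x₀ ε) := by
      have hi : Function.Injective (ρ z₀⁻¹) := by
        intro a b hab
        rw [← ap_inv ρ z₀ a, ← ap_inv ρ z₀ b, hab]
      exact ((KK ρ f T U x₀ ε).equivMapOfInjective _ hi).finrank_eq.symm
    omega
  -- the solutions
  set Y : Set V := {y | y ∈ U ∧ ∀ z ∈ T, f y (ρ z⁻¹ x₀ + ε • ρ z x₀) = f (ρ z x₀) x₀} with hY
  have hYc : Y.ncard ≤ Nat.card F ^ (finrank F U / 2) := by
    have h1 : Y.ncard ≤ (KK ρ f T U x₀ ε : Set V).ncard := by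
      rcases Y.eq_empty_or_nonempty with h0 | ⟨y₁, hy₁⟩
      · rw [h0, Set.ncard_empty]; exact Nat.zero_le _
      · refine Set.ncard_le_ncard_of_injOn (fun y => y - y₁) ?_ ?_ (Set.toFinite _)
        · intro y hy
          refine ⟨U.sub_mem hy.1 hy₁.1, fun z hz => ?_⟩
          rw [map_sub, LinearMap.sub_apply, hy.2 z hz, hy₁.2 z hz, sub_self]
        · intro a _ b _ hab
          exact sub_left_injective hab
    refine h1.trans ?_
    have h2 : (KK ρ f T U x₀ ε : Set V).ncard = Nat.card F ^ finrank F (KK ρ f T U x₀ ε) := by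
      rw [← Module.natCard_eq_pow_finrank (K := F)]
      exact (Nat.card_coe_set_eq _).symm
    rw [h2]
    exact Nat.pow_le_pow_right Nat.card_pos (by omega)
  -- uniqueness of the restriction
  have huniq : ∀ u u' : G, (∀ z ∈ T, z * u = u * z) → (∀ z ∈ T, z * u' = u' * z) → ∀ y ∈ U,
      y + ρ u y = x₀ → y + ρ u' y = x₀ → ∀ v ∈ U, ρ u v = ρ u' v := by
    intro u u' hu hu' y hy hyu hyu' v hv
    have hTy : TX ρ T y = U := by
      refine Submodule.eq_of_le_of_finrank_le (TX_le hU.inv hy) ?_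
      have hle : TX ρ T x₀ ≤ (TX ρ T y).map (1 + ρ u) := by
        refine Submodule.span_le.mpr ?_
        rintro _ ⟨z, rfl⟩
        refine ⟨ρ z y, mem_TX z.2, ?_⟩
        show ρ z y + ρ u (ρ z y) = ρ z x₀
        rw [← hyu, map_add, ← mul_ap, ← mul_ap, hu z z.2]
      rw [hW] at hle
      exact (Submodule.finrank_mono hle).trans (Submodule.finrank_map_le _ _)
    rw [← hTy] at hv
    have hyy : ρ u y = ρ u' y := add_left_cancel (hyu.trans hyu'.symm)
    induction hv using Submodule.span_induction with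
    | mem v hv =>
      obtain ⟨z, rfl⟩ := hv
      show ρ u (ρ z y) = ρ u' (ρ z y)
      rw [← mul_ap, ← mul_ap, ← hu z z.2, ← hu' z z.2, mul_ap, mul_ap, hyy]
    | zero => rw [map_zero, map_zero]
    | add a b _ _ ha hb => rw [map_add, map_add, ha, hb]
    | smul c a _ ha => rw [map_smul, map_smul, ha]
  -- the counting
  set R : Subgroup.centralizer (T : Set G) → (U →ₗ[F] V) := fun u => (ρ (u : G)).domRestrict U with hR
  have hcen : ∀ u : Subgroup.centralizer (T : Set G), ∀ z ∈ T, z * (u : G) = u * z := fun u z hz =>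
    Subgroup.mem_centralizer_iff.mp u.2 z hz
  let P : V → (U →ₗ[F] V) → Prop := fun y φ => φ ∈ Set.range R ∧ ∃ hy : y ∈ U, y + φ ⟨y, hy⟩ = x₀
  let c : V → (U →ₗ[F] V) := fun y => if hh : ∃ φ, P y φ then Classical.choose hh else 0
  have hcover : Set.range R ⊆ insert (-U.subtype) (c '' Y) := by
    rintro _ ⟨u, rfl⟩
    rcases A2 u (hcen u) (A3 u (hcen u)) (-1) (by ring) with h1 | h1
    · right
      -- surjectivity of `1 + u` on `U`
      let L : U →ₗ[F] U := LinearMap.restrict (1 + ρ (u : G)) (fun x hx => U.add_mem hx (A3 u (hcen u) x hx))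
      have hLinj : Function.Injective L := by
        rw [← LinearMap.ker_eq_bot, LinearMap.ker_eq_bot']
        rintro ⟨x, hx⟩ hLx
        have : x + ρ (u : G) x = 0 := congrArg Subtype.val hLx
        refine Subtype.ext (h1 x hx ?_)
        rw [neg_one_smul]
        exact eq_neg_of_add_eq_zero_right this
      obtain ⟨⟨y, hy⟩, hLy⟩ := LinearMap.surjective_of_injective hLinj ⟨x₀, hx₀⟩
      have hyx : y + ρ (u : G) y = x₀ := congrArg Subtype.val hLy
      have hPy : P y (R u) := ⟨⟨u, rfl⟩, hy, hyx⟩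
      refine ⟨y, ⟨hy, ?_⟩, ?_⟩
      · intro z hz
        have := val (ρ := ρ) (f := f) h.iso hε hsym (hcen u z hz) y
        rw [hyx] at this
        exact this
      · have hex : ∃ φ, P y φ := ⟨_, hPy⟩
        have hc : c y = Classical.choose hex := dif_pos hex
        rw [hc]
        obtain ⟨⟨u', hu'⟩, hy', hyu'⟩ := Classical.choose_spec hex
        rw [← hu'] at hyu' ⊢
        refine LinearMap.ext fun v => ?_
        exact (huniq u u' (hcen u) (hcen u') y hy hyx hyu' v v.2).symm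
    · left
      refine LinearMap.ext fun v => ?_
      show ρ (u : G) v = -(v : V)
      rw [h1 v v.2, neg_one_smul]
  calc cnt ρ T U = (Set.range R).ncard := Nat.card_coe_set_eq _
    _ ≤ (insert (-U.subtype) (c '' Y)).ncard := Set.ncard_le_ncard hcover (Set.toFinite _)
    _ ≤ (c '' Y).ncard + 1 := Set.ncard_insert_le _ _
    _ ≤ Y.ncard + 1 := Nat.add_le_add_right (Set.ncard_image_le (Set.toFinite _)) 1
    _ ≤ _ := Nat.add_le_add_right hYc 1

include h hU in
/-- **lemma B** -/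
theorem cnt_le : cnt ρ T U ≤ Nat.card F ^ (finrank F U / 2) + 1 :=
  cnt_le_of h hU (fun _ hX hi hne => isotropic_of_proper h hU hX hi hne)
    (fun _ hu huU _ hc => eigen h hU hu huU hc) (fun _ hu => map_mem h hU hu)

end Cfsg.Agent.H503.DP
end
end

-- part: H602/DPO/Bl
section
prune_inst 0xf11031447c62100000180082c1001c62a2000192004b84004d0206000f89cc6389402661b7601712101880c440380060035c00900210000000000400411c008000820200a148a00406001e000884000000000000000000000000000000000004000000000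
set_option linter.all false
open scoped Cfsg.Agent.FastGrp

-- part: H572/RV/WeightB
section
/-!
# A `t`-element `y` with `rk (y - 1) < 2 (t - 1)` preserving a form centralises the abelian `t'`-groups of odd order which it
normalises (helper572)
-/

set_option autoImplicit false
set_option linter.unusedSectionVars false

namespace Cfsg.Agent.H572.RV

open Module Cfsg.Agent.H167.OP Cfsg.Agent.H170.HL

section closed

variable {L : Type*} [Field L] {V : Type*} [AddCommGroup V] [Module L V] {G : Type*} [Group G]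
  {t : ℕ} {y : G} {D : Subgroup G}

/-- weight vectors for distinct weights are independent -/
theorem indep_weights [Finite G] [FiniteDimensional L V] (ρ : Representation L G V)
    {D : Subgroup G} (hD : (Nat.card D : L) ≠ 0) (hab : ∀ a ∈ D, ∀ b ∈ D, a * b = b * a)
    {ι : Type*} (χ : ι → D → L) (hinj : Function.Injective χ)
    (v : ι → V) (hv : ∀ i, v i ∈ Wt ρ D (χ i)) (hv0 : ∀ i, v i ≠ 0) : LinearIndependent L v := by
  classical
  have h1 : iSupIndep fun i : ι => Wt ρ D (χ i) := (indep_Wt ρ hD hab).comp hinj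
  exact h1.linearIndependent _ hv hv0

/-- two independent orbits -/
theorem exists_pair_closed [Finite G] [FiniteDimensional L V] [IsAlgClosed L]
    (ρ : Representation L G V) (ht : t.Prime) (hto : Odd t) {k : ℕ} (hy : y ^ t ^ k = 1)
    (hDo : Odd (Nat.card D)) (hD : (Nat.card D : L) ≠ 0)
    (hab : ∀ a ∈ D, ∀ b ∈ D, a * b = b * a) (hn : Nrm y D)
    (hc : ∃ d ∈ D, ρ (y * d) ≠ ρ (d * y)) (f : V →ₗ[L] V →ₗ[L] L)
    (hf : ∀ g u v, f (ρ g u) (ρ g v) = f u v) (hnd : ∀ x, (∀ y, f y x = 0) → x = 0) :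
    ∃ v w : V, LinearIndependent L
      (Sum.elim (fun i : Fin t => ρ (y ^ (i : ℕ)) v) (fun i : Fin t => ρ (y ^ (i : ℕ)) w)) := by
  obtain ⟨χ, hχ, v, hv, hv0⟩ := exists_moved ρ hD hab hn hc
  have hkey : ∀ i j : ℕ, (tw hn)^[i] χ ≠ ((tw hn)^[j] χ)⁻¹ := by
    intro i j hij
    set ψ := (tw hn)^[j] χ with hψ
    have hψw : ρ (y ^ j) v ∈ Wt ρ D ψ := iter_mem ρ hn hv j
    have hψ0 := ap_ne_zero ρ hv0 (y ^ j)
    have ha : (tw hn)^[i + (t ^ k * j - j)] ψ = ψ⁻¹ := by
      rw [hψ, ← Function.iterate_add_apply, ← hψ, ← hij]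
      have h1 : i + (t ^ k * j - j) + j = i + t ^ k * j := by
        have := Nat.le_mul_of_pos_left j (pow_pos ht.pos k)
        omega
      rw [h1, Function.iterate_add_apply]
      congr 1
      exact tw_periodic hn (by rw [pow_mul, hy, one_pow]) χ
    set a := i + (t ^ k * j - j)
    have h2 : (tw hn)^[2 * a] ψ = ψ := by
      rw [two_mul, Function.iterate_add_apply, ha, tw_inv, ha, inv_inv]
    have h3 : Function.minimalPeriod (tw hn) ψ ∣ 2 * a := Function.IsPeriodicPt.minimalPeriod_dvd h2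
    have h4 : Function.minimalPeriod (tw hn) ψ ∣ t ^ k :=
      Function.IsPeriodicPt.minimalPeriod_dvd (tw_periodic hn hy ψ)
    have h5 : Nat.Coprime (Function.minimalPeriod (tw hn) ψ) 2 :=
      Nat.Coprime.coprime_dvd_left h4 (Nat.Coprime.pow_left _ (Nat.coprime_two_right.mpr hto))
    have h6 : (tw hn)^[a] ψ = ψ :=
      Function.isPeriodicPt_iff_minimalPeriod_dvd.mpr (h5.dvd_of_dvd_mul_left h3)
    have h7 : ψ = ψ⁻¹ := h6.symm.trans ha
    have h8 : ψ = 1 := by
      funext d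
      have h9 := congrFun h7 d
      rw [Pi.inv_apply] at h9
      have h10 := pow_card_eq hψw hψ0 d
      have h0 : ψ d ≠ 0 := by
        intro h0
        rw [h0, zero_pow Nat.card_pos.ne'] at h10
        exact zero_ne_one h10
      refine eq_one_of_sq hDo h10 ?_
      nth_rewrite 2 [h9]
      exact mul_inv_cancel₀ h0
    exact iter_ne_one hn ht hy hχ j h8
  obtain ⟨w, hw, hw0⟩ := inv_weight ρ hD hab f hf hnd hv hv0
  have hχi : tw hn χ⁻¹ ≠ χ⁻¹ := by
    intro h
    apply hχ
    have h1 := tw_inv hn χ 1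
    rw [Function.iterate_one] at h1
    rw [h] at h1
    rw [← inv_inj]
    exact h1.symm
  refine ⟨v, w, indep_weights ρ hD hab
    (Sum.elim (fun i : Fin t => (tw hn)^[(i : ℕ)] χ) (fun i : Fin t => (tw hn)^[(i : ℕ)] χ⁻¹)) ?_ _ ?_ ?_⟩
  · rintro (i | i) (j | j) hij
    · exact congrArg Sum.inl (Fin.ext (iter_inj hn ht hy hχ i i.2 j j.2 hij))
    · exfalso
      have h2 : (tw hn)^[(i : ℕ)] χ = (tw hn)^[(j : ℕ)] χ⁻¹ := hij
      rw [tw_inv] at h2
      exact hkey _ _ h2
    · exfalso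
      have h2 : (tw hn)^[(i : ℕ)] χ⁻¹ = (tw hn)^[(j : ℕ)] χ := hij
      rw [tw_inv] at h2
      exact hkey _ _ h2.symm
    · exact congrArg Sum.inr (Fin.ext (iter_inj hn ht hy hχi i i.2 j j.2 hij))
  · rintro (i | i)
    · exact iter_mem ρ hn hv i
    · exact iter_mem ρ hn hw i
  · rintro (i | i)
    · exact ap_ne_zero ρ hv0 _
    · exact ap_ne_zero ρ hw0 _

/-- the rank of `y - 1` -/
theorem rk_closed_form [Finite G] [FiniteDimensional L V] [IsAlgClosed L]
    (ρ : Representation L G V) (ht : t.Prime) (hto : Odd t) {k : ℕ} (hy : y ^ t ^ k = 1)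
    (hDo : Odd (Nat.card D)) (hD : (Nat.card D : L) ≠ 0)
    (hab : ∀ a ∈ D, ∀ b ∈ D, a * b = b * a) (hn : Nrm y D)
    (hc : ∃ d ∈ D, ρ (y * d) ≠ ρ (d * y)) (f : V →ₗ[L] V →ₗ[L] L)
    (hf : ∀ g u v, f (ρ g u) (ρ g v) = f u v) (hnd : ∀ x, (∀ y, f y x = 0) → x = 0) :
    2 * (t - 1) ≤ rk ρ y := by
  obtain ⟨v, w, hli⟩ := exists_pair_closed ρ ht hto hy hDo hD hab hn hc f hf hnd
  have h0 : 0 < t := ht.pos
  have hvw : LinearIndependent L ![v, w] := by
    have h1 := hli.comp (fun i : Fin 2 => if i = 0 then Sum.inl (⟨0, h0⟩ : Fin t) else Sum.inr ⟨0, h0⟩) ?_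
    · convert h1 using 1
      funext i
      fin_cases i
      · simp only [_root_.Nat.succ_eq_add_one, _root_.Nat.reduceAdd, _root_.Fin.zero_eta, _root_.Fin.isValue, _root_.Matrix.cons_val_zero, _root_.map_pow, _root_.Function.comp_apply, ↓ _root_.reduceIte, _root_.Sum.elim_inl, _root_.pow_zero, _root_.Module.End.one_apply]
      · simp only [_root_.Nat.succ_eq_add_one, _root_.Nat.reduceAdd, _root_.Fin.mk_one, _root_.Fin.isValue, _root_.Matrix.cons_val_one, _root_.Matrix.cons_val_fin_one, _root_.map_pow, _root_.Function.comp_apply, _root_.one_ne_zero, ↓ _root_.reduceIte, _root_.Sum.elim_inr, _root_.pow_zero, _root_.Module.End.one_apply]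
    · intro i j hij
      fin_cases i <;> fin_cases j <;> simp_all only [_root_.ne_eq, _root_.map_mul, _root_.map_pow, _root_.Fin.zero_eta, _root_.Fin.isValue, ↓ _root_.reduceIte, _root_.Fin.mk_one, _root_.one_ne_zero, _root_.reduceCtorEq]
  set W : Submodule L V := Submodule.span L (Set.range ![v, w]) with hW
  have hfr : finrank L W = 2 := by
    have := finrank_span_eq_card hvw
    rwa [Fintype.card_fin] at this
  have h2 := le_rk ρ y W (t - 1) ?_
  · rw [hfr] at h2
    omega
  · intro x hx hsum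
    have h3 : ∀ i, ∃ a b : L, x i = a • v + b • w := by
      intro i
      have h4 := hx i
      rw [hW, Matrix.range_cons, Matrix.range_cons, Matrix.range_empty, Set.union_empty, Set.singleton_union,
        Submodule.mem_span_pair] at h4
      obtain ⟨a, b, hab'⟩ := h4
      exact ⟨a, b, hab'.symm⟩
    choose a b hab' using h3
    have h1t : t - 1 + 1 = t := Nat.sub_add_cancel h0
    rw [h1t, Finset.sum_range] at hsum
    have h5 : ∑ s : Fin t ⊕ Fin t, (Sum.elim (fun i : Fin t => a i) (fun i : Fin t => b i)) s •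
        (Sum.elim (fun i : Fin t => ρ (y ^ (i : ℕ)) v) (fun i : Fin t => ρ (y ^ (i : ℕ)) w)) s = 0 := by
      rw [Fintype.sum_sum_type, ← hsum, ← Finset.sum_add_distrib]
      refine Finset.sum_congr rfl fun i _ => ?_
      rw [hab' i, map_add, map_smul, map_smul]
      rfl
    have h6 := Fintype.linearIndependent_iff.mp hli _ h5
    intro i hi
    have hi' : i < t := by omega
    have h7 := h6 (Sum.inl ⟨i, hi'⟩)
    have h8 := h6 (Sum.inr ⟨i, hi'⟩)
    simp only [Sum.elim_inl, Sum.elim_inr] at h7 h8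
    rw [hab' i, h7, h8, zero_smul, zero_smul, add_zero]

end closed

section gen

variable {F : Type*} [Field F] {V : Type*} [AddCommGroup V] [Module F V]
  [FiniteDimensional F V] {G : Type*} [Group G] [Finite G] {t : ℕ} {y : G} {D : Subgroup G}

/-- **centralising abelian groups** -/
theorem comm_of_rk (ρ : Representation F G V) (hinj : Function.Injective ρ) (ht : t.Prime) (hto : Odd t)
    (hy : ∃ k : ℕ, y ^ t ^ k = 1) (hrk : rk ρ y < 2 * (t - 1)) (hDo : Odd (Nat.card D))
    (hD : (Nat.card D : F) ≠ 0) (hab : ∀ a ∈ D, ∀ b ∈ D, a * b = b * a) (hn : Nrm y D)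
    (f : V →ₗ[F] V →ₗ[F] F)
    (hf : ∀ g u v, f (ρ g u) (ρ g v) = f u v) (hnd : ∀ x, (∀ y, f y x = 0) → x = 0) :
    ∀ d ∈ D, y * d = d * y := by
  intro d hd
  by_contra hne
  obtain ⟨k, hy⟩ := hy
  obtain ⟨f', hf', hnd'⟩ := exists_form_bc (AlgebraicClosure F) ρ f hf hnd
  have h1 := rk_closed_form _ ht hto hy hDo (card_cast_bc (AlgebraicClosure F) hD) hab hn
    ⟨d, hd, bc_ne _ ρ (fun h0 => hne (hinj h0))⟩ f' hf' hnd'
  have h2 := finrank_range_bc (AlgebraicClosure F) ρ y
  unfold rk at h1 hrk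
  omega

end gen

end Cfsg.Agent.H572.RV
end

-- part: H969/DPi/Frame
section
/-!
# Frames of non-nilpotent Hall `π`-subgroups of full isometry groups, `2, p ∉ π` (helper969, S4247)

`Frame ρ f Q π H r t` : `H` a Hall `π`-subgroup of the full isometry group `K` (`H572.RV.IsoG ρ f Q`),
`T = closure (Zs ρ t H)` a normal abelian Sylow `t`-subgroup generated by small elements, `Bl ρ t H` the blocks,
`FB ρ t H` the subgroup fixing all blocks; an `r`-element of `H` moves a block.
-/

set_option autoImplicit false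

namespace Cfsg.Agent.H969.DPi

open Module Cfsg.Agent.H167.OP Cfsg.Agent.H560.HallKey Cfsg.Agent.H170.HL Cfsg.Agent.H988.CPi
  Cfsg.Agent.H553.OddHall Cfsg.Agent.H571.RV Cfsg.Agent.H572.RV

variable {F : Type*} [Field F] [Finite F] {V : Type*} [AddCommGroup V] [Module F V] [Finite V]
  [FiniteDimensional F V] {K : Type*} [Group K] [Finite K]
  {ρ : Representation F K V} {f : V →ₗ[F] V →ₗ[F] F} {Q : V → F} {H : Subgroup K}

/-- the elements of `K` fixing all blocks -/
def FB (ρ : Representation F K V) (t : ℕ) (H : Subgroup K) : Subgroup K where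
  carrier := {g | ∀ U ∈ Bl ρ t H, U.map (ρ g) = U}
  mul_mem' := fun {a b} ha hb U hU => by rw [← map_map, hb U hU, ha U hU]
  one_mem' := fun U _ => map_one' U
  inv_mem' := fun {a} ha U hU => map_inv_of_map (ha U hU)

/-- **Frames** -/
structure Frame (ρ : Representation F K V) (f : V →ₗ[F] V →ₗ[F] F) (Q : V → F) (π : Set ℕ) (H : Subgroup K)
    (r t : ℕ) : Prop extends IsoG ρ f Q where
  two : 2 ∉ π
  char : ∀ l ∈ π, l.Prime → (l : F) ≠ 0
  hall : IsPiHall π H
  rp : r.Prime
  rπ : r ∈ π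
  tp : t.Prime
  tπ : t ∈ π
  r3 : 3 ≤ r
  rt : r < t
  /-- `T` is a Sylow `t`-subgroup of `K` -/
  syl : ¬ t ∣ (Subgroup.closure (Zs ρ t H)).index
  /-- the elements of `H` fixing all blocks centralise `T` -/
  cent : ∀ h ∈ H, h ∈ FB ρ t H → ∀ z ∈ Subgroup.closure (Zs ρ t H), h * z = z * h
  /-- an `r`-element moves a block -/
  mv : ∃ y ∈ H, (∃ k : ℕ, y ^ r ^ k = 1) ∧ y ∉ FB ρ t H
  /-- the action of `H` on the blocks is an `r`-group -/
  rgrp : ∀ p : ℕ, p.Prime → p ∣ (FB ρ t H).relIndex H → p = r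

end Cfsg.Agent.H969.DPi
end

-- part: H602/DPO/Bl
section
/-!
# S4247, row `POmega`: the centraliser of `T` in a frame (helper602)

`Frame.ts`, `Frame.mn` : the blocks of a frame are minimal nondegenerate `T`-invariant subspaces.
`Frame.card_cent_le` : `|C(T)|` is at most the product of the `q^(dim U / 2) + 1` over the blocks `U`, times the number
of restrictions of `C(T)` to `C_V(T)`.
-/

set_option autoImplicit false
set_option linter.unusedSectionVars false

namespace Cfsg.Agent.H602.DPO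

open Module Subgroup Cfsg Cfsg.Agent.H167.OP Cfsg.Agent.H170.HL Cfsg.Agent.H988.CPi Cfsg.Agent.H560.HallKey
  Cfsg.Agent.H553.OddHall Cfsg.Agent.H571.RV Cfsg.Agent.H572.RV Cfsg.Agent.H602.DP Cfsg.Agent.H969.DPi

variable {F : Type*} [Field F] [Finite F] {V : Type*} [AddCommGroup V] [Module F V] [Finite V]
  [FiniteDimensional F V] {K : Type*} [Group K] [Finite K]
  {ρ : Representation F K V} {f : V →ₗ[F] V →ₗ[F] F} {Q : V → F} {π : Set ℕ} {H : Subgroup K} {r t : ℕ}

theorem std_of (h : Frame ρ f Q π H r t) : Std ρ f Q t H :=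
  h.toIsoG.std h.two h.char h.hall h.tp h.tπ

/-- the Sylow subgroup `T` -/
theorem ts_of (h : Frame ρ f Q π H r t) : TS ρ f Q t (Subgroup.closure (Zs ρ t H)) where
  toIsoG := h.toIsoG
  ht := h.tp
  hto := odd_of h.two h.tp h.tπ
  htF := h.char t h.tπ h.tp
  hT := (std_of h).closure_comm.2
  ab := (std_of h).closure_comm.1
  mx := by
    intro y hy hc
    have htf := Fact.mk h.tp
    set T := Subgroup.closure (Zs ρ t H) with hTd
    have h1 : IsPGroup t T := (std_of h).closure_comm.2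
    -- the subgroup generated by `T` and `y`
    have h2 : IsPGroup t (Subgroup.zpowers y) := by
      obtain ⟨k, hk⟩ := hy
      rintro ⟨x, hx⟩
      obtain ⟨i, rfl⟩ := Subgroup.mem_zpowers_iff.mp hx
      refine ⟨k, Subtype.ext ?_⟩
      show (y ^ i) ^ t ^ k = 1
      rw [← zpow_natCast, ← zpow_mul, mul_comm, zpow_mul, zpow_natCast, hk, one_zpow]
    have h3 : Subgroup.zpowers y ≤ Subgroup.normalizer (T : Set K) := by
      rw [Subgroup.zpowers_le, Subgroup.mem_normalizer_iff]
      intro z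
      constructor
      · intro hz
        have h4 : y * z * y⁻¹ = z := by rw [← hc z hz, mul_inv_cancel_right]
        rw [h4]; exact hz
      · intro hz
        have h4 := hc _ hz
        have h5 : z = y * z * y⁻¹ := by
          have h6 : y * z * y⁻¹ * y = y * (y * z * y⁻¹) := h4
          have h7 : z = y * z * y⁻¹ := by
            have := congrArg (fun x => y⁻¹ * x) h6
            simpa only [mul_assoc, _root_.inv_mul_cancel, _root_.mul_one, _root_.inv_mul_cancel_left] using this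
          exact h7
        rw [h5]; exact hz
    have h4 : IsPGroup t (Subgroup.zpowers y ⊔ T : Subgroup K) := IsPGroup.to_sup_of_normal_right' h2 h1 h3
    -- `T` is a Sylow subgroup
    have h5 : T.relIndex (Subgroup.zpowers y ⊔ T) = 1 := by
      by_contra hne
      obtain ⟨s, hs, hd⟩ := Nat.exists_prime_and_dvd hne
      have h6 : s = t := by
        obtain ⟨n, hn⟩ := IsPGroup.iff_card.mp h4
        have h7 : s ∣ t ^ n := by rw [← hn]; exact hd.trans (Subgroup.relIndex_dvd_card _ _)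
        exact (Nat.prime_dvd_prime_iff_eq hs h.tp).mp (hs.dvd_of_dvd_pow h7)
      subst h6
      exact h.syl (hd.trans (Subgroup.relIndex_dvd_index_of_le le_sup_right))
    exact (Subgroup.relIndex_eq_one.mp h5) (Subgroup.mem_sup_left (Subgroup.mem_zpowers y))

theorem mn_of (h : Frame ρ f Q π H r t) {U : Submodule F V} (hU : U ∈ Bl ρ t H) :
    Mn ρ f (Subgroup.closure (Zs ρ t H)) U := by
  have hs := std_of h
  have hT := ts_of h
  have hnd := hs.nd_bl hU
  obtain ⟨z, hz, rfl, hz1, hmin⟩ := hU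
  have hzT : z ∈ Subgroup.closure (Zs ρ t H) := Subgroup.subset_closure hz
  have hinv : Inv ρ (Subgroup.closure (Zs ρ t H)) (sp ρ z) := fun w hw u hu =>
    map_mem_of_comm (hs.closure_comm.1 w hw z hzT) hu
  have hfx : ∀ u ∈ sp ρ z, ρ z u = u → u = 0 := by
    intro u hu hzu
    have h1 : u ∈ Orth f (sp ρ z) := (mem_Orth_sp h.toIsoG).mpr hzu
    exact hnd u hu fun x hx => h1 x hx
  refine ⟨hinv, hnd, ?_, ?_⟩
  · obtain ⟨u, hu, hu0⟩ := (Submodule.ne_bot_iff _).mp (fun hb => hz1 ((sp_eq_bot h.inj).mp hb))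
    exact ⟨z, hzT, u, hu, fun hzu => hu0 (hfx u hu hzu)⟩
  · intro X hX hXi hXn
    obtain ⟨k, hk⟩ := h.toIsoG.exists_part hXn (fun u hu => hXi z hzT u hu)
    have hkt := hk.tel h.toIsoG hXn (fun u hu => hXi z hzT u hu) hz.2.1
    -- `k` commutes with `T`
    have hkT : k ∈ Subgroup.closure (Zs ρ t H) := by
      apply hT.mx k hkt
      intro w hw
      have h1 := hk.conj h.toIsoG w
      have h2 : X.map (ρ w) = X := map_eq_of_le (by
        rintro _ ⟨u, hu, rfl⟩
        exact hXi w hw u hu)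
      have h3 : w * z * w⁻¹ = z := by
        rw [hs.closure_comm.1 w hw z hzT, mul_inv_cancel_right]
      rw [h2, h3] at h1
      have h4 := h1.unique h.inj hXn hk
      calc w * k = (w * k * w⁻¹) * w := by group
        _ = k * w := by rw [h4]
    have hkZ : k ∈ Zs ρ t H := ⟨closure_le_H hkT, small_of_sp_le hkt hz.2 (hk.sp_le' hXn)⟩
    by_cases hk1 : k = 1
    · left
      rw [eq_bot_iff]
      intro x hx
      rw [Submodule.mem_bot]
      apply hfx x (hX hx)
      rw [← hk.1 x hx, hk1, one_ap]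
    · right
      have h1 := hk.sp_le hXn (fun u hu => hXi z hzT u hu)
      have h2 := hmin k hkZ hk1 (h1.trans hX)
      exact le_antisymm hX (h2 ▸ h1)

end Cfsg.Agent.H602.DPO
end
end

-- part: H22/DPi/OmB
section
prune_inst 0x1111061440c00000000000000c0001846b2000000000004000c02000000800e600900a840010001120000000000310060034c00100200000000000000000400000000100211400100020018000000000000000000000000000000000000000000000000000
set_option linter.all false
open scoped Cfsg.Agent.FastGrp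

-- part: H22/DPi/Lift
section
/-!
# S4247, orthogonal groups, part (b): the functor `Hp` (helper22)

`Yp p T` : the subgroup generated by the `p`-elements of `C(T)`; `Hp p T = [C(Yp), C(Yp)]`.
`Hp_map` : `Hp` and a surjective homomorphism whose kernel is central and of order prime to `p` and to `|T|`.
-/

set_option autoImplicit false

namespace Cfsg.Agent.H22.DPi

open Subgroup

/-- the subgroup generated by the `p`-elements of `C(T)` -/
def Yp (p : ℕ) {G : Type*} [Group G] (T : Subgroup G) : Subgroup G :=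
  _root_.Subgroup.closure {x | (∀ t ∈ T, x * t = t * x) ∧ ∃ k : ℕ, x ^ p ^ k = 1}

/-- `[C(Yp), C(Yp)]` -/
def Hp (p : ℕ) {G : Type*} [Group G] (T : Subgroup G) : Subgroup G :=
  ⁅centralizer (Yp p T : Set G), centralizer (Yp p T : Set G)⁆

variable {p : ℕ}

theorem Yp_equiv {G G' : Type*} [Group G] [Group G'] (e : G ≃* G') (T : Subgroup G) :
    (Yp p T).map e.toMonoidHom = Yp p (T.map e.toMonoidHom) := by
  unfold Yp
  rw [MonoidHom.map_closure]
  congr 1
  ext y
  constructor
  · rintro ⟨x, ⟨h1, k, h2⟩, rfl⟩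
    refine ⟨?_, k, ?_⟩
    · rintro _ ⟨t, ht, rfl⟩
      show e x * e t = e t * e x
      rw [← map_mul, h1 t ht, map_mul]
    · show (e x) ^ p ^ k = 1
      rw [← map_pow, h2, map_one]
  · rintro ⟨h1, k, h2⟩
    refine ⟨e.symm y, ⟨?_, k, ?_⟩, e.apply_symm_apply y⟩
    · intro t ht
      apply e.injective
      rw [map_mul, map_mul, e.apply_symm_apply]
      exact h1 _ ⟨t, ht, rfl⟩
    · rw [← map_pow, h2, map_one]

theorem centralizer_equiv {G G' : Type*} [Group G] [Group G'] (e : G ≃* G') (T : Subgroup G) :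
    (centralizer (T : Set G)).map e.toMonoidHom = centralizer ((T.map e.toMonoidHom : Subgroup G') : Set G') := by
  ext y
  rw [Subgroup.mem_map]
  constructor
  · rintro ⟨x, hx, rfl⟩
    rw [mem_centralizer_iff] at hx ⊢
    rintro _ ⟨t, ht, rfl⟩
    show e t * e x = e x * e t
    rw [← map_mul, hx t ht, map_mul]
  · intro hy
    rw [mem_centralizer_iff] at hy
    refine ⟨e.symm y, ?_, e.apply_symm_apply y⟩
    rw [mem_centralizer_iff]
    intro t ht
    apply e.injective
    rw [map_mul, map_mul, e.apply_symm_apply]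
    exact hy _ ⟨t, ht, rfl⟩

theorem Hp_equiv {G G' : Type*} [Group G] [Group G'] (e : G ≃* G') (T : Subgroup G) :
    (Hp p T).map e.toMonoidHom = Hp p (T.map e.toMonoidHom) := by
  unfold Hp
  rw [Subgroup.map_commutator, centralizer_equiv, Yp_equiv]

theorem Hp_aut {G : Type*} [Group G] {T : Subgroup G} {α : MulAut G} (h : T.map α.toMonoidHom = T) :
    (Hp p T).map α.toMonoidHom = Hp p T := by
  rw [Hp_equiv, h]

/-! ### lifting -/

section lift

variable {E S : Type*} [Group E] [Group S] {ψ : E →* S}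

/-- an element commutes with `t` modulo the kernel -/
theorem comm_of_ker (hc : ψ.ker ≤ center E) {g t : E} (h : ψ g * ψ t = ψ t * ψ g) {m n : ℕ} (ht : t ^ n = 1)
    (hk : ∀ z ∈ ψ.ker, z ^ m = 1) (hmn : m.Coprime n) : g * t = t * g := by
  set z := g * t * g⁻¹ * t⁻¹ with hz
  have hzk : z ∈ ψ.ker := by
    rw [MonoidHom.mem_ker, hz]
    simp only [map_mul, map_inv]
    rw [h]
    group
  have hzc := mem_center_iff.1 (hc hzk)
  have h1 : g * t * g⁻¹ = z * t := by rw [hz]; group
  have h2 : (z * t) ^ n = 1 := by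
    rw [← h1, conj_pow, ht]
    group
  have h3 : Commute z t := (hzc t).symm
  rw [h3.mul_pow, ht, mul_one] at h2
  have h4 : z = 1 := by
    have h5 : orderOf z ∣ m := orderOf_dvd_of_pow_eq_one (hk z hzk)
    have h6 : orderOf z ∣ n := orderOf_dvd_of_pow_eq_one h2
    have h7 : orderOf z ∣ 1 := by
      rw [← hmn.gcd_eq_one]
      exact Nat.dvd_gcd h5 h6
    exact orderOf_eq_one_iff.1 (Nat.dvd_one.1 h7)
  rw [h4, one_mul] at h1
  exact mul_inv_eq_iff_eq_mul.1 h1

/-- lifting of elements of order prime to the kernel -/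
theorem exists_lift (hψ : Function.Surjective ψ) (hc : ψ.ker ≤ center E) {m n : ℕ} (hk : ∀ z ∈ ψ.ker, z ^ m = 1)
    (hmn : m.Coprime n) {x : S} (hx : x ^ n = 1) : ∃ y : E, ψ y = x ∧ y ^ n = 1 := by
  obtain ⟨y, rfl⟩ := hψ x
  have hyk : y ^ n ∈ ψ.ker := by rw [MonoidHom.mem_ker, map_pow, hx]
  obtain ⟨z, hz⟩ : ∃ z, z = y ^ n := ⟨_, rfl⟩
  rw [← hz] at hyk
  have hzc := mem_center_iff.1 (hc hyk)
  have hb := Nat.gcd_eq_gcd_ab m n
  rw [hmn.gcd_eq_one] at hb
  set u := Nat.gcdA m n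
  set v := Nat.gcdB m n
  refine ⟨y * z ^ (-v), ?_, ?_⟩
  · have h1 : z ^ (-v) ∈ ψ.ker := zpow_mem hyk _
    rw [map_mul, MonoidHom.mem_ker.1 h1, mul_one]
  · have h3 : Commute y (z ^ (-v)) := (show Commute y z from hzc y).zpow_right _
    rw [h3.mul_pow, ← hz, ← zpow_natCast, ← zpow_mul]
    nth_rewrite 1 [← zpow_one z]
    rw [← zpow_add]
    have h4 : (1 : ℤ) + -v * (n : ℤ) = (m : ℤ) * u := by
      have : (1 : ℤ) = m * u + n * v := by exact_mod_cast hb
      linear_combination this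
    rw [h4, zpow_mul, zpow_natCast, hk z hyk, one_zpow]

variable (hψ : Function.Surjective ψ) (hc : ψ.ker ≤ center E) {m : ℕ} (hk : ∀ z ∈ ψ.ker, z ^ m = 1) (hmp : m.Coprime p)
  {T : Subgroup E} (hT : ∀ t ∈ T, ∃ n : ℕ, t ^ n = 1 ∧ m.Coprime n)

include hψ hc hk hmp hT in
theorem Yp_map : Yp p (T.map ψ) = (Yp p T).map ψ := by
  unfold Yp
  rw [MonoidHom.map_closure]
  congr 1
  ext y
  constructor
  · rintro ⟨h1, k, h2⟩
    obtain ⟨x, hx, hxk⟩ := exists_lift hψ hc hk (hmp.pow_right k) h2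
    refine ⟨x, ⟨?_, k, hxk⟩, hx⟩
    intro t ht
    obtain ⟨n, hn, hmn⟩ := hT t ht
    apply comm_of_ker hc _ hn hk hmn
    rw [hx]
    exact h1 _ ⟨t, ht, rfl⟩
  · rintro ⟨x, ⟨h1, k, h2⟩, rfl⟩
    refine ⟨?_, k, ?_⟩
    · rintro _ ⟨t, ht, rfl⟩
      rw [← map_mul, h1 t ht, map_mul]
    · rw [← map_pow, h2, map_one]

include hψ hc hk hmp hT in
theorem centralizer_Yp_map : centralizer (Yp p (T.map ψ) : Set S) = (centralizer (Yp p T : Set E)).map ψ := by
  rw [Yp_map hψ hc hk hmp hT]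
  ext y
  rw [mem_centralizer_iff, Subgroup.mem_map]
  constructor
  · intro hy
    obtain ⟨x, rfl⟩ := hψ y
    refine ⟨x, ?_, rfl⟩
    show x ∈ centralizer ((_root_.Subgroup.closure _ : Subgroup E) : Set E)
    rw [centralizer_closure, mem_centralizer_iff]
    rintro g ⟨h1, k, h2⟩
    refine (comm_of_ker hc ?_ h2 hk (hmp.pow_right k)).symm
    exact (hy _ ⟨g, subset_closure ⟨h1, k, h2⟩, rfl⟩).symm
  · rintro ⟨x, hx, rfl⟩ _ ⟨g, hg, rfl⟩
    rw [mem_centralizer_iff] at hx
    rw [← map_mul, hx g hg, map_mul]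

include hψ hc hk hmp hT in
/-- **`Hp` commutes with a central extension of order prime to `p` and to `T`.** -/
theorem Hp_map : Hp p (T.map ψ) = (Hp p T).map ψ := by
  unfold Hp
  rw [Subgroup.map_commutator, centralizer_Yp_map hψ hc hk hmp hT]

end lift

end Cfsg.Agent.H22.DPi
end

-- part: H22/DPi/Core
section
/-!
# A subgroup normalised by `P` and `K` with nilpotent Hall subgroups modulo the centre (helper22)
-/

set_option autoImplicit false

namespace Cfsg.Agent.H22.DPi

open Subgroup Cfsg Cfsg.Agent.H988.CPi Cfsg.Agent.H571.RV Cfsg.Agent.H817.DPi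

universe u

section hall

variable {π : Set ℕ} {G : Type u} [Group G] [Finite G]

/-- Hall subgroups of a normalised subgroup -/
theorem hall_inf {P M : Subgroup G} (hP : IsPiHall π P) (hPM : P ≤ normalizer (M : Set G)) :
    IsPiHall π (P.subgroupOf M) := by
  obtain ⟨N, hN⟩ : ∃ N, N = normalizer (M : Set G) := ⟨_, rfl⟩
  rw [← hN] at hPM
  have hMN : M ≤ N := by rw [hN]; exact le_normalizer
  have h1 : IsPiHall π (P.subgroupOf N) := by
    refine ⟨?_, ?_⟩
    · exact PiN.of_dvd hP.1 (card_comap_dvd_of_injective P N.subtype N.subtype_injective)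
    · exact PiN'.of_dvd hP.2 (relIndex_dvd_index_of_le hPM)
  have h2 : (M.subgroupOf N).Normal := by
    rw [hN]
    exact normal_in_normalizer
  have h3 := isPiHall_subgroupOf h1 (M.subgroupOf N)
  refine ⟨?_, ?_⟩
  · exact PiN.of_dvd hP.1 (card_comap_dvd_of_injective P M.subtype M.subtype_injective)
  · have h4 : ((P.subgroupOf N).subgroupOf (M.subgroupOf N)).index = (P.subgroupOf M).index :=
      relIndex_subgroupOf hMN
    rw [← h4]
    exact h3.2

/-- **The core of the argument.** -/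
theorem comm_of_core {P M : Subgroup G} {K : Subgroup (MulAut G)} (hP : IsPiHall π P) (hI : IH π P K) (hM : M ≠ ⊤)
    (hPM : P ≤ normalizer (M : Set G)) (hKM : K ≤ stab M) (hs : IsSimpleGroup (↥M ⧸ center ↥M))
    (hna : ¬ IsMulCommutative (↥M ⧸ center ↥M))
    (hX : Cls π (↥M ⧸ center ↥M) → ∀ P' : Subgroup (↥M ⧸ center ↥M), IsPiHall π P' → Group.IsNilpotent P')
    {a b : G} (ha : a ∈ P) (hb : b ∈ P) (haM : a ∈ M) (hbM : b ∈ M) (hab : (orderOf a).Coprime (orderOf b)) :
    a * b = b * a := by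
  have h1 := hX (hI M hM hPM hKM _ hna (QuotientGroup.mk' (center ↥M)) (QuotientGroup.mk'_surjective _))
  have h2 := hall_inf hP hPM
  have h3 := h1 _ (isPiHall_map_mk h2 (center ↥M))
  let f : ↥(P.subgroupOf M) →* ↥((P.subgroupOf M).map (QuotientGroup.mk' (center ↥M))) :=
    (QuotientGroup.mk' (center ↥M)).subgroupMap (P.subgroupOf M)
  have h4 : Group.IsNilpotent ↥(P.subgroupOf M) := by
    refine @Subgroup.isNilpotent_of_ker_le_center _ _ _ _ f ?_ h3
    intro x hx
    have h5 : QuotientGroup.mk' (center ↥M) (x : ↥M) = 1 := congrArg Subtype.val hx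
    have h6 : (x : ↥M) ∈ center ↥M := (QuotientGroup.eq_one_iff _).1 h5
    rw [mem_center_iff] at h6 ⊢
    intro y
    exact Subtype.ext (h6 y)
  obtain ⟨a', ha'⟩ : ∃ a' : ↥(P.subgroupOf M), ((a' : ↥M) : G) = a := ⟨⟨⟨a, haM⟩, ha⟩, rfl⟩
  obtain ⟨b', hb'⟩ : ∃ b' : ↥(P.subgroupOf M), ((b' : ↥M) : G) = b := ⟨⟨⟨b, hbM⟩, hb⟩, rfl⟩
  have h5 : a' ^ orderOf a = 1 := by
    apply Subtype.ext
    apply Subtype.ext
    show ((a' : ↥M) : G) ^ orderOf a = 1
    rw [ha', pow_orderOf_eq_one]
  have h6 : b' ^ orderOf b = 1 := by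
    apply Subtype.ext
    apply Subtype.ext
    show ((b' : ↥M) : G) ^ orderOf b = 1
    rw [hb', pow_orderOf_eq_one]
  have h7 := Cfsg.Agent.Lib.NilpotentCoprime.commute_of_pow_eq_one hab h5 h6
  have h8 := congrArg (fun x : ↥(P.subgroupOf M) => ((x : ↥M) : G)) h7.eq
  rw [← ha', ← hb']
  exact h8

end hall

end Cfsg.Agent.H22.DPi
end

-- part: H22/DPi/Scal
section
/-!
# Isometries commuting with the Siegel elements of a nondegenerate subspace of dimension at least three (helper22)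

`smul_of_comm` : such an isometry acts as `1` or as `-1` on the subspace.
-/

set_option autoImplicit false

namespace Cfsg.Agent.H22.DPi

open QuadraticMap
open Cfsg.Agent.LieClassical.OrthCore Cfsg.Agent.LieClassical.OrthTrans Cfsg.Agent.GenOrth

variable {F V : Type*} [Field F] [AddCommGroup V] [Module F V] {Q : QuadraticForm F V}

theorem exists_nonsing_perp [Module.Finite F V] (hQ : Nondeg Q) (hd : 3 ≤ Module.finrank F V) {u v : V}
    (h : Hyp Q u v) : ∃ a, polar Q u a = 0 ∧ polar Q v a = 0 ∧ Q a ≠ 0 := by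
  have hs := split_of_hyp h
  have h1 := finrank_Comp hs
  have h2 := nondeg_restr hQ hs
  by_contra hno
  push Not at hno
  have h3 : ∀ w : Comp (polarBilin Q v) (polarBilin Q u), Q (w : V) = 0 := by
    intro w
    obtain ⟨hw1, hw2⟩ := mem_Comp.1 w.2
    exact hno w hw2 hw1
  have h4 : ∀ w : Comp (polarBilin Q v) (polarBilin Q u), w = 0 := by
    intro w
    apply h2
    intro w'
    rw [polar_restr]
    show Q (w + w') - Q w - Q w' = 0
    have h5 := h3 (w + w')
    rw [Submodule.coe_add] at h5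
    rw [h5, h3, h3]
    ring
  have h5 : Subsingleton (Comp (polarBilin Q v) (polarBilin Q u)) := ⟨fun a b => by rw [h4 a, h4 b]⟩
  have h6 : Module.finrank F (Comp (polarBilin Q v) (polarBilin Q u)) = 0 := Module.finrank_zero_of_subsingleton
  omega

variable {W : Submodule F V}

/-- An isometry preserving every singular line of `W` acts as `1` or `-1` on `W`. -/
theorem eq_of_singular_lines [Finite F] [Module.Finite F W] (hQ : Nondeg (Q.comp W.subtype))
    (hd : 3 ≤ Module.finrank F W) {z : V ≃ₗ[F] V} (hzO : z ∈ O Q)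
    (hz : ∀ u ∈ W, Q u = 0 → ∃ c : F, z u = c • u) :
    ∃ c : F, (c = 1 ∨ c = -1) ∧ ∀ x ∈ W, z x = c • x := by
  have hpol : ∀ x y, polar Q (z x) (z y) = polar Q x y := polar_map hzO
  obtain ⟨u₀, v₀, h₀⟩ := exists_hyp_of_nondeg hQ hd
  obtain ⟨a₀, hua₀, hva₀, ha₀⟩ := exists_nonsing_perp hQ hd h₀
  obtain ⟨u, huW⟩ := u₀
  obtain ⟨v, hvW⟩ := v₀
  obtain ⟨a, haW⟩ := a₀
  have hu : Q u = 0 := h₀.left
  have hv : Q v = 0 := h₀.right
  have huv : polar Q u v = 1 := h₀.pair
  have hua : polar Q u a = 0 := hua₀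
  have hva : polar Q v a = 0 := hva₀
  have ha : Q a ≠ 0 := ha₀
  obtain ⟨l, hl⟩ := hz u huW hu
  obtain ⟨m, hm⟩ := hz v hvW hv
  have hvu : polar Q v u = 1 := by rw [polar_comm]; exact huv
  have huu : polar Q u u = 0 := by rw [polar_self', hu, mul_zero]
  have hvv : polar Q v v = 0 := by rw [polar_self', hv, mul_zero]
  have hlm : l * m = 1 := by
    have h := hpol u v
    rw [hl, hm, polar_smul_left, polar_smul_right, huv] at h
    simpa only [_root_.smul_eq_mul, _root_.mul_one] using h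
  have hl0 : l ≠ 0 := left_ne_zero_of_mul_eq_one hlm
  have hm0 : m ≠ 0 := right_ne_zero_of_mul_eq_one hlm
  -- action on the orthogonal complement
  have hW : ∀ w ∈ W, polar Q u w = 0 → polar Q v w = 0 → z w = l • w ∧ Q w * m = Q w * l := by
    intro w hwW huw hvw
    have hwu : polar Q w u = 0 := by rw [polar_comm]; exact huw
    have hwv : polar Q w v = 0 := by rw [polar_comm]; exact hvw
    have hsing : Q (u + w + (-Q w) • v) = 0 := by
      rw [Q_add, Q_add, QuadraticMap.map_smul, hu, hv, huw, polar_smul_right, polar_add_left,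
        huv, hwv]
      simp
    obtain ⟨n, hn⟩ := hz _ (W.add_mem (W.add_mem huW hwW) (W.smul_mem _ hvW)) hsing
    rw [map_add, map_add, map_smul, hl, hm] at hn
    have huzw : polar Q u (z w) = 0 := by
      have h := hpol u w
      rw [hl, polar_smul_left, huw, smul_eq_mul] at h
      exact (mul_eq_zero.1 h).resolve_left hl0
    have hvzw : polar Q v (z w) = 0 := by
      have h := hpol v w
      rw [hm, polar_smul_left, hvw, smul_eq_mul] at h
      exact (mul_eq_zero.1 h).resolve_left hm0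
    have h1 := congrArg (polar Q v) hn
    simp only [polar_add_right, polar_smul_right, hvu, hvw, hvv, hvzw, smul_eq_mul] at h1
    have h2 := congrArg (polar Q u) hn
    simp only [polar_add_right, polar_smul_right, huu, huw, huv, huzw, smul_eq_mul] at h2
    have hnl : n = l := by linear_combination -h1
    have h3 : Q w * m = Q w * l := by rw [← hnl]; linear_combination -h2
    refine ⟨?_, h3⟩
    rw [hnl] at hn
    have h4 : z w = l • (u + w + (-Q w) • v) - l • u - (-Q w) • m • v := by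
      rw [← hn]; module
    rw [h4]
    have h5 : (-Q w) • m • v = (-(Q w * l)) • v := by
      rw [← h3, smul_smul]; congr 1; ring
    rw [h5]
    module
  have hml : m = l := mul_left_cancel₀ ha (hW a haW hua hva).2
  rw [hml] at hlm hm
  refine ⟨l, ?_, ?_⟩
  · exact mul_self_eq_one_iff.1 hlm
  · intro x hxW
    have h1 : polar Q u (x - polar Q u x • v - polar Q v x • u) = 0 ∧
        polar Q v (x - polar Q u x • v - polar Q v x • u) = 0 := by
      simp only [polar_sub_right, polar_smul_right, huu, hvv, huv, hvu, smul_eq_mul]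
      constructor <;> ring
    have h2 := (hW _ (W.sub_mem (W.sub_mem hxW (W.smul_mem _ hvW)) (W.smul_mem _ huW)) h1.1 h1.2).1
    rw [map_sub, map_sub, map_smul, map_smul, hl, hm] at h2
    have h3 : z x = l • (x - polar Q u x • v - polar Q v x • u) + polar Q u x • l • v
        + polar Q v x • l • u := by
      rw [← h2]; module
    rw [h3]
    module

/-- An isometry commuting with the Siegel elements of `W` preserves every singular line of `W`. -/
theorem exists_smul_of_comm [Finite F] [Module.Finite F W] (hQ : Nondeg (Q.comp W.subtype))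
    (hd : 3 ≤ Module.finrank F W) {z : V ≃ₗ[F] V} (hzO : z ∈ O Q)
    (hz : ∀ u ∈ W, ∀ w ∈ W, ∀ (hu : Q u = 0) (hw : polar Q u w = 0),
      z * siegel Q u w hu hw = siegel Q u w hu hw * z) (u : V) (huW : u ∈ W)
    (hu : Q u = 0) : ∃ c : F, z u = c • u := by
  by_cases hu0 : u = 0
  · exact ⟨0, by rw [hu0, map_zero, smul_zero]⟩
  obtain ⟨v₀, h₀⟩ := hyp_of_sing (x := (⟨u, huW⟩ : W)) hQ (fun h => hu0 (congrArg Subtype.val h)) hu
  obtain ⟨a₀, hua₀, hva₀, ha₀⟩ := exists_nonsing_perp hQ hd h₀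
  obtain ⟨v, hvW⟩ := v₀
  obtain ⟨a, haW⟩ := a₀
  have hv : Q v = 0 := h₀.right
  have huv : polar Q u v = 1 := h₀.pair
  have hua : polar Q u a = 0 := hua₀
  have hva : polar Q v a = 0 := hva₀
  have ha : Q a ≠ 0 := ha₀
  have h1 := hz u huW a haW hu hua
  have h1' : ∀ x, z (x + polar Q u x • a - polar Q a x • u - (Q a * polar Q u x) • u)
      = z x + polar Q u (z x) • a - polar Q a (z x) • u - (Q a * polar Q u (z x)) • u := by
    intro x
    have h : z (siegel Q u a hu hua x) = siegel Q u a hu hua (z x) := congrArg (fun g : V ≃ₗ[F] V => g x) h1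
    rw [siegel_apply, siegel_apply] at h
    exact h
  obtain ⟨u', hu'⟩ : ∃ u', u' = z u := ⟨_, rfl⟩
  have hQu' : Q u' = 0 := by rw [hu', mem_O.1 hzO, hu]
  obtain ⟨t, ht1, ht2⟩ : ∃ t, polar Q u t = 0 ∧ polar Q a t ≠ 0 := by
    by_contra hcon
    push Not at hcon
    have h1 : (⟨a - polar Q a v • u, W.sub_mem haW (W.smul_mem _ huW)⟩ : W) = 0 := by
      apply hQ
      intro x
      show polar Q (a - polar Q a v • u) x = 0
      have h2 := hcon (x - polar Q u x • v) (by
        rw [polar_sub_right, polar_smul_right, huv, smul_eq_mul, mul_one, sub_self])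
      rw [polar_sub_right, polar_smul_right, smul_eq_mul] at h2
      rw [polar_sub_left, polar_smul_left, smul_eq_mul]
      linear_combination h2
    apply ha
    have h3 : a - polar Q a v • u = 0 := congrArg Subtype.val h1
    rw [sub_eq_zero.1 h3, QuadraticMap.map_smul, hu, smul_zero]
  have h2 := h1' t
  rw [map_sub, map_sub, map_add, map_smul, map_smul, map_smul, ht1, ← hu'] at h2
  -- `u'` is a combination of `a` and `u`
  obtain ⟨p, hp⟩ : ∃ p, p = polar Q u (z t) := ⟨_, rfl⟩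
  obtain ⟨s, hs⟩ : ∃ s, s = polar Q a (z t) := ⟨_, rfl⟩
  rw [← hp, ← hs] at h2
  have h3 : (-(polar Q a t)) • u' = p • a + (-s - Q a * p) • u := by
    have : z t + (0 : F) • z a - polar Q a t • u' - (Q a * 0) • u'
        = z t + (-(polar Q a t)) • u' := by module
    rw [this] at h2
    have h4 : (-(polar Q a t)) • u' = (z t + (-(polar Q a t)) • u') - z t := by abel
    rw [h4, h2]
    module
  have hau : polar Q a u = 0 := by rw [polar_comm]; exact hua
  have h4 : Q ((-(polar Q a t)) • u') = 0 := by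
    rw [QuadraticMap.map_smul, hQu', smul_zero]
  rw [h3, Q_add, QuadraticMap.map_smul, QuadraticMap.map_smul, hu, polar_smul_left,
    polar_smul_right, hau, smul_zero, smul_zero, smul_zero, add_zero, add_zero, smul_eq_mul] at h4
  have hp0 : p = 0 := by
    rcases mul_eq_zero.1 h4 with h | h
    · exact mul_self_eq_zero.1 h
    · exact absurd h ha
  rw [hp0, zero_smul, zero_add] at h3
  refine ⟨(-(polar Q a t))⁻¹ * (-s - Q a * 0), ?_⟩
  rw [mul_smul, ← h3, smul_smul, inv_mul_cancel₀ (neg_ne_zero.2 ht2), one_smul, hu']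

/-- **An isometry commuting with the Siegel elements of `W` acts as `1` or `-1` on `W`.** -/
theorem smul_of_comm [Finite F] [Module.Finite F W] (hQ : Nondeg (Q.comp W.subtype))
    (hd : 3 ≤ Module.finrank F W) {z : V ≃ₗ[F] V} (hzO : z ∈ O Q)
    (hz : ∀ u ∈ W, ∀ w ∈ W, ∀ (hu : Q u = 0) (hw : polar Q u w = 0),
      z * siegel Q u w hu hw = siegel Q u w hu hw * z) :
    ∃ c : F, (c = 1 ∨ c = -1) ∧ ∀ x ∈ W, z x = c • x :=
  eq_of_singular_lines hQ hd hzO fun u huW hu => exists_smul_of_comm hQ hd hzO hz u huW hu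

end Cfsg.Agent.H22.DPi
end

-- part: H22/DPi/Orth
section
/-!
# `Hp p T` in `E Q` (helper22)

`V = V₀ ⊥ V₁`, `T ≤ E Q` fixes `V₀` pointwise, every `p`-element of `C(T)` fixes `V₁` pointwise, `dim V₀ ≥ 3`,
`dim V₁ ≥ 5`. Then `Hp p T` is the copy of `E (Q|V₁)`.
-/

set_option autoImplicit false
set_option linter.unusedSectionVars false

namespace Cfsg.Agent.H22.DPi

open QuadraticMap
open Cfsg.Agent.LieClassical.OrthCore Cfsg.Agent.LieClassical.OrthTrans Cfsg.Agent.LieClassical.OrthSimple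
open Cfsg.Agent.GenOrth

variable {F V : Type*} [Field F] [AddCommGroup V] [Module F V] {Q : QuadraticForm F V}

section siegel

theorem siegel_pow {u w : V} (hu : Q u = 0) (hw : polar Q u w = 0) : ∀ (n : ℕ) (h : polar Q u (n • w) = 0),
    siegel Q u w hu hw ^ n = siegel Q u (n • w) hu h
  | 0, h => by
    apply LinearEquiv.ext
    intro v
    rw [siegel_apply, pow_zero]
    simp
  | n + 1, h => by
    have h1 : polar Q u (n • w) = 0 := by
      rw [← Nat.cast_smul_eq_nsmul F, polar_smul_right, hw, smul_zero]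
    rw [pow_succ, siegel_pow hu hw n h1]
    have h2 : polar Q u (n • w + w) = 0 := by rw [polar_add_right, h1, hw, add_zero]
    have h3 : siegel Q u (n • w) hu h1 * siegel Q u w hu hw = siegel Q u (n • w + w) hu h2 := by
      apply LinearEquiv.ext
      intro v
      have := siegelLin_comp hu h1 hw v
      exact this
    rw [h3]
    exact siegel_congr hu h2 hu h rfl (succ_nsmul w n).symm

theorem siegel_pow_char {p : ℕ} [CharP F p] {u w : V} (hu : Q u = 0) (hw : polar Q u w = 0) :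
    siegel Q u w hu hw ^ p = 1 := by
  have h0 : p • w = 0 := by rw [← Nat.cast_smul_eq_nsmul F, CharP.cast_eq_zero, zero_smul]
  have h1 : polar Q u (p • w) = 0 := by rw [h0, polar_zero_right]
  rw [siegel_pow hu hw p h1]
  apply LinearEquiv.ext
  intro v
  rw [siegel_apply, h0]
  simp

end siegel

/-- `V = V₀ ⊥ V₁` -/
structure Dec (Q : QuadraticForm F V) (V₀ V₁ : Submodule F V) : Prop where
  nd : Nondeg Q
  nd₀ : Nondeg (Q.comp V₀.subtype)
  nd₁ : Nondeg (Q.comp V₁.subtype)
  perp : ∀ x ∈ V₀, ∀ y ∈ V₁, polar Q x y = 0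
  sup : V₀ ⊔ V₁ = ⊤

/-- the embedding of a nondegenerate subspace -/
noncomputable def embS [FiniteDimensional F V] {W : Submodule F V} (hW : Nondeg (Q.comp W.subtype)) :
    Emb Q (Q.comp W.subtype) :=
  ofLin W.subtype 1 one_ne_zero (fun x => by rw [one_mul]; rfl) hW

theorem embS_j [FiniteDimensional F V] {W : Submodule F V} (hW : Nondeg (Q.comp W.subtype)) (x : W) :
    (embS hW).j x = (x : V) := rfl

theorem embS_c [FiniteDimensional F V] {W : Submodule F V} (hW : Nondeg (Q.comp W.subtype)) : (embS hW).c = 1 := rfl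

namespace Dec

variable {V₀ V₁ : Submodule F V} (D : Dec Q V₀ V₁)

include D

theorem eq_of {A : Type*} [AddCommGroup A] [Module F A] {f g : V →ₗ[F] A} (h₀ : ∀ x ∈ V₀, f x = g x)
    (h₁ : ∀ x ∈ V₁, f x = g x) : f = g := by
  apply LinearMap.ext
  intro v
  obtain ⟨x, hx, y, hy, rfl⟩ := Submodule.mem_sup.1 (D.sup ▸ Submodule.mem_top : v ∈ V₀ ⊔ V₁)
  rw [map_add, map_add, h₀ x hx, h₁ y hy]

theorem eq_of' {f g : V ≃ₗ[F] V} (h₀ : ∀ x ∈ V₀, f x = g x) (h₁ : ∀ x ∈ V₁, f x = g x) : f = g := by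
  have h : f.toLinearMap = g.toLinearMap := D.eq_of h₀ h₁
  apply LinearEquiv.ext
  intro v
  exact LinearMap.congr_fun h v

theorem mem₁_iff {v : V} : v ∈ V₁ ↔ ∀ x ∈ V₀, polar Q x v = 0 := by
  constructor
  · intro hv x hx
    exact D.perp x hx v hv
  · intro h
    obtain ⟨x, hx, y, hy, rfl⟩ := Submodule.mem_sup.1 (D.sup ▸ Submodule.mem_top : v ∈ V₀ ⊔ V₁)
    have h1 : (⟨x, hx⟩ : V₀) = 0 := by
      apply D.nd₀
      intro z
      show polar Q x z = 0
      have h2 := h z z.2
      rw [polar_add_right, D.perp z z.2 y hy, add_zero, polar_comm] at h2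
      exact h2
    have h2 : x = 0 := congrArg Subtype.val h1
    rw [h2, zero_add]
    exact hy

theorem mem₀_iff {v : V} : v ∈ V₀ ↔ ∀ x ∈ V₁, polar Q x v = 0 := by
  constructor
  · intro hv x hx
    rw [polar_comm]
    exact D.perp v hv x hx
  · intro h
    obtain ⟨x, hx, y, hy, rfl⟩ := Submodule.mem_sup.1 (D.sup ▸ Submodule.mem_top : v ∈ V₀ ⊔ V₁)
    have h1 : (⟨y, hy⟩ : V₁) = 0 := by
      apply D.nd₁
      intro z
      show polar Q y z = 0
      have h2 := h z z.2
      rw [polar_add_right, polar_comm Q z x, D.perp x hx z z.2, zero_add, polar_comm] at h2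
      exact h2
    have h2 : y = 0 := congrArg Subtype.val h1
    rw [h2, add_zero]
    exact hx

/-- an isometry acting as `± 1` on `V₀` preserves `V₁` -/
theorem pres₁ {g : V ≃ₗ[F] V} (hg : g ∈ O Q) {c : F} (hc : c = 1 ∨ c = -1) (h : ∀ x ∈ V₀, g x = c • x) {v : V}
    (hv : v ∈ V₁) : g v ∈ V₁ := by
  rw [D.mem₁_iff]
  intro x hx
  have hcc : c * c = 1 := by rcases hc with rfl | rfl <;> ring
  have h1 : x = g (c • x) := by rw [map_smul, h x hx, smul_smul, hcc, one_smul]
  rw [h1, polar_map hg, polar_smul_left, D.perp x hx v hv, smul_zero]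

theorem pres₀ {g : V ≃ₗ[F] V} (hg : g ∈ O Q) (h : ∀ x ∈ V₁, g x = x) {v : V}
    (hv : v ∈ V₀) : g v ∈ V₀ := by
  rw [D.mem₀_iff]
  intro x hx
  nth_rewrite 1 [← h x hx]
  rw [polar_map hg, polar_comm]
  exact D.perp v hv x hx

variable [FiniteDimensional F V]

theorem π₁_of_mem₀ {v : V} (hv : v ∈ V₀) : (embS D.nd₁).π v = 0 := by
  apply D.nd₁
  intro y
  have h1 := (embS D.nd₁).adj y v
  rw [embS_j, embS_c, one_mul, polar_comm, D.perp v hv y y.2, polar_comm] at h1
  exact h1.symm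

theorem π₁_of_mem₁ {v : V} (hv : v ∈ V₁) : (embS D.nd₁).j ((embS D.nd₁).π v) = v := by
  have h := (embS D.nd₁).π_j ⟨v, hv⟩
  rw [embS_j] at h
  rw [show (embS D.nd₁).π v = ⟨v, hv⟩ from h, embS_j]

variable [Finite F] {p : ℕ} [CharP F p] {T : Subgroup ↥(E Q)}

/-- **The centraliser of `Yp p T`.** -/
theorem mem_cent (h3 : 3 ≤ Module.finrank F V₀)
    (hT₀ : ∀ t ∈ T, ∀ v ∈ V₀, (t : V ≃ₗ[F] V) v = v)
    (hT₁ : ∀ x : ↥(E Q), (∀ t ∈ T, x * t = t * x) → (∃ k : ℕ, x ^ p ^ k = 1) → ∀ v ∈ V₁, (x : V ≃ₗ[F] V) v = v)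
    {g : ↥(E Q)} : g ∈ Subgroup.centralizer (Yp p T : Set ↥(E Q)) ↔
      ∃ c : F, (c = 1 ∨ c = -1) ∧ ∀ x ∈ V₀, (g : V ≃ₗ[F] V) x = c • x := by
  constructor
  · intro hg
    rw [Subgroup.mem_centralizer_iff] at hg
    apply smul_of_comm D.nd₀ h3 (E_le_O g.2)
    intro u hu w hw hu0 huw
    obtain ⟨x, hx⟩ : ∃ x : ↥(E Q), x = ⟨siegel Q u w hu0 huw, siegel_mem_E hu0 huw⟩ := ⟨_, rfl⟩
    have hxv : ∀ v, (x : V ≃ₗ[F] V) v = v + polar Q u v • w - polar Q w v • u - (Q w * polar Q u v) • u := by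
      intro v
      rw [hx]
      exact siegel_apply hu0 huw v
    have hx₁ : ∀ v ∈ V₁, (x : V ≃ₗ[F] V) v = v := by
      intro v hv
      rw [hxv, D.perp u hu v hv, D.perp w hw v hv]
      simp
    have hx₀ : ∀ v ∈ V₀, (x : V ≃ₗ[F] V) v ∈ V₀ := fun v hv => D.pres₀ (E_le_O x.2) hx₁ hv
    have hxT : ∀ t ∈ T, x * t = t * x := by
      intro t ht
      apply Subtype.ext
      apply D.eq_of'
      · intro v hv
        show (x : V ≃ₗ[F] V) ((t : V ≃ₗ[F] V) v) = (t : V ≃ₗ[F] V) ((x : V ≃ₗ[F] V) v)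
        rw [hT₀ t ht v hv, hT₀ t ht _ (hx₀ v hv)]
      · intro v hv
        show (x : V ≃ₗ[F] V) ((t : V ≃ₗ[F] V) v) = (t : V ≃ₗ[F] V) ((x : V ≃ₗ[F] V) v)
        have h1 : (t : V ≃ₗ[F] V) v ∈ V₁ :=
          D.pres₁ (E_le_O t.2) (Or.inl rfl) (fun y hy => by rw [hT₀ t ht y hy, one_smul]) hv
        rw [hx₁ v hv, hx₁ _ h1]
    have hxY : x ∈ Yp p T := by
      refine Subgroup.subset_closure ⟨hxT, 1, ?_⟩
      apply Subtype.ext
      rw [pow_one]
      show (x : V ≃ₗ[F] V) ^ p = 1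
      rw [hx]
      exact siegel_pow_char hu0 huw
    have h2 := congrArg Subtype.val (hg x hxY)
    rw [hx] at h2
    exact h2.symm
  · rintro ⟨c, hc, h⟩
    unfold Yp
    rw [Subgroup.centralizer_closure, Subgroup.mem_centralizer_iff]
    rintro x ⟨hx1, hx2⟩
    have hx₁ := hT₁ x hx1 hx2
    have hx₀ : ∀ v ∈ V₀, (x : V ≃ₗ[F] V) v ∈ V₀ := fun v hv => D.pres₀ (E_le_O x.2) hx₁ hv
    apply Subtype.ext
    apply D.eq_of'
    · intro v hv
      show (x : V ≃ₗ[F] V) ((g : V ≃ₗ[F] V) v) = (g : V ≃ₗ[F] V) ((x : V ≃ₗ[F] V) v)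
      rw [h v hv, h _ (hx₀ v hv), map_smul]
    · intro v hv
      show (x : V ≃ₗ[F] V) ((g : V ≃ₗ[F] V) v) = (g : V ≃ₗ[F] V) ((x : V ≃ₗ[F] V) v)
      rw [hx₁ v hv, hx₁ _ (D.pres₁ (E_le_O g.2) hc h hv)]

/-- the restriction to `V₁` of an isometry acting as `± 1` on `V₀` -/
theorem exists_restr₁ {g : V ≃ₗ[F] V} (hg : g ∈ O Q) {c : F} (hc : c = 1 ∨ c = -1) (h : ∀ x ∈ V₀, g x = c • x) :
    ∃ g' : V₁ ≃ₗ[F] V₁, g' ∈ O (Q.comp V₁.subtype) ∧ ∀ x : V₁, g x = g' x := by
  obtain ⟨g', h1, h2, -⟩ := Emb.exists_restrict (e := embS D.nd₁) hg (by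
    intro v
    have key : g.toLinearMap ∘ₗ (embS D.nd₁).j ∘ₗ (embS D.nd₁).π = (embS D.nd₁).j ∘ₗ (embS D.nd₁).π ∘ₗ g.toLinearMap := by
      apply D.eq_of
      · intro x hx
        show g ((embS D.nd₁).j ((embS D.nd₁).π x)) = (embS D.nd₁).j ((embS D.nd₁).π (g x))
        rw [D.π₁_of_mem₀ hx, map_zero, map_zero, h x hx, map_smul, D.π₁_of_mem₀ hx, smul_zero, map_zero]
      · intro x hx
        show g ((embS D.nd₁).j ((embS D.nd₁).π x)) = (embS D.nd₁).j ((embS D.nd₁).π (g x))
        rw [D.π₁_of_mem₁ hx, D.π₁_of_mem₁ (D.pres₁ hg hc h hx)]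
    exact LinearMap.congr_fun key v)
  exact ⟨g', h1, fun x => h2 x⟩

/-- **`Hp p T` is the copy of `E (Q|V₁)`.** -/
theorem Hp_eq (h3 : 3 ≤ Module.finrank F V₀) (hG₁ : Good (Q.comp V₁.subtype))
    (hT₀ : ∀ t ∈ T, ∀ v ∈ V₀, (t : V ≃ₗ[F] V) v = v)
    (hT₁ : ∀ x : ↥(E Q), (∀ t ∈ T, x * t = t * x) → (∃ k : ℕ, x ^ p ^ k = 1) → ∀ v ∈ V₁, (x : V ≃ₗ[F] V) v = v) :
    Hp p T = (embS D.nd₁).extE.range := by
  apply le_antisymm
  · unfold Hp
    rw [Subgroup.commutator_le]
    intro g₁ hg₁ g₂ hg₂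
    obtain ⟨c₁, hc₁, h₁⟩ := (D.mem_cent h3 hT₀ hT₁).1 hg₁
    obtain ⟨c₂, hc₂, h₂⟩ := (D.mem_cent h3 hT₀ hT₁).1 hg₂
    obtain ⟨g₁', hg₁', hr₁⟩ := D.exists_restr₁ (E_le_O g₁.2) hc₁ h₁
    obtain ⟨g₂', hg₂', hr₂⟩ := D.exists_restr₁ (E_le_O g₂.2) hc₂ h₂
    obtain ⟨z, hzdef⟩ : ∃ z, z = g₁' * g₂' * g₁'⁻¹ * g₂'⁻¹ := ⟨_, rfl⟩
    have hz : z ∈ E (Q.comp V₁.subtype) := by
      rw [← hG₁.commutator_eq_E, hzdef]
      exact Subgroup.commutator_mem_commutator hg₁' hg₂'
    refine ⟨⟨z, hz⟩, ?_⟩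
    rw [commutatorElement_def g₁ g₂, eq_mul_inv_iff_mul_eq, eq_mul_inv_iff_mul_eq]
    apply Subtype.ext
    apply D.eq_of'
    · intro v hv
      show (embS D.nd₁).ext z ((g₂ : V ≃ₗ[F] V) ((g₁ : V ≃ₗ[F] V) v)) =
        (g₁ : V ≃ₗ[F] V) ((g₂ : V ≃ₗ[F] V) v)
      rw [h₁ v hv, map_smul, h₂ v hv, map_smul, map_smul, Emb.ext_of_π_eq_zero _ _ (D.π₁_of_mem₀ hv),
        map_smul, h₁ v hv, smul_comm]
    · intro v hv
      show (embS D.nd₁).ext z ((g₂ : V ≃ₗ[F] V) ((g₁ : V ≃ₗ[F] V) v)) =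
        (g₁ : V ≃ₗ[F] V) ((g₂ : V ≃ₗ[F] V) v)
      have e₁ := hr₁ ⟨v, hv⟩
      have e₂ := hr₂ ⟨v, hv⟩
      simp only at e₁ e₂
      rw [e₁, e₂, hr₁, hr₂, ← embS_j D.nd₁, Emb.ext_j, embS_j]
      have h5 : z * g₂' * g₁' = g₁' * g₂' := by rw [hzdef]; group
      have h6 := congrArg (fun f : V₁ ≃ₗ[F] V₁ => ((f ⟨v, hv⟩ : V₁) : V)) h5
      exact h6
  · have hp : (commutator ↥(E (Q.comp V₁.subtype))) = ⊤ := Subgroup.isPerfect_iff.mpr hG₁.E_perfect |>.commutator_eq_top
    rw [MonoidHom.range_eq_map, ← hp, commutator_def, Subgroup.map_commutator]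
    have h : (⊤ : Subgroup ↥(E (Q.comp V₁.subtype))).map (embS D.nd₁).extE ≤
        Subgroup.centralizer (Yp p T : Set ↥(E Q)) := by
      rintro _ ⟨x, -, rfl⟩
      rw [D.mem_cent h3 hT₀ hT₁]
      refine ⟨1, Or.inl rfl, fun v hv => ?_⟩
      rw [one_smul, Emb.extE_coe, Emb.ext_of_π_eq_zero _ _ (D.π₁_of_mem₀ hv)]
    exact Subgroup.commutator_mono h h

end Dec

end Cfsg.Agent.H22.DPi
end

-- part: H22/DPi/LieT
section
/-!
# `E Q / Z(E Q)` is a group of Lie type; a large `p`-subgroup (helper22)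
-/

set_option autoImplicit false

namespace Cfsg.Agent.H22.DPi

open QuadraticMap Cfsg
open Cfsg.Agent.LieClassical.OrthCore Cfsg.Agent.LieClassical.OrthTrans Cfsg.Agent.LieClassical.OrthSimple
open Cfsg.Agent.LieClassical.OrthFinite Cfsg.Agent.LieClassical.QuadForms
open Cfsg.Agent.GenOrth Cfsg.Agent.H353.TwoOrth

universe u

theorem pomC {ι : Type} [Fintype ι] [DecidableEq ι] {F : Type} [Field F] {f g : (ι → F) → F} (h : f = g) :
    Nonempty (Cfsg.POmega F f ≃* Cfsg.POmega F g) := by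
  subst h
  exact ⟨MulEquiv.refl _⟩

theorem isLie {p : ℕ} {F V : Type} [Field F] [Finite F] [CharP F p] [AddCommGroup V] [Module F V]
    [FiniteDimensional F V] {Q : QuadraticForm F V} (hQ : Nondeg Q) (hd : 8 ≤ Module.finrank F V) {X : Type u} [Group X]
    (e : X ≃* ↥(E Q) ⧸ Subgroup.center ↥(E Q)) : IsLieTypeChar p X := by
  have := Fintype.ofFinite F
  have hG : Good Q := good_of_finite hQ (by omega)
  rcases GenOrth.normal_form (F := F) _ hQ rfl with ⟨k, hk, hs⟩ | ⟨k, hk, hs⟩ | ⟨k, hk, a, b, hab, hs⟩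
  · obtain ⟨h2, c', hc', j, hj⟩ := H125.OrthLoc.exists_sim_odd hQ hk
    have hG' : Good (oddForm k F) := H125.OrthLoc.good_oddF F (by omega) h2
    have ho : Odd (Fintype.card F) := by
      rw [← Nat.not_even_iff_odd, Nat.even_iff]
      intro he
      have h3 : ringChar F = 2 := FiniteField.even_card_iff_char_two.2 he
      have : CharP F 2 := ringChar.of_eq h3
      exact h2 CharTwo.two_eq_zero
    obtain ⟨f⟩ := H125.OrthLoc.equiv_of_sim hG hG' hc' j hj
    refine Or.inr (Or.inr (Or.inr (Or.inl ⟨F, inferInstance, inferInstance, inferInstance, k, by omega, ho, ?_⟩)))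
    obtain ⟨g⟩ := pomC (coe_oddForm (F := F) (m := k))
    exact ⟨e.trans ((quotientCenterCongr f.symm).trans ((H125.OrthLoc.pomEquiv hG').symm.trans g))⟩
  · obtain ⟨c', hc', j, hj⟩ := hs
    have hG' : Good (plusForm k F) := H125.OrthLoc.good_plusF F (by omega)
    obtain ⟨f⟩ := H125.OrthLoc.equiv_of_sim hG hG' hc' j (fun x => by rw [hj, coe_plusForm])
    refine Or.inr (Or.inr (Or.inr (Or.inr (Or.inl
      ⟨F, inferInstance, inferInstance, inferInstance, k, by omega, ?_⟩))))
    obtain ⟨g⟩ := pomC (coe_plusForm (F := F) (m := k))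
    exact ⟨e.trans ((quotientCenterCongr f.symm).trans ((H125.OrthLoc.pomEquiv hG').symm.trans g))⟩
  · obtain ⟨c', hc', j, hj⟩ := hs
    have hG' : Good (minusForm k F a b) := H125.OrthLoc.good_minusF F (by omega) hab
    obtain ⟨f⟩ := H125.OrthLoc.equiv_of_sim hG hG' hc' j (fun x => by rw [hj, coe_minusForm])
    refine Or.inr (Or.inr (Or.inr (Or.inr (Or.inr (Or.inl
      ⟨F, inferInstance, inferInstance, inferInstance, k + 1, a, b, by omega, hab, ?_⟩)))))
    obtain ⟨g⟩ := pomC (coe_minusForm (F := F) (m := k) (a := a) (b := b))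
    exact ⟨e.trans ((quotientCenterCongr f.symm).trans ((H125.OrthLoc.pomEquiv hG').symm.trans g))⟩

section big

variable {F V : Type*} [Field F] [AddCommGroup V] [Module F V] {Q : QuadraticForm F V} {u v : V}

/-- the Siegel elements of a singular vector -/
def sgH (h : Hyp Q u v) : Multiplicative (Comp (polarBilin Q v) (polarBilin Q u)) →* ↥(E Q) where
  toFun c := ⟨siegel Q u (c.toAdd : V) h.left (mem_Comp.1 c.toAdd.2).2, siegel_mem_E _ _⟩
  map_one' := by
    apply Subtype.ext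
    apply LinearEquiv.ext
    intro x
    refine (siegel_apply h.left (w := ((0 : Comp (polarBilin Q v) (polarBilin Q u)) : V))
      (mem_Comp.1 (0 : Comp (polarBilin Q v) (polarBilin Q u)).2).2 x).trans ?_
    simp only [_root_.ZeroMemClass.coe_zero, _root_.smul_zero, _root_.add_zero, _root_.QuadraticMap.polar_zero_left, _root_.zero_smul, _root_.sub_zero, _root_.map_zero, _root_.MulZeroClass.zero_mul, _root_.OneMemClass.coe_one, _root_.LinearEquiv.coe_one, _root_.id_eq]
  map_mul' c d := by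
    apply Subtype.ext
    apply LinearEquiv.ext
    intro x
    exact (siegelLin_comp h.left (mem_Comp.1 c.toAdd.2).2 (mem_Comp.1 d.toAdd.2).2 x).symm

theorem sgH_apply (h : Hyp Q u v) (c : Multiplicative (Comp (polarBilin Q v) (polarBilin Q u))) (x : V) :
    (sgH h c : V ≃ₗ[F] V) x = x + polar Q u x • (c.toAdd : V) - polar Q (c.toAdd : V) x • u -
      (Q (c.toAdd : V) * polar Q u x) • u :=
  siegel_apply h.left (mem_Comp.1 c.toAdd.2).2 x

theorem sgH_v (h : Hyp Q u v) (c : Multiplicative (Comp (polarBilin Q v) (polarBilin Q u))) :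
    (sgH h c : V ≃ₗ[F] V) v = v + (c.toAdd : V) - (Q (c.toAdd : V)) • u := by
  have h1 : (sgH h c : V ≃ₗ[F] V) v = _ := siegel_apply h.left (mem_Comp.1 c.toAdd.2).2 v
  have h2 : polar Q v (c.toAdd : V) = 0 := (mem_Comp.1 c.toAdd.2).1
  rw [h1, h.pair, polar_comm Q (c.toAdd : V) v, h2]
  simp only [_root_.one_smul, _root_.zero_smul, _root_.sub_zero, _root_.mul_one]

theorem eq_one_of_sgH (h : Hyp Q u v) {c : Multiplicative (Comp (polarBilin Q v) (polarBilin Q u))}
    (hc : (sgH h c : V ≃ₗ[F] V) v = v) : c = 1 := by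
  rw [sgH_v] at hc
  have h1 : (c.toAdd : V) = (Q (c.toAdd : V)) • u := by
    have h2 : (c.toAdd : V) - (Q (c.toAdd : V)) • u = v + (c.toAdd : V) - (Q (c.toAdd : V)) • u - v := by abel
    rw [hc, sub_self] at h2
    exact sub_eq_zero.1 h2
  have h2 : polar Q v (c.toAdd : V) = 0 := (mem_Comp.1 c.toAdd.2).1
  rw [h1, polar_smul_right, h.pair', smul_eq_mul, mul_one] at h2
  rw [h2, zero_smul] at h1
  have h3 : c.toAdd = 0 := Subtype.ext h1
  exact h3

theorem sgH_injective (h : Hyp Q u v) : Function.Injective (sgH h) := by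
  rw [injective_iff_map_eq_one]
  intro c hc
  apply eq_one_of_sgH h
  rw [hc]
  rfl

/-- **A large `p`-subgroup.** -/
theorem pow_dvd_card {p : ℕ} (hp : p.Prime) [CharP F p] [Finite F] [FiniteDimensional F V] (hQ : Nondeg Q) {m : ℕ}
    (hm : 3 ≤ m) (hd : m + 2 ≤ Module.finrank F V) : p ^ (m + 1) ∣ Nat.card ↥(E Q) := by
  have : Finite V := Module.finite_of_finite F
  have : Finite (V ≃ₗ[F] V) := Finite.of_injective (fun g : V ≃ₗ[F] V => (g : V → V)) DFunLike.coe_injective
  obtain ⟨u, v, h⟩ := exists_hyp_of_nondeg hQ (by omega)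
  have hs := split_of_hyp h
  have hfr := finrank_Comp hs
  have hnd := nondeg_restr hQ hs
  obtain ⟨z₀, w₀, hzw⟩ := exists_hyp_of_nondeg hnd (by omega)
  -- a vector of `⟨u, v⟩^⊥` orthogonal to `z` and not a multiple of `z`
  obtain ⟨a₀, ha1, ha2, ha3⟩ := exists_nonsing_perp hnd (by omega) hzw
  obtain ⟨z, hz⟩ := z₀
  obtain ⟨a, ha⟩ := a₀
  have hz0 : Q z = 0 := hzw.left
  have hza : polar Q z a = 0 := ha1
  have hQa : Q a ≠ 0 := ha3
  obtain ⟨s, hsdef⟩ : ∃ s : ↥(E Q), s = ⟨siegel Q z a hz0 hza, siegel_mem_E hz0 hza⟩ := ⟨_, rfl⟩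
  have hsa : ∀ x, (s : V ≃ₗ[F] V) x = x + polar Q z x • a - polar Q a x • z - (Q a * polar Q z x) • z := by
    intro x
    rw [hsdef]
    exact siegel_apply hz0 hza x
  have hpz : polar Q v z = 0 ∧ polar Q u z = 0 := mem_Comp.1 hz
  have hpa : polar Q v a = 0 ∧ polar Q u a = 0 := mem_Comp.1 ha
  have hsu : (s : V ≃ₗ[F] V) u = u := by
    rw [hsa, polar_comm Q z u, polar_comm Q a u, hpz.2, hpa.2]
    simp
  have hsv : (s : V ≃ₗ[F] V) v = v := by
    rw [hsa, polar_comm Q z v, polar_comm Q a v, hpz.1, hpa.1]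
    simp
  have hs1 : s ≠ 1 := by
    intro h1
    obtain ⟨w, hw⟩ := w₀
    have hzw' : polar Q z w = 1 := hzw.pair
    have haw : polar Q a w = 0 := by
      have h3 : polar Q w a = 0 := ha2
      rw [polar_comm]
      exact h3
    have h2 := hsa w
    rw [h1, hzw', haw] at h2
    have h3 : a = (Q a) • z := by
      have h4 : w = w + a - (Q a) • z := by
        have h5 : ((1 : ↥(E Q)) : V ≃ₗ[F] V) w = w := rfl
        rw [h5] at h2
        simpa using h2
      have h6 : a - (Q a) • z = (w + a - (Q a) • z) - w := by abel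
      rw [← h4, sub_self] at h6
      exact sub_eq_zero.1 h6
    apply hQa
    rw [h3, QuadraticMap.map_smul, hz0, smul_zero]
  have hsp : s ^ p = 1 := by
    apply Subtype.ext
    show (s : V ≃ₗ[F] V) ^ p = 1
    rw [hsdef]
    exact siegel_pow_char hz0 hza
  obtain ⟨A, hA⟩ : ∃ A, A = (sgH h).range := ⟨_, rfl⟩
  have hsA : s ∉ A := by
    rw [hA]
    rintro ⟨c, hc⟩
    apply hs1
    rw [← hc] at hsv ⊢
    rw [eq_one_of_sgH h hsv, map_one]
  have hsN : s ∈ Subgroup.normalizer (A : Set ↥(E Q)) := by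
    have key : ∀ c, s * sgH h c * s⁻¹ ∈ A := by
      intro c
      have h1 : (s : V ≃ₗ[F] V) (c.toAdd : V) ∈ Comp (polarBilin Q v) (polarBilin Q u) := by
        rw [mem_Comp]
        have e1 : polar Q v ((s : V ≃ₗ[F] V) (c.toAdd : V)) = 0 := by
          nth_rewrite 1 [← hsv]
          rw [polar_map (E_le_O s.2)]
          exact (mem_Comp.1 c.toAdd.2).1
        have e2 : polar Q u ((s : V ≃ₗ[F] V) (c.toAdd : V)) = 0 := by
          nth_rewrite 1 [← hsu]
          rw [polar_map (E_le_O s.2)]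
          exact (mem_Comp.1 c.toAdd.2).2
        exact ⟨e1, e2⟩
      rw [hA]
      refine ⟨Multiplicative.ofAdd ⟨(s : V ≃ₗ[F] V) (c.toAdd : V), h1⟩, ?_⟩
      rw [eq_mul_inv_iff_mul_eq]
      apply Subtype.ext
      apply LinearEquiv.ext
      intro x
      obtain ⟨y, rfl⟩ : ∃ y, y = x := ⟨x, rfl⟩
      show (sgH h (Multiplicative.ofAdd ⟨(s : V ≃ₗ[F] V) (c.toAdd : V), h1⟩) : V ≃ₗ[F] V) ((s : V ≃ₗ[F] V) y) =
        (s : V ≃ₗ[F] V) ((sgH h c : V ≃ₗ[F] V) y)
      rw [sgH_apply, sgH_apply]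
      simp only [toAdd_ofAdd]
      have e1 : polar Q u ((s : V ≃ₗ[F] V) y) = polar Q u y := by
        nth_rewrite 1 [← hsu]
        rw [polar_map (E_le_O s.2)]
      rw [e1, polar_map (E_le_O s.2), mem_O.1 (E_le_O s.2)]
      simp only [map_add, map_sub, map_smul, hsu]
    rw [Subgroup.mem_normalizer_iff]
    intro x
    constructor
    · intro hx
      rw [hA] at hx
      obtain ⟨c, rfl⟩ := hx
      exact key c
    · intro hx
      -- `s` has finite order
      have h1 : ∀ n : ℕ, s ^ n * (s * x * s⁻¹) * (s ^ n)⁻¹ ∈ A := by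
        intro n
        induction n with
        | zero => simpa only [_root_.pow_zero, _root_.one_mul, _root_.inv_one, _root_.mul_one] using hx
        | succ n ih =>
          rw [hA] at ih
          obtain ⟨c, hc⟩ := ih
          have h2 := key c
          rw [hc] at h2
          have h3 : s ^ (n + 1) * (s * x * s⁻¹) * (s ^ (n + 1))⁻¹ = s * (s ^ n * (s * x * s⁻¹) * (s ^ n)⁻¹) * s⁻¹ := by
            rw [pow_succ']
            group
          rw [h3]
          exact h2
      have h2 := h1 (p - 1)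
      have h3 : s ^ (p - 1) = s⁻¹ := by
        rw [eq_inv_iff_mul_eq_one, ← pow_succ, Nat.sub_add_cancel hp.one_lt.le, hsp]
      rw [h3] at h2
      have h4 : s⁻¹ * (s * x * s⁻¹) * (s⁻¹)⁻¹ = x := by group
      rw [h4] at h2
      exact h2
  -- counting
  have hAle : A ≤ Subgroup.normalizer (A : Set ↥(E Q)) := Subgroup.le_normalizer
  have hcA : Nat.card A = Nat.card F ^ (Module.finrank F V - 2) := by
    rw [hA, Nat.card_congr (MonoidHom.ofInjective (sgH_injective h)).symm.toEquiv]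
    have h1 : Nat.card (Multiplicative (Comp (polarBilin Q v) (polarBilin Q u))) =
        Nat.card (Comp (polarBilin Q v) (polarBilin Q u)) := rfl
    rw [h1, Module.natCard_eq_pow_finrank (K := F)]
    congr 1
    omega
  have hpF : p ∣ Nat.card F := by
    have := Fintype.ofFinite F
    rw [Nat.card_eq_fintype_card]
    obtain ⟨n, hn1, hn2⟩ := FiniteField.card F p
    rw [hn2]
    exact dvd_pow_self p n.2.ne'
  have hpA : p ^ m ∣ Nat.card A := by
    rw [hcA]
    exact (pow_dvd_pow p (by omega)).trans (pow_dvd_pow_of_dvd hpF _)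
  have hq : p ∣ Nat.card (↥(Subgroup.normalizer (A : Set ↥(E Q))) ⧸ A.subgroupOf (Subgroup.normalizer (A : Set ↥(E Q)))) := by
    have : Fact p.Prime := ⟨hp⟩
    have h1 : orderOf (QuotientGroup.mk (s := A.subgroupOf (Subgroup.normalizer (A : Set ↥(E Q))))
        (⟨s, hsN⟩ : ↥(Subgroup.normalizer (A : Set ↥(E Q))))) = p := by
      apply orderOf_eq_prime
      · rw [← QuotientGroup.mk_pow, QuotientGroup.eq_one_iff]
        have h2 : (⟨s, hsN⟩ : ↥(Subgroup.normalizer (A : Set ↥(E Q)))) ^ p = 1 := Subtype.ext hsp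
        rw [h2]
        exact one_mem _
      · intro h2
        rw [QuotientGroup.eq_one_iff] at h2
        exact hsA h2
    have h2 := orderOf_dvd_natCard (QuotientGroup.mk (s := A.subgroupOf (Subgroup.normalizer (A : Set ↥(E Q))))
        (⟨s, hsN⟩ : ↥(Subgroup.normalizer (A : Set ↥(E Q)))))
    rwa [h1] at h2
  have h1 : Nat.card ↥(A.subgroupOf (Subgroup.normalizer (A : Set ↥(E Q)))) = Nat.card A :=
    Nat.card_congr (Subgroup.subgroupOfEquivOfLe hAle).toEquiv
  have h2 := Subgroup.card_eq_card_quotient_mul_card_subgroup (A.subgroupOf (Subgroup.normalizer (A : Set ↥(E Q))))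
  rw [h1] at h2
  have h3 : p ^ (m + 1) ∣ Nat.card ↥(Subgroup.normalizer (A : Set ↥(E Q))) := by
    rw [h2, pow_succ, mul_comm]
    exact mul_dvd_mul hq hpA
  exact h3.trans (Subgroup.card_subgroup_dvd_card _)

end big

end Cfsg.Agent.H22.DPi
end

-- part: H22/DPi/OmB
section
/-!
# S4247, orthogonal groups, (b) (helper22)

`om_b` : `T` is normalised by the Hall `π`-subgroup `H` of `E Q`, `V = V₀ ⊥ V₁`, `T` fixes `V₀` pointwise, the
`p`-elements of `C(T)` fix `V₁` pointwise, `H` has a non-central section on `V₁`. Then `dim V₀ ≥ 3` is impossible.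
-/

set_option autoImplicit false

namespace Cfsg.Agent.H22.DPi

open QuadraticMap Cfsg
open Cfsg.Agent.LieClassical.OrthCore Cfsg.Agent.LieClassical.OrthTrans Cfsg.Agent.LieClassical.OrthSimple
open Cfsg.Agent.LieClassical.OrthFinite
open Cfsg.Agent.GenOrth Cfsg.Agent.H988.CPi Cfsg.Agent.H571.RV Cfsg.Agent.H817.DPi

universe u

section lin

variable {F V : Type*} [Field F] [AddCommGroup V] [Module F V] {Q : QuadraticForm F V}

/-- squares of isometries lie in `E Q` -/
theorem sq_mem_E [FiniteDimensional F V] (hG : Good Q) {g : V ≃ₗ[F] V} (hg : g ∈ O Q) : g * g ∈ E Q := by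
  rw [O_eq_closure hG.nondeg] at hg
  have key : g ∈ O Q ∧ g * g ∈ E Q := by
    induction hg using Subgroup.closure_induction with
    | mem x hx =>
      rcases hx with ⟨v, hv, rfl⟩ | hx
      · refine ⟨refl_mem_O hv, ?_⟩
        rw [refl_mul_self]
        exact one_mem _
      · have h1 : x ∈ E Q := Subgroup.subset_closure hx
        exact ⟨E_le_O h1, mul_mem h1 h1⟩
    | one => exact ⟨one_mem _, by rw [mul_one]; exact one_mem _⟩
    | mul x y _ _ hx hy =>
      refine ⟨mul_mem hx.1 hy.1, ?_⟩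
      have h1 : x * y * (x * y) = (x * x) * (x⁻¹ * y * x⁻¹⁻¹ * y⁻¹) * (y * y) := by group
      have h2 : x⁻¹ * y * x⁻¹⁻¹ * y⁻¹ ∈ E Q := by
        rw [← hG.commutator_eq_E]
        exact Subgroup.commutator_mem_commutator (inv_mem hx.1) hy.1
      rw [h1]
      exact mul_mem (mul_mem hx.2 h2) hy.2
    | inv x _ hx =>
      refine ⟨inv_mem hx.1, ?_⟩
      rw [← mul_inv_rev]
      exact inv_mem hx.2
  exact key.2

/-- isometries of odd order lie in `E Q` -/
theorem mem_E_of_odd [FiniteDimensional F V] (hG : Good Q) {g : V ≃ₗ[F] V} (hg : g ∈ O Q) {n : ℕ} (hn : Odd n)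
    (h : g ^ n = 1) : g ∈ E Q := by
  obtain ⟨k, rfl⟩ := hn
  have h1 : g = (g * g) ^ (k + 1) := by
    have h2 : (g * g) ^ (k + 1) = g ^ (2 * k + 1) * g := by
      rw [← pow_two, ← pow_mul, ← pow_succ]
      congr 1
    rw [h2, h, one_mul]
  rw [h1]
  exact pow_mem (sq_mem_E hG hg) _

theorem not_comm_PE (hG : Good Q) : ¬ IsMulCommutative (↥(E Q) ⧸ Subgroup.center ↥(E Q)) := by
  intro hc
  have hs : IsSimpleGroup (↥(E Q) ⧸ Subgroup.center ↥(E Q)) := good_isSimpleGroup hG
  have h0 : commutator ↥(E Q) = ⊤ := (Subgroup.isPerfect_iff.mpr hG.E_perfect).commutator_eq_top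
  have h1 : commutator (↥(E Q) ⧸ Subgroup.center ↥(E Q)) = ⊤ := by
    have h2 : (commutator ↥(E Q)).map (QuotientGroup.mk' (Subgroup.center ↥(E Q))) = ⊤ := by
      rw [h0, ← MonoidHom.range_eq_map]
      exact MonoidHom.range_eq_top.mpr (QuotientGroup.mk'_surjective _)
    rw [eq_top_iff, ← h2, commutator_def, Subgroup.map_commutator]
    exact Subgroup.commutator_mono le_top le_top
  have h3 : commutator (↥(E Q) ⧸ Subgroup.center ↥(E Q)) = ⊥ := by
    rw [commutator_def, Subgroup.commutator_eq_bot_iff_le_centralizer]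
    intro x _
    rw [Subgroup.mem_centralizer_iff]
    intro y _
    exact hc.is_comm.comm y x
  rw [h1] at h3
  have := hs.toNontrivial
  exact top_ne_bot h3

theorem cen_sq (hG : Good Q) {z : ↥(E Q)} (hz : z ∈ Subgroup.center ↥(E Q)) :
    ∃ c : F, (c = 1 ∨ c = -1) ∧ ∀ v, (z : V ≃ₗ[F] V) v = c • v := by
  obtain ⟨c, hc⟩ := Cfsg.Agent.TitsThree.KSideO.scalar_of_center hG hz
  exact ⟨c, scalar_sq hG z.2 hc, hc⟩

/-- the exponent of the centre -/
theorem cen_pow (hG : Good Q) {p : ℕ} [CharP F p] {z : ↥(E Q)} (hz : z ∈ Subgroup.center ↥(E Q)) :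
    z ^ (if p = 2 then 1 else 2) = 1 := by
  obtain ⟨c, hc, h⟩ := cen_sq hG hz
  split_ifs with hp
  · subst hp
    have h1 : c = 1 := by
      rcases hc with hc | hc
      · exact hc
      · rw [hc, CharTwo.neg_eq]
    rw [pow_one]
    apply Subtype.ext
    apply LinearEquiv.ext
    intro v
    rw [h, h1, one_smul]
    rfl
  · apply Subtype.ext
    apply LinearEquiv.ext
    intro v
    have h1 : ((z ^ 2 : ↥(E Q)) : V ≃ₗ[F] V) v = (z : V ≃ₗ[F] V) ((z : V ≃ₗ[F] V) v) := by
      rw [pow_two]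
      rfl
    rw [h1, h, h, smul_smul]
    have h2 : c * c = 1 := by rcases hc with rfl | rfl <;> ring
    rw [h2, one_smul]
    rfl

end lin

theorem card_psl_three : Nat.card (Matrix.ProjectiveSpecialLinearGroup (Fin 3) (ZMod 2)) ∣ 168 := by
  have h1 : Nat.card (Matrix.ProjectiveSpecialLinearGroup (Fin 3) (ZMod 2)) ∣
      Nat.card (Matrix.SpecialLinearGroup (Fin 3) (ZMod 2)) :=
    ⟨_, Subgroup.card_eq_card_quotient_mul_card_subgroup _⟩
  have h2 : Nat.card (Matrix.SpecialLinearGroup (Fin 3) (ZMod 2)) ∣ Nat.card (GL (Fin 3) (ZMod 2)) :=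
    Subgroup.card_dvd_of_injective Matrix.SpecialLinearGroup.toGL Matrix.SpecialLinearGroup.toGL_injective
  rw [Matrix.card_GL_field] at h2
  refine (h1.trans h2).trans ?_
  rw [Fin.prod_univ_three]
  simp [ZMod.card]

theorem card_psl_five : Nat.card (Matrix.ProjectiveSpecialLinearGroup (Fin 5) (ZMod 2)) ∣ 9999360 := by
  have h1 : Nat.card (Matrix.ProjectiveSpecialLinearGroup (Fin 5) (ZMod 2)) ∣
      Nat.card (Matrix.SpecialLinearGroup (Fin 5) (ZMod 2)) :=
    ⟨_, Subgroup.card_eq_card_quotient_mul_card_subgroup _⟩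
  have h2 : Nat.card (Matrix.SpecialLinearGroup (Fin 5) (ZMod 2)) ∣ Nat.card (GL (Fin 5) (ZMod 2)) :=
    Subgroup.card_dvd_of_injective Matrix.SpecialLinearGroup.toGL Matrix.SpecialLinearGroup.toGL_injective
  rw [Matrix.card_GL_field] at h2
  refine (h1.trans h2).trans ?_
  rw [Fin.prod_univ_five]
  simp only [ZMod.card, _root_.Nat.reducePow, _root_.Fin.isValue, _root_.Fin.coe_ofNat_eq_mod, _root_.Nat.zero_mod, _root_.pow_zero, _root_.Nat.add_one_sub_one, _root_.Nat.one_mod, _root_.pow_one, _root_.Nat.reduceSub, _root_.Nat.reduceMul, _root_.Nat.reduceMod, _root_.Nat.mod_succ, _root_.dvd_refl]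

section siegelne

variable {F V : Type*} [Field F] [Finite F] [AddCommGroup V] [Module F V] [FiniteDimensional F V]
  {Q : QuadraticForm F V} {V₀ V₁ : Submodule F V}

/-- a nontrivial `p`-element of `E Q` which fixes `V₁` pointwise and preserves `V₀` -/
theorem Dec.exists_s (D : Dec Q V₀ V₁) (h3 : 3 ≤ Module.finrank F V₀) {p : ℕ} [CharP F p] :
    ∃ s : ↥(E Q), s ≠ 1 ∧ s ^ p = 1 ∧ (∀ v ∈ V₁, (s : V ≃ₗ[F] V) v = v) ∧ ∀ v ∈ V₀, (s : V ≃ₗ[F] V) v ∈ V₀ := by
  obtain ⟨u₀, v₀, h⟩ := exists_hyp_of_nondeg D.nd₀ h3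
  obtain ⟨a₀, ha1, ha2, ha3⟩ := exists_nonsing_perp D.nd₀ h3 h
  obtain ⟨u, hu⟩ := u₀
  obtain ⟨v, hv⟩ := v₀
  obtain ⟨a, ha⟩ := a₀
  have hu0 : Q u = 0 := h.left
  have hua : polar Q u a = 0 := ha1
  have hva : polar Q v a = 0 := ha2
  have huv : polar Q u v = 1 := h.pair
  have hQa : Q a ≠ 0 := ha3
  obtain ⟨s, hsdef⟩ : ∃ s : ↥(E Q), s = ⟨siegel Q u a hu0 hua, siegel_mem_E hu0 hua⟩ := ⟨_, rfl⟩
  have hsa : ∀ x, (s : V ≃ₗ[F] V) x = x + polar Q u x • a - polar Q a x • u - (Q a * polar Q u x) • u := by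
    intro x
    rw [hsdef]
    exact siegel_apply hu0 hua x
  have hs₁ : ∀ x ∈ V₁, (s : V ≃ₗ[F] V) x = x := by
    intro x hx
    rw [hsa, D.perp u hu x hx, D.perp a ha x hx]
    simp
  refine ⟨s, ?_, ?_, hs₁, fun x hx => D.pres₀ (E_le_O s.2) hs₁ hx⟩
  · intro h1
    have h2 := hsa v
    rw [h1, huv, polar_comm Q a v, hva] at h2
    have h5 : ((1 : ↥(E Q)) : V ≃ₗ[F] V) v = v := rfl
    rw [h5] at h2
    have h6 : a = (Q a) • u := by
      have h4 : v = v + a - (Q a) • u := by simpa using h2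
      have h7 : a - (Q a) • u = (v + a - (Q a) • u) - v := by abel
      rw [← h4, sub_self] at h7
      exact sub_eq_zero.1 h7
    apply hQa
    rw [h6, QuadraticMap.map_smul, hu0, smul_zero]
  · apply Subtype.ext
    show (s : V ≃ₗ[F] V) ^ p = 1
    rw [hsdef]
    exact siegel_pow_char hu0 hua

/-- elements of odd order fixing `V₀` pointwise -/
theorem Dec.mem_range (D : Dec Q V₀ V₁) (hG₁ : Good (Q.comp V₁.subtype)) {x : ↥(E Q)}
    (hx : ∀ v ∈ V₀, (x : V ≃ₗ[F] V) v = v) {n : ℕ} (hn : Odd n) (hxn : x ^ n = 1) :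
    x ∈ (embS D.nd₁).extE.range := by
  obtain ⟨g, hg, hgx⟩ := D.exists_restr₁ (E_le_O x.2) (c := 1) (Or.inl rfl) (fun v hv => by rw [hx v hv, one_smul])
  have h1 : (embS D.nd₁).ext g = (x : V ≃ₗ[F] V) := by
    apply D.eq_of'
    · intro v hv
      rw [Emb.ext_of_π_eq_zero _ _ (D.π₁_of_mem₀ hv), hx v hv]
    · intro v hv
      have h2 := hgx ⟨v, hv⟩
      have h3 := (embS D.nd₁).ext_j g ⟨v, hv⟩
      rw [embS_j, embS_j] at h3
      exact h3.trans h2.symm
  have h2 : g ^ n = 1 := by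
    apply (embS D.nd₁).ext_injective
    rw [map_pow, h1, map_one]
    exact congrArg Subtype.val hxn
  exact ⟨⟨g, mem_E_of_odd hG₁ hg hn h2⟩, Subtype.ext h1⟩

end siegelne

/-- **S4247, orthogonal groups, (b)** -/
theorem om_b {π : Set ℕ} {S : Type u} [Group S] [Finite S] [IsSimpleGroup S] (hna : ¬ IsMulCommutative S)
    {p : ℕ} (hp : p.Prime)
    {P : Subgroup S} {K B : Subgroup (MulAut S)} (C : Cfg π P K B) (hI : IH π P K)
    {F V : Type} [Field F] [Finite F] [CharP F p] [AddCommGroup V] [Module F V] [FiniteDimensional F V]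
    {Q : QuadraticForm F V} {V₀ V₁ : Submodule F V} (D : Dec Q V₀ V₁)
    (h3 : 3 ≤ Module.finrank F V₀) (h12 : 12 ≤ Module.finrank F V₁)
    {ψ : ↥(E Q) →* S} (hψ : Function.Surjective ψ) (hψc : ψ.ker ≤ Subgroup.center ↥(E Q))
    {H T : Subgroup ↥(E Q)} (hHπ : PiN π (Nat.card H)) (hHP : H.map ψ = P) (hTH : T ≤ H)
    (hHT : ∀ h ∈ H, ∀ t ∈ T, h * t * h⁻¹ ∈ T)
    (hT₀ : ∀ t ∈ T, ∀ v ∈ V₀, (t : V ≃ₗ[F] V) v = v)
    (hT₁ : ∀ x : ↥(E Q), (∀ t ∈ T, x * t = t * x) → (∃ k : ℕ, x ^ p ^ k = 1) → ∀ v ∈ V₁, (x : V ≃ₗ[F] V) v = v)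
    {y t : ↥(E Q)} (hyH : y ∈ H) (hy₀ : ∀ v ∈ V₀, (y : V ≃ₗ[F] V) v = v) (htT : t ∈ T)
    (hcop : (orderOf y).Coprime (orderOf t)) (hyt : y * t ≠ t * y)
    (excl : ∀ (X : Type u) [Group X] [Finite X] [IsSimpleGroup X], ¬ IsMulCommutative X → IsLieTypeChar p X → Cls π X →
      (∀ P : Subgroup X, IsPiHall π P → Group.IsNilpotent P) ∨
        Nonempty (X ≃* Matrix.ProjectiveSpecialLinearGroup (Fin 3) (ZMod 2)) ∨
        Nonempty (X ≃* Matrix.ProjectiveSpecialLinearGroup (Fin 5) (ZMod 2))) : False := by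
  have hfact := Fact.mk hp
  have hfinV : Finite V := Module.finite_of_finite F
  have hfinG : Finite (V ≃ₗ[F] V) := Finite.of_injective (fun g : V ≃ₗ[F] V => (g : V → V)) DFunLike.coe_injective
  have hfinG₁ : Finite (V₁ ≃ₗ[F] V₁) :=
    Finite.of_injective (fun g : V₁ ≃ₗ[F] V₁ => (g : V₁ → V₁)) DFunLike.coe_injective
  have hdV : Module.finrank F V₁ ≤ Module.finrank F V := Submodule.finrank_le V₁
  have hG : Good Q := good_of_finite D.nd (by omega)
  have hG₁ : Good (Q.comp V₁.subtype) := good_of_finite D.nd₁ (by omega)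
  obtain ⟨m, hm⟩ : ∃ m, m = if p = 2 then 1 else 2 := ⟨_, rfl⟩
  have hk : ∀ z ∈ ψ.ker, z ^ m = 1 := fun z hz => by rw [hm]; exact cen_pow hG (hψc hz)
  have hmp : m.Coprime p := by
    rw [hm]
    split_ifs with h
    · exact Nat.coprime_one_left p
    · exact (Nat.coprime_primes Nat.prime_two hp).2 (Ne.symm h)
  have hmodd : ∀ n : ℕ, Odd n → m.Coprime n := by
    intro n hn
    rw [hm]
    split_ifs with h
    · exact Nat.coprime_one_left n
    · exact (Nat.coprime_two_left).2 hn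
  have hHodd : Odd (Nat.card H) := by
    rw [← Nat.not_even_iff_odd]
    intro h
    exact C.two (hHπ 2 Nat.prime_two h.two_dvd)
  have hpow : ∀ x ∈ H, x ^ Nat.card H = 1 := by
    intro x hx
    have h := pow_card_eq_one' (x := (⟨x, hx⟩ : H))
    exact congrArg Subtype.val h
  have hT : ∀ t ∈ T, ∃ n : ℕ, t ^ n = 1 ∧ m.Coprime n :=
    fun t ht => ⟨Nat.card H, hpow t (hTH ht), hmodd _ hHodd⟩
  have hHpE := D.Hp_eq h3 hG₁ hT₀ hT₁
  obtain ⟨M, hM⟩ : ∃ M, M = Hp p (T.map ψ) := ⟨_, rfl⟩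
  have hM1 : M = (embS D.nd₁).extE.range.map ψ := by rw [hM, Hp_map hψ hψc hk hmp hT, hHpE]
  -- elements of `H` fixing `V₀`
  have hfix : ∀ x ∈ H, (∀ v ∈ V₀, (x : V ≃ₗ[F] V) v = v) → ψ x ∈ M := by
    intro x hx h
    rw [hM1]
    exact ⟨x, D.mem_range hG₁ h hHodd (hpow x hx), rfl⟩
  -- `M ≠ ⊤`
  have hMt : M ≠ ⊤ := by
    intro hMt
    obtain ⟨s, hs1, hsp, hs₁, hs₀⟩ := D.exists_s h3 (p := p)
    apply hs1
    have hcomm : ∀ g : ↥(E (Q.comp V₁.subtype)), s * (embS D.nd₁).extE g = (embS D.nd₁).extE g * s := by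
      intro g
      have hg₀ : ∀ v ∈ V₀, ((embS D.nd₁).extE g : V ≃ₗ[F] V) v = v := fun v hv => by
        rw [Emb.extE_coe, Emb.ext_of_π_eq_zero _ _ (D.π₁_of_mem₀ hv)]
      apply Subtype.ext
      apply D.eq_of'
      · intro v hv
        show (s : V ≃ₗ[F] V) (((embS D.nd₁).extE g : V ≃ₗ[F] V) v) = ((embS D.nd₁).extE g : V ≃ₗ[F] V) ((s : V ≃ₗ[F] V) v)
        rw [hg₀ v hv, hg₀ _ (hs₀ v hv)]
      · intro v hv
        show (s : V ≃ₗ[F] V) (((embS D.nd₁).extE g : V ≃ₗ[F] V) v) = ((embS D.nd₁).extE g : V ≃ₗ[F] V) ((s : V ≃ₗ[F] V) v)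
        have h1 : ((embS D.nd₁).extE g : V ≃ₗ[F] V) v ∈ V₁ :=
          D.pres₁ (E_le_O ((embS D.nd₁).extE g).2) (c := 1) (Or.inl rfl) (fun y hy => by rw [hg₀ y hy, one_smul]) hv
        rw [hs₁ v hv, hs₁ _ h1]
    have hcen : ψ s ∈ Subgroup.center S := by
      rw [Subgroup.mem_center_iff]
      intro x
      have hx : x ∈ M := by rw [hMt]; exact Subgroup.mem_top x
      rw [hM1] at hx
      obtain ⟨_, ⟨g, rfl⟩, rfl⟩ := hx
      rw [← map_mul, ← map_mul, hcomm]
    have hc : Subgroup.center S = ⊥ := by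
      rcases IsSimpleGroup.eq_bot_or_eq_top_of_normal (Subgroup.center S) inferInstance with h | h
      · exact h
      · exfalso
        apply hna
        refine ⟨⟨fun a b => ?_⟩⟩
        have ha : a ∈ Subgroup.center S := by rw [h]; exact Subgroup.mem_top a
        exact (Subgroup.mem_center_iff.1 ha b).symm
    rw [hc, Subgroup.mem_bot] at hcen
    have h1 := hk s hcen
    have h2 : orderOf s ∣ 1 := by
      rw [← hmp.gcd_eq_one]
      exact Nat.dvd_gcd (orderOf_dvd_of_pow_eq_one h1) (orderOf_dvd_of_pow_eq_one hsp)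
    exact orderOf_eq_one_iff.1 (Nat.dvd_one.1 h2)
  -- `P` normalises `M`
  have hPM : P ≤ Subgroup.normalizer (M : Set S) := by
    intro x hx
    rw [← hHP] at hx
    obtain ⟨h, hh, rfl⟩ := hx
    have h1 : (T.map ψ).map (MulAut.conj (ψ h)).toMonoidHom = T.map ψ := by
      ext z
      constructor
      · rintro ⟨_, ⟨t, ht, rfl⟩, rfl⟩
        refine ⟨h * t * h⁻¹, hHT h hh t ht, ?_⟩
        rw [map_mul, map_mul, map_inv]
        rfl
      · rintro ⟨t, ht, rfl⟩
        refine ⟨ψ (h⁻¹ * t * h⁻¹⁻¹), ⟨_, hHT _ (inv_mem hh) t ht, rfl⟩, ?_⟩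
        show ψ h * ψ (h⁻¹ * t * h⁻¹⁻¹) * (ψ h)⁻¹ = ψ t
        rw [← map_mul, ← map_inv, ← map_mul]
        congr 1
        group
    have h2 : M.map (MulAut.conj (ψ h)).toMonoidHom = M := by
      rw [hM]
      exact Hp_aut h1
    rw [Subgroup.mem_normalizer_iff]
    intro n
    constructor
    · intro hn
      rw [← h2]
      exact ⟨n, hn, rfl⟩
    · intro hn
      rw [← h2] at hn
      obtain ⟨n', hn', he⟩ := hn
      have he' : (MulAut.conj (ψ h)) n' = (MulAut.conj (ψ h)) n := he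
      rw [← (MulAut.conj (ψ h)).injective he']
      exact hn'
  -- `K` stabilises `M`
  have hKM : K ≤ stab M := by
    intro k hkK
    rw [mem_stab, hM]
    apply Hp_aut
    have hfx : ∀ t ∈ T, k (ψ t) = ψ t := fun t ht => C.fix k hkK _ (by rw [← hHP]; exact ⟨t, hTH ht, rfl⟩)
    ext z
    constructor
    · rintro ⟨_, ⟨t, ht, rfl⟩, rfl⟩
      exact ⟨t, ht, (hfx t ht).symm⟩
    · rintro ⟨t, ht, rfl⟩
      exact ⟨ψ t, ⟨t, ht, rfl⟩, hfx t ht⟩
  -- the structure of `M`
  have hinj : Function.Injective (ψ.comp (embS D.nd₁).extE) := by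
    rw [injective_iff_map_eq_one]
    intro g hg
    have h1 : (embS D.nd₁).extE g ∈ Subgroup.center ↥(E Q) := hψc hg
    obtain ⟨c, -, hc⟩ := cen_sq hG h1
    have h2 : ∃ x : V₀, x ≠ 0 := by
      have : Nontrivial V₀ := Module.nontrivial_of_finrank_pos (R := F) (by omega)
      exact exists_ne 0
    obtain ⟨x, hx⟩ := h2
    have h3 := hc x
    rw [Emb.extE_coe, Emb.ext_of_π_eq_zero _ _ (D.π₁_of_mem₀ x.2)] at h3
    have hc1 : c = 1 := by
      have h4 : (1 - c) • (x : V) = 0 := by rw [sub_smul, one_smul, ← h3, sub_self]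
      rcases smul_eq_zero.1 h4 with h5 | h5
      · exact (sub_eq_zero.1 h5).symm
      · exact (hx (Subtype.ext h5)).elim
    apply (embS D.nd₁).extE_injective
    rw [map_one]
    apply Subtype.ext
    apply LinearEquiv.ext
    intro v
    rw [hc, hc1, one_smul]
    rfl
  have hrange : (ψ.comp (embS D.nd₁).extE).range = M := by
    rw [hM1, MonoidHom.range_comp]
  have e : ↥(E (Q.comp V₁.subtype)) ≃* ↥M :=
    (MonoidHom.ofInjective hinj).trans (MulEquiv.subgroupCongr hrange)
  have eX : (↥M ⧸ Subgroup.center ↥M) ≃* (↥(E (Q.comp V₁.subtype)) ⧸ Subgroup.center ↥(E (Q.comp V₁.subtype))) :=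
    quotientCenterCongr e.symm
  have hs : IsSimpleGroup (↥M ⧸ Subgroup.center ↥M) := by
    have h1 : IsSimpleGroup (↥(E (Q.comp V₁.subtype)) ⧸ Subgroup.center ↥(E (Q.comp V₁.subtype))) :=
      good_isSimpleGroup hG₁
    exact eX.isSimpleGroup
  have hnaX : ¬ IsMulCommutative (↥M ⧸ Subgroup.center ↥M) := by
    intro h
    apply not_comm_PE hG₁
    refine ⟨⟨fun a b => ?_⟩⟩
    apply eX.symm.injective
    rw [map_mul, map_mul]
    exact h.is_comm.comm _ _
  have hLie : IsLieTypeChar p (↥M ⧸ Subgroup.center ↥M) := isLie D.nd₁ (by omega) eX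
  -- the order
  have hdvd : p ^ 11 ∣ Nat.card (↥M ⧸ Subgroup.center ↥M) := by
    have h1 : p ^ (10 + 1) ∣ Nat.card ↥(E (Q.comp V₁.subtype)) :=
      pow_dvd_card hp D.nd₁ (m := 10) (by norm_num) (by omega)
    rw [Nat.card_congr eX.toEquiv]
    rw [Subgroup.card_eq_card_quotient_mul_card_subgroup (Subgroup.center ↥(E (Q.comp V₁.subtype)))] at h1
    refine Nat.Coprime.dvd_of_dvd_mul_right ?_ h1
    apply Nat.Coprime.pow_left
    rw [hp.coprime_iff_not_dvd]
    intro h2
    obtain ⟨z, hz⟩ := exists_prime_orderOf_dvd_card' (G := ↥(Subgroup.center ↥(E (Q.comp V₁.subtype)))) p h2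
    have h4 : (z : ↥(E (Q.comp V₁.subtype))) ^ m = 1 := by rw [hm]; exact cen_pow hG₁ z.2
    have h5 : z ^ m = 1 := Subtype.ext h4
    have h6 : p ∣ m := by rw [← hz]; exact orderOf_dvd_of_pow_eq_one h5
    have h7 : p ∣ 1 := by
      rw [← hmp.gcd_eq_one]
      exact Nat.dvd_gcd h6 dvd_rfl
    exact hp.one_lt.ne' (Nat.dvd_one.1 h7)
  have hnil : Cls π (↥M ⧸ Subgroup.center ↥M) →
      ∀ P' : Subgroup (↥M ⧸ Subgroup.center ↥M), IsPiHall π P' → Group.IsNilpotent P' := by
    intro hcls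
    rcases excl _ hnaX hLie hcls with h | ⟨⟨f⟩⟩ | ⟨⟨f⟩⟩
    · exact h
    · exfalso
      rw [Nat.card_congr f.toEquiv] at hdvd
      have h1 := Nat.le_of_dvd (by norm_num) (hdvd.trans card_psl_three)
      have h2 : 2 ^ 11 ≤ p ^ 11 := Nat.pow_le_pow_left hp.two_le 11
      norm_num at h2
      omega
    · exfalso
      rw [Nat.card_congr f.toEquiv] at hdvd
      have h0 := hdvd.trans card_psl_five
      have h1 := Nat.le_of_dvd (by norm_num) h0
      have h2 : p < 5 := by
        by_contra hc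
        have h3 : 5 ^ 11 ≤ p ^ 11 := Nat.pow_le_pow_left (by omega) 11
        norm_num at h3
        omega
      have h3 := hp.two_le
      interval_cases p
      · norm_num at h0
      · norm_num at h0
      · norm_num at h0
  -- the conclusion
  have h1 : ψ y * ψ t = ψ t * ψ y := by
    have hCP : IsPiHall π P := C.hall
    refine comm_of_core hCP hI hMt hPM hKM hs hnaX hnil ?_ ?_ (hfix y hyH hy₀) (hfix t (hTH htT) (hT₀ t htT)) ?_
    · rw [← hHP]; exact ⟨y, hyH, rfl⟩
    · rw [← hHP]; exact ⟨t, hTH htT, rfl⟩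
    · exact (hcop.coprime_dvd_left (orderOf_map_dvd ψ y)).coprime_dvd_right (orderOf_map_dvd ψ t)
  exact hyt (comm_of_ker hψc h1 (hpow t (hTH htT)) hk (hmodd _ hHodd))

end Cfsg.Agent.H22.DPi
end
end

-- part: H602/DPO/Cnt
section
set_option linter.all false
open scoped Cfsg.Agent.FastGrp

/-!
# S4247, row `POmega`: the order of the centraliser of `T` in a frame (helper602)
-/

set_option autoImplicit false
set_option linter.unusedSectionVars false

namespace Cfsg.Agent.H602.DPO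

open Module Subgroup Cfsg Cfsg.Agent.H167.OP Cfsg.Agent.H170.HL Cfsg.Agent.H988.CPi Cfsg.Agent.H560.HallKey
  Cfsg.Agent.H553.OddHall Cfsg.Agent.H571.RV Cfsg.Agent.H572.RV Cfsg.Agent.H602.DP Cfsg.Agent.H969.DPi

variable {F : Type*} [Field F] [Finite F] {V : Type*} [AddCommGroup V] [Module F V] [Finite V]
  [FiniteDimensional F V] {K : Type*} [Group K] [Finite K]
  {ρ : Representation F K V} {f : V →ₗ[F] V →ₗ[F] F} {Q : V → F} {π : Set ℕ} {H : Subgroup K} {r t : ℕ}

/-- the blocks of a frame -/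
noncomputable def bls (ρ : Representation F K V) (t : ℕ) (H : Subgroup K) : Finset (Submodule F V) :=
  (Set.toFinite (Bl ρ t H)).toFinset

theorem mem_bls {U : Submodule F V} : U ∈ bls ρ t H ↔ U ∈ Bl ρ t H := by
  rw [bls, Set.Finite.mem_toFinset]

theorem CV_closure_le {S : Set K} {P : Submodule F V} (hP : ∀ z ∈ S, sp ρ z ≤ P) : CV ρ (Subgroup.closure S) ≤ P := by
  refine CV_le fun d hd => ?_
  change sp ρ d ≤ P
  induction hd using Subgroup.closure_induction with
  | mem x hx => exact hP x hx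
  | one =>
    rintro _ ⟨v, rfl⟩
    have h1 : (ρ 1 - 1) v = 0 := by
      show ρ 1 v - v = 0
      rw [one_ap, sub_self]
    rw [h1]
    exact P.zero_mem
  | mul a b _ _ ha hb =>
    rintro _ ⟨v, rfl⟩
    have h1 : (ρ (a * b) - 1) v = (ρ a (ρ b v) - ρ b v) + (ρ b v - v) := by
      show ρ (a * b) v - v = _
      rw [mul_ap]; abel
    rw [h1]
    exact P.add_mem (ha (mem_sp _)) (hb (mem_sp _))
  | inv a _ ha =>
    rintro _ ⟨v, rfl⟩
    have h1 : (ρ a⁻¹ - 1) v = - (ρ a (ρ a⁻¹ v) - ρ a⁻¹ v) := by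
      show ρ a⁻¹ v - v = _
      rw [ap_inv]; abel
    rw [h1]
    exact P.neg_mem (ha (mem_sp _))

theorem WB_le (h : Frame ρ f Q π H r t) {P : Submodule F V} (hP : ∀ U ∈ Bl ρ t H, U ≤ P) : WB ρ t H ≤ P :=
  CV_closure_le fun z hz => (std_of h).sp_le_of_bl hP _ z hz rfl

theorem bl_le_WB {U : Submodule F V} (hU : U ∈ Bl ρ t H) : U ≤ WB ρ t H := by
  obtain ⟨z, hz, rfl, -⟩ := hU
  exact range_le_CV ρ (Subgroup.subset_closure hz)

/-- **the order of the centraliser** -/
theorem card_cent_le (h : Frame ρ f Q π H r t) :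
    Nat.card (centralizer (Subgroup.closure (Zs ρ t H) : Set K)) ≤
      (∏ U ∈ bls ρ t H, (Nat.card F ^ (finrank F U / 2) + 1)) *
        cnt ρ (Subgroup.closure (Zs ρ t H)) (Orth f (WB ρ t H)) := by
  classical
  set T := Subgroup.closure (Zs ρ t H) with hTd
  let C := centralizer (T : Set K)
  let R (W : Submodule F V) : Set (W →ₗ[F] V) := Set.range fun u : C => (ρ (u : K)).domRestrict W
  let φ : C → (∀ U : bls ρ t H, R (U : Submodule F V)) × R (Orth f (WB ρ t H)) :=
    fun u => (fun U => ⟨_, ⟨u, rfl⟩⟩, ⟨_, ⟨u, rfl⟩⟩)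
  have hφ : Function.Injective φ := by
    intro u u' huu
    apply Subtype.ext
    apply h.inj
    have h1 := congrArg (fun p => p.1) huu
    have h2 := congrArg (fun p => p.2.1) huu
    let P : Submodule F V := LinearMap.ker (ρ (u : K) - ρ (u' : K))
    have hP : ∀ v, v ∈ P ↔ ρ (u : K) v = ρ (u' : K) v := fun v => by
      rw [LinearMap.mem_ker, LinearMap.sub_apply, sub_eq_zero]
    have h3 : WB ρ t H ≤ P := by
      apply WB_le h
      intro U hU v hv
      rw [hP]
      have h4 := congrArg Subtype.val (congrFun h1 ⟨U, mem_bls.mpr hU⟩)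
      exact congrArg (fun g : U →ₗ[F] V => g ⟨v, hv⟩) h4
    have h4 : Orth f (WB ρ t H) ≤ P := by
      intro v hv
      rw [hP]
      exact congrArg (fun g : (Orth f (WB ρ t H) : Submodule F V) →ₗ[F] V => g ⟨v, hv⟩) h2
    apply LinearMap.ext
    intro v
    rw [← hP]
    have h5 := (isCompl_Orth f (WB ρ t H) (std_of h).nd_WB).sup_eq_top
    have h6 : v ∈ WB ρ t H ⊔ Orth f (WB ρ t H) := by rw [h5]; trivial
    exact (sup_le h3 h4) h6
  have h1 := Nat.card_le_card_of_injective φ hφ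
  rw [Nat.card_prod, Nat.card_pi] at h1
  refine h1.trans (Nat.mul_le_mul_right _ ?_)
  rw [Finset.prod_coe_sort (bls ρ t H) (fun U => Nat.card (R U))]
  refine Finset.prod_le_prod' fun U hU => ?_
  exact Cfsg.Agent.H503.DP.cnt_le (ts_of h) (mn_of h (mem_bls.mp hU))

/-- the dimensions of the blocks -/
theorem sum_finrank (h : Frame ρ f Q π H r t) :
    ∑ U ∈ bls ρ t H, finrank F U + finrank F (Orth f (WB ρ t H)) = finrank F V := by
  classical
  have hs := std_of h
  have key : ∀ B : Finset (Submodule F V), B ⊆ bls ρ t H →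
      finrank F (B.sup id : Submodule F V) = ∑ U ∈ B, finrank F U := by
    intro B
    induction B using Finset.induction_on with
    | empty => intro _; simp
    | insert U B hU ih =>
      intro hB
      rw [Finset.insert_subset_iff] at hB
      rw [Finset.sup_insert, Finset.sum_insert hU, ← ih hB.2, id]
      rw [← Submodule.finrank_sup_add_finrank_inf_eq]
      have hUb := mem_bls.mp hB.1
      have h1 : B.sup id ≤ Orth f U := by
        rw [Finset.sup_le_iff]
        intro U' hU' v hv u hu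
        exact hs.bl_orth hUb (mem_bls.mp (hB.2 hU')) (fun he => hU (he ▸ hU')) u hu v hv
      have h2 : U ⊓ B.sup id = ⊥ := by
        rw [eq_bot_iff]
        rintro x ⟨hx, hx'⟩
        rw [Submodule.mem_bot]
        exact hs.nd_bl hUb x hx fun y hy => h1 hx' y hy
      rw [h2, finrank_bot, add_zero]
  have h1 : (bls ρ t H).sup id = WB ρ t H := by
    apply le_antisymm
    · rw [Finset.sup_le_iff]
      exact fun U hU => bl_le_WB (mem_bls.mp hU)
    · exact WB_le h fun U hU => Finset.le_sup (f := id) (mem_bls.mpr hU)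
  rw [← key _ (Finset.Subset.refl _), h1]
  exact Submodule.finrank_add_eq_of_isCompl (isCompl_Orth f (WB ρ t H) hs.nd_WB)

theorem even_of_alt {U : Type*} [AddCommGroup U] [Module F U] [FiniteDimensional F U] (B : LinearMap.BilinForm F U)
    (hA : B.IsAlt) (hnd : ∀ u, (∀ x, B u x = 0) → u = 0) : Even (finrank F U) := by
  obtain ⟨a, k, b, h1, h2, h3, h4⟩ := Cfsg.Agent.S0752.result B hA
  have hk : k = 0 := by
    by_contra hk
    exact b.ne_zero (Sum.inr ⟨0, Nat.pos_of_ne_zero hk⟩) (hnd _ (h4 ⟨0, Nat.pos_of_ne_zero hk⟩))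
  subst hk
  rw [Module.finrank_eq_card_basis b]
  simp

/-- minimal subspaces have even dimension in the symmetric case -/
theorem even_of_mn {T : Subgroup K} (h : TS ρ f Q t T) (hsym : ∀ x y, f x y = f y x) {U : Submodule F V}
    (hU : Mn ρ f T U) : Even (finrank F U) := by
  obtain ⟨z, hz, hact⟩ := hU.act
  -- `z ^ 2 - 1` is injective on `U`
  have hz2 : ∀ x ∈ U, ρ z (ρ z x) = x → x = 0 := by
    have hzz : z * z ∈ T := T.mul_mem hz hz
    rcases eigen h hU (u := z * z) (fun w hw => h.ab w hw _ hzz) (fun x hx => hU.inv _ hzz x hx) (c := 1) (by ring)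
      with h1 | h1
    · intro x hx hxx
      apply h1 x hx
      rw [mul_ap, hxx, one_smul]
    · exfalso
      obtain ⟨x, hx, hne⟩ := hact
      apply hne
      -- `z` has odd order on `U`
      obtain ⟨k, hk⟩ := h.hT ⟨z, hz⟩
      have hk' : z ^ t ^ k = 1 := congrArg Subtype.val hk
      have hodd : Odd (t ^ k) := h.hto.pow
      obtain ⟨j, hj⟩ := hodd
      have h2 : ∀ n : ℕ, ρ ((z * z) ^ n) x = x := by
        intro n
        induction n with
        | zero => rw [pow_zero, one_ap]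
        | succ n ih => rw [pow_succ, mul_ap, h1 x hx, one_smul, ih]
      have h3 : z * (z * z) ^ j = 1 := by
        rw [← hk', hj, ← pow_two, ← pow_mul, ← pow_succ']
      calc ρ z x = ρ z (ρ ((z * z) ^ j) x) := by rw [h2]
        _ = ρ (z * (z * z) ^ j) x := by rw [mul_ap]
        _ = x := by rw [h3, one_ap]
  let A : U →ₗ[F] V := (ρ z - ρ z⁻¹).domRestrict U
  have hAU : ∀ x : U, A x ∈ U := fun x => U.sub_mem (hU.inv z hz x x.2) (hU.inv _ (T.inv_mem hz) x x.2)
  let A' : U →ₗ[F] U := A.codRestrict U hAU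
  let B : LinearMap.BilinForm F U := (f.domRestrict₁₂ U U).comp A'
  have hB : ∀ x y : U, B x y = f (ρ z x) y - f (ρ z⁻¹ x) y := fun x y => by
    show f (ρ z (x : V) - ρ z⁻¹ (x : V)) (y : V) = _
    rw [map_sub, LinearMap.sub_apply]
  have hadj : ∀ x y : V, f (ρ z⁻¹ x) y = f x (ρ z y) := by
    intro x y
    have h1 := h.iso z (ρ z⁻¹ x) y
    rw [ap_inv] at h1
    exact h1.symm
  have hBA : B.IsAlt := by
    intro x
    rw [hB, hadj, hsym (ρ z x), sub_self]
  apply even_of_alt B hBA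
  intro x hx
  have h1 : A' x = 0 := by
    apply Subtype.ext
    apply hU.nd _ (A' x).2
    intro y hy
    rw [hsym]
    exact hx ⟨y, hy⟩
  have h2 : ρ z (x : V) = ρ z⁻¹ (x : V) := by
    have h3 : ρ z (x : V) - ρ z⁻¹ (x : V) = 0 := congrArg Subtype.val h1
    exact sub_eq_zero.mp h3
  apply Subtype.ext
  apply hz2 x x.2
  rw [h2, ap_inv]

theorem even_bl (h : Frame ρ f Q π H r t) (hsym : ∀ x y, f x y = f y x) {U : Submodule F V} (hU : U ∈ Bl ρ t H) :
    Even (finrank F U) := even_of_mn (ts_of h) hsym (mn_of h hU)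

end Cfsg.Agent.H602.DPO

private theorem dce_ba9e097d07f1 : _root_.True := by
  try have : _root_.True := by simp only [_root_.Cfsg.Agent.H602.DPO.bls.eq_1]
  exact _root_.True.intro
end

-- part: H602/DPO/SmallO_mg
section
prune_inst 0x1f01075445c62100000000082a300000030000102004084002c0206000b4840608940a041010004121008108008010020035c0090420000000a000400000400000080100021400000000016000000000000000000000000000000000000000004000000000
set_option linter.all false
open scoped Cfsg.Agent.FastGrp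

-- part: H602/DPO/SmallO
section
/-!
# S4247, row `POmega`: restrictions of isometries to a nondegenerate space of dimension at most two (helper602)
-/

set_option autoImplicit false
set_option linter.unusedSectionVars false

namespace Cfsg.Agent.H602.DPO

open Module Subgroup Cfsg Cfsg.Agent.H167.OP Cfsg.Agent.H170.HL Cfsg.Agent.H988.CPi Cfsg.Agent.H560.HallKey
  Cfsg.Agent.H553.OddHall Cfsg.Agent.H571.RV Cfsg.Agent.H572.RV Cfsg.Agent.H602.DP Cfsg.Agent.H969.DPi

variable {F : Type*} [Field F] [Finite F] {V : Type*} [AddCommGroup V] [Module F V] [Finite V]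
  [FiniteDimensional F V] {K : Type*} [Group K] [Finite K]
  {ρ : Representation F K V} {Q : QuadraticForm F V} {T : Subgroup K} {U : Submodule F V}

local notation "fQ" => QuadraticMap.polarBilin Q

theorem polar_self (v : V) : QuadraticMap.polarBilin Q v v = 2 * Q v := by
  rw [QuadraticMap.polarBilin_apply_apply, QuadraticMap.polar_self, two_nsmul, two_mul]

theorem Q_add (v w : V) : Q (v + w) = Q v + Q w + QuadraticMap.polarBilin Q v w := by
  rw [QuadraticMap.polarBilin_apply_apply, QuadraticMap.polar]; ring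

theorem polar_symm' (v w : V) : QuadraticMap.polarBilin Q v w = QuadraticMap.polarBilin Q w v := by
  rw [QuadraticMap.polarBilin_apply_apply, QuadraticMap.polarBilin_apply_apply, QuadraticMap.polar_comm]

theorem Q_smul (a : F) (v : V) : Q (a • v) = a ^ 2 * Q v := by
  rw [QuadraticMap.map_smul, smul_eq_mul, pow_two]

theorem pol_smul (a : F) (v w : V) : QuadraticMap.polarBilin Q v (a • w) = a * QuadraticMap.polarBilin Q v w := by
  rw [LinearMap.map_smul, smul_eq_mul]

theorem pol_smul' (a : F) (v w : V) : QuadraticMap.polarBilin Q (a • v) w = a * QuadraticMap.polarBilin Q v w := by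
  rw [LinearMap.map_smul, LinearMap.smul_apply, smul_eq_mul]

theorem pol_add (u v w : V) : QuadraticMap.polarBilin Q u (v + w) =
    QuadraticMap.polarBilin Q u v + QuadraticMap.polarBilin Q u w := LinearMap.map_add _ _ _

theorem pol_add' (u v w : V) : QuadraticMap.polarBilin Q (u + v) w =
    QuadraticMap.polarBilin Q u w + QuadraticMap.polarBilin Q v w := by
  rw [LinearMap.map_add, LinearMap.add_apply]

theorem cnt_zero (hU : finrank F U = 0) : cnt ρ T U ≤ 1 := by
  have h1 : U = ⊥ := Submodule.finrank_eq_zero.mp hU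
  subst h1
  have : Subsingleton (Set.range fun u : Subgroup.centralizer (T : Set K) =>
      (ρ (u : K)).domRestrict (⊥ : Submodule F V)) := by
    constructor
    intro a b
    apply Subtype.ext
    apply LinearMap.ext
    rintro ⟨x, hx⟩
    rw [Submodule.mem_bot] at hx
    subst hx
    have h2 : (⟨0, hx⟩ : (⊥ : Submodule F V)) = 0 := rfl
    rw [h2, map_zero, map_zero]
  exact Finite.card_le_one_iff_subsingleton.mpr this

theorem cnt_one (hQ : ∀ g v, Q (ρ g v) = Q v) (hnd : ND (QuadraticMap.polarBilin Q) U) (hU : finrank F U = 1)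
    (hC : ∀ u ∈ Subgroup.centralizer (T : Set K), ∀ x ∈ U, ρ u x ∈ U) : cnt ρ T U ≤ 2 := by
  classical
  obtain ⟨⟨v, hv⟩, hv0, hsp⟩ := finrank_eq_one_iff'.mp hU
  have hsp' : ∀ w ∈ U, ∃ c : F, w = c • v := by
    intro w hw
    obtain ⟨c, hc⟩ := hsp ⟨w, hw⟩
    exact ⟨c, (congrArg Subtype.val hc).symm⟩
  have hv0' : v ≠ 0 := fun h => hv0 (Subtype.ext h)
  have hQv : Q v ≠ 0 := by
    intro h
    apply hv0'
    apply hnd v hv
    intro x hx
    obtain ⟨c, rfl⟩ := hsp' x hx
    rw [map_smul, LinearMap.smul_apply, polar_self, h, mul_zero, smul_zero]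
  have key : ∀ u ∈ Subgroup.centralizer (T : Set K), ρ u v = v ∨ ρ u v = (-1 : F) • v := by
    intro u hu
    obtain ⟨c, hc⟩ := hsp' _ (hC u hu v hv)
    have h1 := hQ u v
    rw [hc, Q_smul] at h1
    have h2 : (c - 1) * (c + 1) = 0 := by
      have h3 : (c ^ 2 - 1) * Q v = 0 := by rw [sub_mul, h1, one_mul, sub_self]
      rcases mul_eq_zero.mp h3 with h4 | h4
      · linear_combination h4
      · exact absurd h4 hQv
    rcases mul_eq_zero.mp h2 with h3 | h3
    · left; rw [hc, sub_eq_zero.mp h3, one_smul]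
    · right; rw [hc, eq_neg_of_add_eq_zero_left h3]
  unfold cnt
  have hinj : Function.Injective fun A : (Set.range fun u : Subgroup.centralizer (T : Set K) =>
      (ρ (u : K)).domRestrict U) => (decide ((A : U →ₗ[F] V) ⟨v, hv⟩ = v) : Bool) := by
    rintro ⟨A, u, rfl⟩ ⟨A', u', rfl⟩ hAA
    apply Subtype.ext
    apply LinearMap.ext
    rintro ⟨x, hx⟩
    obtain ⟨c, rfl⟩ := hsp' x hx
    have e : ∀ w : K, (ρ w).domRestrict U ⟨c • v, hx⟩ = c • ρ w v := fun w => by
      show ρ w (c • v) = _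
      rw [map_smul]
    rw [e, e]
    have hAA' : (ρ (u : K) v = v) ↔ (ρ (u' : K) v = v) := by
      have := decide_eq_decide.mp hAA
      exact this
    rcases key u u.2 with h1 | h1
    · rw [h1, hAA'.mp h1]
    · rcases key u' u'.2 with h2 | h2
      · rw [h2, hAA'.mpr h2]
      · rw [h1, h2]
  have := Nat.card_le_card_of_injective _ hinj
  rwa [Nat.card_eq_fintype_card (α := Bool), Fintype.card_bool] at this

section two

variable {e n m : V}

/-- vectors of given norm in a plane -/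
theorem eq_of_norm {e n m : V} (hen : QuadraticMap.polarBilin Q e n = 0) (hem : QuadraticMap.polarBilin Q e m = 1)
    (hn : Q n ≠ 0) {x y : F} (h : Q (e + (x • m + y • n)) = Q e) :
    (x = 0 ∧ y = 0) ∨ ∃ s : F, e + (x • m + y • n) = e - (Q (m + s • n))⁻¹ • (m + s • n) := by
  by_cases hx : x = 0
  · left
    subst hx
    refine ⟨rfl, ?_⟩
    rw [zero_smul, zero_add, Q_add, pol_smul, hen, mul_zero, add_zero, Q_smul] at h
    have h1 : y ^ 2 * Q n = 0 := by linear_combination h
    rcases mul_eq_zero.mp h1 with h2 | h2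
    · exact pow_eq_zero_iff (two_ne_zero) |>.mp h2
    · exact absurd h2 hn
  · right
    refine ⟨y / x, ?_⟩
    have h1 : x • m + y • n = x • (m + (y / x) • n) := by
      rw [smul_add, smul_smul, mul_div_cancel₀ _ hx]
    rw [h1] at h ⊢
    rw [Q_add, Q_smul, pol_smul, pol_add, pol_smul, hen, hem, mul_zero, add_zero, mul_one] at h
    have h2 : x * (x * Q (m + (y / x) • n) + 1) = 0 := by linear_combination h
    have h3 : x * Q (m + (y / x) • n) + 1 = 0 := (mul_eq_zero.mp h2).resolve_left hx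
    have h4 : Q (m + (y / x) • n) ≠ 0 := by
      intro h4
      rw [h4, mul_zero, zero_add] at h3
      exact one_ne_zero h3
    have h5 : x = - (Q (m + (y / x) • n))⁻¹ := by
      rw [eq_neg_iff_add_eq_zero, ← mul_left_inj' h4, add_mul, inv_mul_cancel₀ h4, zero_mul]
      exact h3
    rw [sub_eq_add_neg, ← neg_smul, ← h5]

end two

theorem cnt_two (hQ : ∀ g v, Q (ρ g v) = Q v) (hnd : ND (QuadraticMap.polarBilin Q) U) (hU : finrank F U = 2)
    (hC : ∀ u ∈ Subgroup.centralizer (T : Set K), ∀ x ∈ U, ρ u x ∈ U) : cnt ρ T U ≤ 2 * (Nat.card F + 1) := by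
  classical
  have hsy := polar_symm' (Q := Q)
  -- a vector with nonzero norm
  obtain ⟨e, he, hQe⟩ : ∃ e ∈ U, Q e ≠ 0 := by
    by_contra hcon
    push Not at hcon
    have h1 : U = ⊥ := by
      rw [eq_bot_iff]
      intro x hx
      apply hnd x hx
      intro y hy
      have h2 := Q_add (Q := Q) y x
      rw [hcon _ (U.add_mem hy hx), hcon _ hy, hcon _ hx, add_zero, zero_add] at h2
      exact h2.symm
    rw [h1, finrank_bot] at hU
    omega
  have he0 : e ≠ 0 := by rintro rfl; exact hQe (map_zero Q)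
  -- a vector `m` with `f e m = 1`
  obtain ⟨m, hm, hem⟩ : ∃ m ∈ U, QuadraticMap.polarBilin Q e m = 1 := by
    by_contra hcon
    push Not at hcon
    apply he0
    apply hnd e he
    intro x hx
    by_contra h
    have h' : QuadraticMap.polarBilin Q e x ≠ 0 := by rwa [hsy]
    apply hcon ((QuadraticMap.polarBilin Q e x)⁻¹ • x) (U.smul_mem _ hx)
    rw [map_smul, smul_eq_mul, inv_mul_cancel₀ h']
  -- a vector `n` orthogonal to `e`
  obtain ⟨n, hn, hn0, hen⟩ : ∃ n ∈ U, n ≠ 0 ∧ QuadraticMap.polarBilin Q e n = 0 := by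
    have h1 : ∃ x ∈ U, x ∉ Submodule.span F {m} := by
      by_contra hcon
      push Not at hcon
      have h2 : U ≤ Submodule.span F {m} := hcon
      have h3 := Submodule.finrank_mono h2
      have h4 : finrank F (Submodule.span F {m}) ≤ 1 := by
        have := finrank_span_le_card (R := F) ({m} : Set V)
        simpa using this
      omega
    obtain ⟨x, hx, hxm⟩ := h1
    refine ⟨x - (QuadraticMap.polarBilin Q e x) • m, U.sub_mem hx (U.smul_mem _ hm), ?_, ?_⟩
    · intro h
      apply hxm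
      rw [sub_eq_zero.mp h]
      exact Submodule.smul_mem _ _ (Submodule.mem_span_singleton_self m)
    · rw [map_sub, map_smul, hem, smul_eq_mul, mul_one, sub_self]
  -- `m`, `n` span `U`
  have hspan : ∀ v ∈ U, ∃ x y : F, v = x • m + y • n := by
    have h1 : LinearIndependent F ![m, n] := by
      rw [LinearIndependent.pair_iff]
      intro s s' h
      have h2 := congrArg (QuadraticMap.polarBilin Q e) h
      rw [pol_add, pol_smul, pol_smul, hem, hen, map_zero, mul_zero, add_zero, mul_one] at h2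
      refine ⟨h2, ?_⟩
      rw [h2, zero_smul, zero_add, smul_eq_zero] at h
      exact h.resolve_right hn0
    have h2 : Submodule.span F (Set.range ![m, n]) = U := by
      apply Submodule.eq_of_le_of_finrank_eq
      · rw [Submodule.span_le]
        rintro _ ⟨i, rfl⟩
        fin_cases i
        · exact hm
        · exact hn
      · rw [finrank_span_eq_card h1, hU, Fintype.card_fin]
    intro v hv
    rw [← h2] at hv
    have h3 : Set.range ![m, n] = {m, n} := by
      ext x
      simp only [Set.mem_range, Fin.exists_fin_two, Matrix.cons_val_zero, Matrix.cons_val_one, Set.mem_insert_iff,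
        Set.mem_singleton_iff]
      (clear * -; tauto)
    rw [h3, Submodule.mem_span_pair] at hv
    obtain ⟨x, y, h⟩ := hv
    exact ⟨x, y, h.symm⟩
  have hQn : Q n ≠ 0 := by
    intro h0
    -- `e = x m + y n`, `f n n = 0`, `f n e = 0`
    obtain ⟨x, y, hxy⟩ := hspan e he
    have h1 : QuadraticMap.polarBilin Q n n = 0 := by rw [polar_self, h0, mul_zero]
    have hx : x ≠ 0 := by
      rintro rfl
      rw [zero_smul, zero_add] at hxy
      apply hQe
      rw [hxy, Q_smul, h0, mul_zero]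
    have h2 : QuadraticMap.polarBilin Q m n = 0 := by
      have h3 := hen
      rw [hxy, pol_add', pol_smul', pol_smul', h1, mul_zero, add_zero] at h3
      exact (mul_eq_zero.mp h3).resolve_left hx
    apply hn0
    apply hnd n hn
    intro v hv
    obtain ⟨x', y', rfl⟩ := hspan v hv
    rw [pol_add', pol_smul', pol_smul', h1, h2, mul_zero, mul_zero, add_zero]
  have hen_span : ∀ v ∈ U, ∃ x y : F, v = e + (x • m + y • n) := by
    intro v hv
    obtain ⟨x, y, h⟩ := hspan (v - e) (U.sub_mem hv he)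
    exact ⟨x, y, by rw [← h]; abel⟩
  -- the images of `e`
  have := Fintype.ofFinite F
  let S : Finset V := insert e (Finset.univ.image fun s : F => e - (Q (m + s • n))⁻¹ • (m + s • n))
  have hS : S.card ≤ Nat.card F + 1 := by
    refine (Finset.card_insert_le _ _).trans (Nat.add_le_add_right ?_ 1)
    refine Finset.card_image_le.trans ?_
    rw [Finset.card_univ, Nat.card_eq_fintype_card]
  have hSm : ∀ v ∈ U, Q v = Q e → v ∈ S := by
    intro v hv hQv
    obtain ⟨x, y, rfl⟩ := hen_span v hv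
    rcases eq_of_norm hen hem hQn hQv with ⟨rfl, rfl⟩ | ⟨s, hs⟩
    · rw [zero_smul, zero_smul, add_zero, add_zero]
      exact Finset.mem_insert_self _ _
    · rw [hs]
      exact Finset.mem_insert_of_mem (Finset.mem_image.mpr ⟨s, Finset.mem_univ _, rfl⟩)
  -- an isometry of `U` fixing `e`
  have hf : ∀ (u : K) (v w : V), QuadraticMap.polarBilin Q (ρ u v) (ρ u w) = QuadraticMap.polarBilin Q v w := by
    intro u v w
    have h1 := Q_add (Q := Q) (ρ u v) (ρ u w)
    have h2 := Q_add (Q := Q) v w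
    rw [← map_add, hQ, hQ, hQ] at h1
    linear_combination h2 - h1
  have hfix : ∀ u ∈ Subgroup.centralizer (T : Set K), ρ u e = e → ∀ w ∈ U,
      ρ u w = w ∨ ρ u w = w + (- ((Q n)⁻¹ * QuadraticMap.polarBilin Q w n)) • n := by
    intro u hu hue w hw
    obtain ⟨x, y, hxy⟩ := hspan (ρ u w - w) (U.sub_mem (hC u hu w hw) hw)
    have hx : x = 0 := by
      have h1 := hf u e w
      have h2 : ρ u w = w + (x • m + y • n) := by rw [← hxy]; abel
      rw [hue, h2, pol_add, pol_add, pol_smul, pol_smul, hem, hen] at h1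
      linear_combination h1
    subst hx
    have h2 : ρ u w = w + y • n := by
      rw [zero_smul, zero_add] at hxy
      rw [← hxy]; abel
    have h1 := hQ u w
    rw [h2, Q_add, Q_smul, pol_smul] at h1
    have h2' : y * (y * Q n + QuadraticMap.polarBilin Q w n) = 0 := by linear_combination h1
    rcases mul_eq_zero.mp h2' with h3 | h3
    · left; rw [h2, h3, zero_smul, add_zero]
    · right
      have h4 : y = - ((Q n)⁻¹ * QuadraticMap.polarBilin Q w n) := by
        have h5 : (Q n)⁻¹ * (y * Q n + QuadraticMap.polarBilin Q w n) = 0 := by rw [h3, mul_zero]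
        have h6 : (Q n)⁻¹ * (y * Q n) = y := by
          rw [mul_comm y, ← mul_assoc, inv_mul_cancel₀ hQn, one_mul]
        rw [mul_add, h6] at h5
        exact eq_neg_of_add_eq_zero_left h5
      rw [h2, h4]
  -- a second basis vector
  obtain ⟨w, hw, hwe⟩ : ∃ w ∈ U, w ∉ Submodule.span F {e} := by
    by_contra hcon
    push Not at hcon
    have h2 : U ≤ Submodule.span F {e} := hcon
    have h3 := Submodule.finrank_mono h2
    have h4 : finrank F (Submodule.span F {e}) ≤ 1 := by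
      have := finrank_span_le_card (R := F) ({e} : Set V)
      simpa using this
    omega
  have hspw : ∀ v ∈ U, ∃ x y : F, v = x • e + y • w := by
    have h1 : LinearIndependent F ![e, w] := by
      rw [LinearIndependent.pair_iff]
      intro s s' h
      have hs' : s' = 0 := by
        by_contra hs'
        apply hwe
        have h2 : w = (- (s'⁻¹ * s)) • e := by
          have h3 : s' • w = - (s • e) := eq_neg_of_add_eq_zero_right h
          have h4 : s'⁻¹ • (s' • w) = s'⁻¹ • (- (s • e)) := by rw [h3]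
          rw [smul_smul, inv_mul_cancel₀ hs', one_smul] at h4
          rw [h4, smul_neg, smul_smul, neg_smul]
        rw [h2]
        exact Submodule.smul_mem _ _ (Submodule.mem_span_singleton_self e)
      refine ⟨?_, hs'⟩
      rw [hs', zero_smul, add_zero, smul_eq_zero] at h
      exact h.resolve_right he0
    have h2 : Submodule.span F (Set.range ![e, w]) = U := by
      apply Submodule.eq_of_le_of_finrank_eq
      · rw [Submodule.span_le]
        rintro _ ⟨i, rfl⟩
        fin_cases i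
        · exact he
        · exact hw
      · rw [finrank_span_eq_card h1, hU, Fintype.card_fin]
    intro v hv
    rw [← h2] at hv
    have h3 : Set.range ![e, w] = {e, w} := by
      ext x
      simp only [Set.mem_range, Fin.exists_fin_two, Matrix.cons_val_zero, Matrix.cons_val_one, Set.mem_insert_iff,
        Set.mem_singleton_iff]
      (clear * -; tauto)
    rw [h3, Submodule.mem_span_pair] at hv
    obtain ⟨x, y, h⟩ := hv
    exact ⟨x, y, h.symm⟩
  -- the count
  unfold cnt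
  let R : Set (U →ₗ[F] V) := Set.range fun u : Subgroup.centralizer (T : Set K) => (ρ (u : K)).domRestrict U
  have hRf : Fintype R := Fintype.ofFinite R
  show Nat.card R ≤ _
  rw [Nat.card_eq_fintype_card, ← Finset.card_univ]
  refine (Finset.card_le_mul_card_image_of_maps_to (s := (Finset.univ : Finset R)) (t := S)
    (f := fun A : R => (A : U →ₗ[F] V) ⟨e, he⟩) ?_ 2 ?_).trans (Nat.mul_le_mul_left 2 hS)
  · rintro ⟨_, u, rfl⟩ -
    show ρ (u : K) e ∈ S
    exact hSm _ (hC u u.2 e he) (hQ _ _)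
  · intro b hb
    by_cases hne : ∃ A : R, (A : U →ₗ[F] V) ⟨e, he⟩ = b
    · obtain ⟨⟨_, u₁, rfl⟩, hA₁⟩ := hne
      have hA₁' : ρ (u₁ : K) e = b := hA₁
      have himg : (Finset.univ.filter fun A : R => (A : U →ₗ[F] V) ⟨e, he⟩ = b).card ≤
          ({ρ (u₁ : K) w, ρ (u₁ : K) (w + (- ((Q n)⁻¹ * QuadraticMap.polarBilin Q w n)) • n)} : Finset V).card := by
        refine Finset.card_le_card_of_injOn (fun A : R => (A : U →ₗ[F] V) ⟨w, hw⟩) ?_ ?_
        · rintro ⟨_, u, rfl⟩ hA
          rw [Finset.mem_coe, Finset.mem_filter] at hA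
          have hA' : ρ (u : K) e = b := hA.2
          have hfe : ρ ((u₁ : K)⁻¹ * u) e = e := by
            rw [mul_ap, hA', ← hA₁', inv_ap]
          have hmem : (u₁ : K)⁻¹ * u ∈ Subgroup.centralizer (T : Set K) := mul_mem (inv_mem u₁.2) u.2
          rw [Finset.mem_coe, Finset.mem_insert, Finset.mem_singleton]
          show ρ (u : K) w = _ ∨ ρ (u : K) w = _
          rcases hfix _ hmem hfe w hw with h1 | h1
          · left
            have h2 := congrArg (ρ (u₁ : K)) h1
            rwa [mul_ap, ap_inv] at h2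
          · right
            have h2 := congrArg (ρ (u₁ : K)) h1
            rwa [mul_ap, ap_inv] at h2
        · rintro ⟨_, u, rfl⟩ hA ⟨_, u', rfl⟩ hA' hww
          rw [Finset.mem_coe, Finset.mem_filter] at hA hA'
          have h1 : ρ (u : K) e = b := hA.2
          have h2 : ρ (u' : K) e = b := hA'.2
          have h3 : ρ (u : K) w = ρ (u' : K) w := hww
          apply Subtype.ext
          apply LinearMap.ext
          rintro ⟨v, hv⟩
          show ρ (u : K) v = ρ (u' : K) v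
          obtain ⟨x, y, rfl⟩ := hspw v hv
          rw [map_add, map_add, map_smul, map_smul, map_smul, map_smul, h1, h2, h3]
      exact himg.trans (Finset.card_insert_le _ _)
    · push Not at hne
      have h1 : (Finset.univ.filter fun A : R => (A : U →ₗ[F] V) ⟨e, he⟩ = b) = ∅ := by
        rw [Finset.filter_eq_empty_iff]
        intro A _
        exact hne A
      rw [h1, Finset.card_empty]
      omega

end Cfsg.Agent.H602.DPO
end

-- part: H704/DPi/NumO
section
/-!
# S4247, orthogonal groups: the numeric lemma (helper704)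
-/

set_option autoImplicit false

namespace Cfsg.Agent.H704.DPi

open Finset

theorem f_even (f : ℕ) : 8 * f ^ 2 ≤ 9 * 2 ^ f := by
  rcases Nat.lt_or_ge f 3 with h | h
  · interval_cases f <;> norm_num
  · induction f, h using Nat.le_induction with
    | base => norm_num
    | succ k hk ih =>
      have h1 : 2 ^ (k + 1) = 2 * 2 ^ k := by ring
      rw [h1]
      nlinarith

theorem f_odd (f : ℕ) : 9 * f ^ 2 ≤ 4 * 3 ^ f := by
  rcases Nat.lt_or_ge f 2 with h | h
  · interval_cases f <;> norm_num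
  · induction f, h using Nat.le_induction with
    | base => norm_num
    | succ k hk ih =>
      have h1 : 3 ^ (k + 1) = 3 * 3 ^ k := by ring
      rw [h1]
      nlinarith

/-- the product step -/
theorem prod_step {ι : Type*} [Fintype ι] [DecidableEq ι] {q : ℕ} (hq : 2 ≤ q) (m : ι → ℕ) (h4 : ∀ i, 4 ≤ q ^ m i)
    (J : Finset ι) (hJ : 1 ≤ J.card) (h16 : ∀ i ∈ J, 16 ≤ q ^ m i) {h N δ w : ℕ}
    (hh : h ^ 2 ≤ 3 ^ (Fintype.card ι - 1)) (hN : N = 2 * ∑ i, m i + δ) (hN7 : 2 ≤ N)
    (hw : q ^ 4 * 17 ^ J.card * w ^ 2 < 3 * 5 ^ J.card * (∏ i ∈ J, q ^ m i) ^ 2 * q ^ (2 * δ)) :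
    h * (∏ i, (q ^ m i + 1)) * w < q ^ (N - 2) := by
  have hcard : 1 ≤ Fintype.card ι := hJ.trans (Finset.card_le_univ J)
  have e1 : q ^ (N - 2) * q ^ 2 = (∏ i, q ^ m i) ^ 2 * q ^ δ := by
    rw [← pow_add, Nat.sub_add_cancel hN7, hN, pow_add, Finset.prod_pow_eq_pow_sum, ← pow_mul, mul_comm 2]
  have hA : ∏ i ∈ J, (15 * (q ^ m i + 1) ^ 2) ≤ ∏ i ∈ J, (17 * (q ^ m i) ^ 2) := by
    apply Finset.prod_le_prod'
    intro i hi
    have := h16 i hi
    nlinarith only [this]
  have hB : ∏ i ∈ Jᶜ, (3 * (q ^ m i + 1) ^ 2) ≤ ∏ i ∈ Jᶜ, (q ^ m i) ^ 4 := by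
    apply Finset.prod_le_prod'
    intro i _
    have h1 := h4 i
    generalize q ^ m i = X at h1
    have h2 : X + 1 ≤ 2 * X := by omega
    have h3 : (X + 1) ^ 2 ≤ 4 * X ^ 2 := by nlinarith only [h1]
    have h5 : 16 ≤ X ^ 2 := by nlinarith only [h1]
    nlinarith only [h3, h5]
  have hAB : 5 ^ J.card * 3 ^ Fintype.card ι * (∏ i, (q ^ m i + 1)) ^ 2 =
      (∏ i ∈ J, (15 * (q ^ m i + 1) ^ 2)) * ∏ i ∈ Jᶜ, (3 * (q ^ m i + 1) ^ 2) := by
    rw [Finset.prod_mul_distrib, Finset.prod_mul_distrib, Finset.prod_const, Finset.prod_const,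
      ← Finset.prod_mul_prod_compl J (fun i => q ^ m i + 1), mul_pow, ← Finset.prod_pow, ← Finset.prod_pow,
      Finset.card_compl]
    have h1 : J.card ≤ Fintype.card ι := Finset.card_le_univ J
    have h2 : (3 : ℕ) ^ Fintype.card ι = 3 ^ J.card * 3 ^ (Fintype.card ι - J.card) := by
      rw [← pow_add, Nat.add_sub_cancel' h1]
    have h3 : (15 : ℕ) ^ J.card = 5 ^ J.card * 3 ^ J.card := by rw [← mul_pow]; norm_num
    rw [h2, h3]
    ring
  have hX : ∏ i, q ^ m i = (∏ i ∈ J, q ^ m i) * ∏ i ∈ Jᶜ, q ^ m i := (Finset.prod_mul_prod_compl J _).symm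
  have hposC : 0 < ∏ i ∈ Jᶜ, q ^ m i := Finset.prod_pos fun i _ => Nat.pow_pos (by omega)
  have hposJ : 0 < ∏ i ∈ J, q ^ m i := Finset.prod_pos fun i _ => Nat.pow_pos (by omega)
  set XJ := ∏ i ∈ J, q ^ m i with hXJ
  set XC := ∏ i ∈ Jᶜ, q ^ m i with hXC
  set Y := ∏ i, (q ^ m i + 1) with hY
  have h3 : 3 * h ^ 2 ≤ 3 ^ Fintype.card ι := by
    calc 3 * h ^ 2 ≤ 3 * 3 ^ (Fintype.card ι - 1) := Nat.mul_le_mul_left _ hh
      _ = 3 ^ Fintype.card ι := by rw [← pow_succ', Nat.sub_add_cancel hcard]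
  have hA' : ∏ i ∈ J, (17 * (q ^ m i) ^ 2) = 17 ^ J.card * XJ ^ 2 := by
    rw [Finset.prod_mul_distrib, Finset.prod_const, Finset.prod_pow]
  have hB' : ∏ i ∈ Jᶜ, (q ^ m i) ^ 4 = XC ^ 4 := Finset.prod_pow _ _ _
  rw [hA'] at hA
  rw [hB'] at hB
  -- the comparison of squares
  have key : 3 * 5 ^ J.card * q ^ 4 * (h * Y * w) ^ 2 < 3 * 5 ^ J.card * q ^ 4 * (q ^ (N - 2)) ^ 2 := by
    calc 3 * 5 ^ J.card * q ^ 4 * (h * Y * w) ^ 2
        = (3 * h ^ 2) * (5 ^ J.card * Y ^ 2 * q ^ 4 * w ^ 2) := by ring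
      _ ≤ 3 ^ Fintype.card ι * (5 ^ J.card * Y ^ 2 * q ^ 4 * w ^ 2) := Nat.mul_le_mul_right _ h3
      _ = (5 ^ J.card * 3 ^ Fintype.card ι * Y ^ 2) * (q ^ 4 * w ^ 2) := by ring
      _ = ((∏ i ∈ J, (15 * (q ^ m i + 1) ^ 2)) * ∏ i ∈ Jᶜ, (3 * (q ^ m i + 1) ^ 2)) * (q ^ 4 * w ^ 2) := by rw [hAB]
      _ ≤ (17 ^ J.card * XJ ^ 2 * XC ^ 4) * (q ^ 4 * w ^ 2) :=
          Nat.mul_le_mul_right _ (Nat.mul_le_mul hA hB)
      _ = (q ^ 4 * 17 ^ J.card * w ^ 2) * (XJ ^ 2 * XC ^ 4) := by ring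
      _ < (3 * 5 ^ J.card * XJ ^ 2 * q ^ (2 * δ)) * (XJ ^ 2 * XC ^ 4) :=
          Nat.mul_lt_mul_of_pos_right hw (by positivity)
      _ = 3 * 5 ^ J.card * ((XJ * XC) ^ 2 * q ^ δ) ^ 2 := by ring
      _ = 3 * 5 ^ J.card * (q ^ (N - 2) * q ^ 2) ^ 2 := by rw [← hX, ← e1]
      _ = 3 * 5 ^ J.card * q ^ 4 * (q ^ (N - 2)) ^ 2 := by ring
  have h5 := Nat.lt_of_mul_lt_mul_left key
  exact lt_of_pow_lt_pow_left₀ 2 (Nat.zero_le _) h5

/-- **The numeric lemma for the orthogonal groups.** -/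
theorem num_o {ι : Type*} [Fintype ι] {p f q : ℕ} (hp : p.Prime) (hf : 0 < f) (hq : q = p ^ f) (m : ι → ℕ)
    (h4 : ∀ i, 4 ≤ q ^ m i) (J : Finset ι) (hJ : 3 ≤ J.card) (h16 : ∀ i ∈ J, 16 ≤ q ^ m i)
    (h29 : Odd q → ∀ i ∈ J, 29 ≤ q ^ m i) {h N δ c out : ℕ} (hh : h ^ 2 ≤ 3 ^ (Fintype.card ι - 1))
    (hN : N = 2 * ∑ i, m i + δ) (hδ : δ ≤ 2) (hN7 : 7 ≤ N) (hc0 : δ = 0 → c ≤ 1) (hc1 : δ = 1 → c ≤ 2)
    (hc2 : δ = 2 → c ≤ 2 * (q + 1)) (ho : out ≤ 24 * f) (ho2 : Even q → out ≤ 6 * f) :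
    h * (∏ i, (q ^ m i + 1)) * (c * out) < q ^ (N - 2) := by
  classical
  have hq2 : 2 ≤ q := by
    rw [hq]
    exact hp.two_le.trans (Nat.le_self_pow hf.ne' p)
  -- the bound for `out`
  have hout : (Even q ∧ 2 * out ^ 2 ≤ 81 * q) ∨ (Odd q ∧ 3 ≤ q ∧ out ^ 2 ≤ 256 * q) := by
    rcases Nat.even_or_odd q with he | he
    · left
      refine ⟨he, ?_⟩
      have h1 : 2 ^ f ≤ q := by rw [hq]; exact Nat.pow_le_pow_left hp.two_le f
      have h2 := f_even f
      have h3 := ho2 he
      have h5 : out ^ 2 ≤ (6 * f) ^ 2 := Nat.pow_le_pow_left h3 2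
      linarith only [h1, h2, h5]
    · right
      have hp3 : 3 ≤ p := by
        have h1 := hp.two_le
        have h2 : p ≠ 2 := by
          rintro rfl
          rw [hq] at he
          have h3 : Even (2 ^ f) := (Nat.even_pow' hf.ne').2 even_two
          exact (Nat.not_even_iff_odd.2 he) h3
        omega
      have h1 : 3 ^ f ≤ q := by rw [hq]; exact Nat.pow_le_pow_left hp3 f
      refine ⟨he, ?_, ?_⟩
      · exact (Nat.le_self_pow hf.ne' 3).trans h1
      · have h2 := f_odd f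
        have h5 : out ^ 2 ≤ (24 * f) ^ 2 := Nat.pow_le_pow_left ho 2
        linarith only [h1, h2, h5]
  have hm1 : ∀ i, 1 ≤ m i := by
    intro i
    rcases Nat.eq_zero_or_pos (m i) with h0 | h0
    · have := h4 i
      rw [h0, pow_zero] at this
      omega
    · exact h0
  have hXq : ∀ i, q ≤ q ^ m i := fun i => Nat.le_self_pow (by have := hm1 i; omega) q
  -- three blocks
  obtain ⟨J3, hJ3, hc3⟩ := Finset.exists_subset_card_eq hJ
  obtain ⟨a, b, d, hab, had, hbd, rfl⟩ := Finset.card_eq_three.1 hc3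
  have ha16 := h16 a (hJ3 (by simp))
  have hb16 := h16 b (hJ3 (by simp))
  have hd16 := h16 d (hJ3 (by simp))
  have hprod : ∏ i ∈ ({a, b, d} : Finset ι), q ^ m i = q ^ (m a + m b + m d) := by
    rw [Finset.prod_insert (by simp [hab, had]), Finset.prod_insert (by simp [hbd]), Finset.prod_singleton, pow_add,
      pow_add]
    ring
  have hprod' : ∏ i ∈ ({a, b, d} : Finset ι), q ^ m i = q ^ m a * q ^ m b * q ^ m d := by
    rw [hprod, pow_add, pow_add]
  have hP16 : 16 ^ 3 ≤ q ^ (m a + m b + m d) := by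
    rw [pow_add, pow_add]
    calc 16 ^ 3 = 16 * 16 * 16 := by norm_num
      _ ≤ _ := Nat.mul_le_mul (Nat.mul_le_mul ha16 hb16) hd16
  -- the square of the product
  have hP : (Even q → 4096 * q ^ 3 ≤ (q ^ (m a + m b + m d)) ^ 2 ∧
        (4 ≤ m a + m b + m d → 4096 * q ^ 5 ≤ (q ^ (m a + m b + m d)) ^ 2)) ∧
      (Odd q → 24389 * q ^ 3 ≤ (q ^ (m a + m b + m d)) ^ 2 ∧
        (4 ≤ m a + m b + m d → 24389 * q ^ 5 ≤ (q ^ (m a + m b + m d)) ^ 2)) := by
    have gen : ∀ t : ℕ, 2 ≤ t → t ≤ q ^ m a → t ≤ q ^ m b → t ≤ q ^ m d →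
        t ^ 3 * q ^ 3 ≤ (q ^ (m a + m b + m d)) ^ 2 ∧
        (4 ≤ m a + m b + m d → t ^ 3 * q ^ 5 ≤ (q ^ (m a + m b + m d)) ^ 2) := by
      intro t ht h1 h2 h3
      have hb0 : t ^ 3 ≤ q ^ (m a + m b + m d) := by
        rw [pow_add, pow_add]
        calc t ^ 3 = t * t * t := by ring
          _ ≤ _ := Nat.mul_le_mul (Nat.mul_le_mul h1 h2) h3
      have hb1 : q ^ 3 ≤ q ^ (m a + m b + m d) :=
        Nat.pow_le_pow_right (by omega) (by have := hm1 a; have := hm1 b; have := hm1 d; omega)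
      refine ⟨?_, ?_⟩
      · rw [pow_two]
        exact Nat.mul_le_mul hb0 hb1
      · intro h4'
        rcases Nat.lt_or_ge q t with hqt | hqt
        · -- all exponents are at least two
          have g : ∀ i, t ≤ q ^ m i → 2 ≤ m i := by
            intro i hi
            by_contra hcon
            have h5 : m i = 1 := by have := hm1 i; omega
            rw [h5, pow_one] at hi
            omega
          have g1 := g a h1
          have g2 := g b h2
          have g3 := g d h3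
          rw [pow_two]
          exact Nat.mul_le_mul hb0 (Nat.pow_le_pow_right (by omega) (by omega))
        · calc t ^ 3 * q ^ 5 ≤ q ^ 3 * q ^ 5 := Nat.mul_le_mul_right _ (Nat.pow_le_pow_left hqt 3)
            _ = q ^ (4 * 2) := by rw [← pow_add]
            _ ≤ q ^ ((m a + m b + m d) * 2) := Nat.pow_le_pow_right (by omega) (by omega)
            _ = _ := pow_mul _ _ _
    refine ⟨fun _ => ?_, fun ho' => ?_⟩
    · have := gen 16 (by norm_num) ha16 hb16 hd16
      norm_num only [] at this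
      exact this
    · have := gen 29 (by norm_num) (h29 ho' a (hJ3 (by simp))) (h29 ho' b (hJ3 (by simp))) (h29 ho' d (hJ3 (by simp)))
      norm_num only [] at this
      exact this
  -- the case of three blocks
  have main3 : q ^ 4 * 17 ^ 3 * (c * out) ^ 2 < 3 * 5 ^ 3 * (q ^ (m a + m b + m d)) ^ 2 * q ^ (2 * δ) →
      h * (∏ i, (q ^ m i + 1)) * (c * out) < q ^ (N - 2) := by
    intro hlt
    refine prod_step hq2 m h4 {a, b, d} (by rw [hc3]; norm_num) (fun i hi => h16 i (hJ3 hi)) hh hN (by omega) ?_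
    rw [hc3, hprod]
    exact hlt
  have hqpos : 0 < q := by omega
  obtain ⟨hPe, hPo⟩ := hP
  have hδ' : δ = 0 ∨ δ = 1 ∨ δ = 2 := by omega
  rcases hδ' with rfl | rfl | rfl
  · -- `δ = 0`
    have hc := hc0 rfl
    have hco : (c * out) ^ 2 ≤ out ^ 2 := by
      apply Nat.pow_le_pow_left
      calc c * out ≤ 1 * out := Nat.mul_le_mul_right _ hc
        _ = out := one_mul _
    by_cases h4' : 4 ≤ m a + m b + m d
    · apply main3
      rw [mul_zero, pow_zero, mul_one]
      rcases hout with ⟨he, h2⟩ | ⟨ho', h3, h2⟩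
      · have h5 := (hPe he).2 h4'
        have h6 : q ^ 4 * 17 ^ 3 * (c * out) ^ 2 ≤ q ^ 4 * 17 ^ 3 * out ^ 2 := Nat.mul_le_mul_left _ hco
        have h7 : q ^ 5 = q ^ 4 * q := pow_succ _ _
        have h8 : 0 < q ^ 4 := Nat.pow_pos hqpos
        generalize q ^ 4 = Q at *
        generalize (q ^ (m a + m b + m d)) ^ 2 = Z at *
        have h9 : Q * (2 * out ^ 2) ≤ Q * (81 * q) := Nat.mul_le_mul_left _ h2
        have h10 : 0 < Q * q := Nat.mul_pos h8 hqpos
        rw [h7] at h5
        linarith only [h6, h5, h9, h10]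
      · have h5 := (hPo ho').2 h4'
        have h6 : q ^ 4 * 17 ^ 3 * (c * out) ^ 2 ≤ q ^ 4 * 17 ^ 3 * out ^ 2 := Nat.mul_le_mul_left _ hco
        have h7 : q ^ 5 = q ^ 4 * q := pow_succ _ _
        have h8 : 0 < q ^ 4 := Nat.pow_pos hqpos
        generalize q ^ 4 = Q at *
        generalize (q ^ (m a + m b + m d)) ^ 2 = Z at *
        have h9 : Q * out ^ 2 ≤ Q * (256 * q) := Nat.mul_le_mul_left _ h2
        have h10 : 0 < Q * q := Nat.mul_pos h8 hqpos
        rw [h7] at h5
        linarith only [h6, h5, h9, h10]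
    · -- all three blocks are planes: there is a fourth one
      have ga := hm1 a
      have gb := hm1 b
      have gd := hm1 d
      have ea : m a = 1 := by omega
      have eb : m b = 1 := by omega
      have ed : m d = 1 := by omega
      obtain ⟨e, he⟩ : ∃ e, e ∉ ({a, b, d} : Finset ι) := by
        by_contra hcon
        push Not at hcon
        have h1 : (Finset.univ : Finset ι) = {a, b, d} := by
          ext i; simp only [Finset.mem_univ, true_iff]; exact hcon i
        rw [h1, Finset.sum_insert (by simp [hab, had]), Finset.sum_insert (by simp [hbd]), Finset.sum_singleton] at hN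
        omega
      rw [ea, pow_one] at ha16
      have hqe : q ≤ q ^ m e := hXq e
      have hcard : (insert e ({a, b, d} : Finset ι)).card = 4 := by rw [Finset.card_insert_of_notMem he, hc3]
      refine prod_step hq2 m h4 (insert e {a, b, d}) (by rw [hcard]; norm_num) ?_ hh hN (by omega) ?_
      · intro i hi
        rw [Finset.mem_insert] at hi
        rcases hi with rfl | hi
        · omega
        · exact h16 i (hJ3 hi)
      · rw [hcard, Finset.prod_insert he, hprod, ea, eb, ed, mul_zero, pow_zero, mul_one]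
        have h1 : q ^ 4 ≤ q ^ m e * q ^ (1 + 1 + 1) := by
          calc q ^ 4 = q * q ^ 3 := by ring
            _ ≤ _ := Nat.mul_le_mul_right _ hqe
        have h2 : (q ^ 4) ^ 2 ≤ (q ^ m e * q ^ (1 + 1 + 1)) ^ 2 := Nat.pow_le_pow_left h1 2
        generalize (q ^ m e * q ^ (1 + 1 + 1)) ^ 2 = Z at h2
        have h6 : q ^ 4 * 17 ^ 4 * (c * out) ^ 2 ≤ q ^ 4 * 17 ^ 4 * out ^ 2 := Nat.mul_le_mul_left _ hco
        have h8 : 0 < q ^ 4 := Nat.pow_pos hqpos
        have key : 83521 * out ^ 2 < 1875 * q ^ 4 := by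
          rcases hout with ⟨he', h3⟩ | ⟨ho', h5, h3⟩
          · have h9 : 16 ^ 3 ≤ q ^ 3 := Nat.pow_le_pow_left ha16 3
            have h10 : q ^ 4 = q ^ 3 * q := pow_succ _ _
            rw [h10]
            have h11 : 16 ^ 3 * q ≤ q ^ 3 * q := Nat.mul_le_mul_right _ h9
            linarith only [ha16, h3, h11]
          · have h12 := h29 ho' a (hJ3 (by simp))
            rw [ea, pow_one] at h12
            have h9 : 29 ^ 3 ≤ q ^ 3 := Nat.pow_le_pow_left h12 3
            have h10 : q ^ 4 = q ^ 3 * q := pow_succ _ _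
            rw [h10]
            have h11 : 29 ^ 3 * q ≤ q ^ 3 * q := Nat.mul_le_mul_right _ h9
            linarith only [h3, h12, h11]
        calc q ^ 4 * 17 ^ 4 * (c * out) ^ 2 ≤ q ^ 4 * 17 ^ 4 * out ^ 2 := h6
          _ = q ^ 4 * (83521 * out ^ 2) := by ring
          _ < q ^ 4 * (1875 * q ^ 4) := Nat.mul_lt_mul_of_pos_left key h8
          _ = 3 * 5 ^ 4 * (q ^ 4) ^ 2 := by ring
          _ ≤ 3 * 5 ^ 4 * Z := Nat.mul_le_mul_left _ h2
  · -- `δ = 1`
    apply main3
    have hc := hc1 rfl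
    have hco : (c * out) ^ 2 ≤ 4 * out ^ 2 := by
      calc (c * out) ^ 2 ≤ (2 * out) ^ 2 := Nat.pow_le_pow_left (Nat.mul_le_mul_right _ hc) 2
        _ = 4 * out ^ 2 := by ring
    rw [mul_one]
    have h8 : 0 < q ^ 2 := Nat.pow_pos hqpos
    have e4 : q ^ 4 = q ^ 2 * q ^ 2 := by ring
    have key : 17 ^ 3 * (4 * out ^ 2) * q ^ 2 < 3 * 5 ^ 3 * (q ^ (m a + m b + m d)) ^ 2 := by
      rcases hout with ⟨he, h2⟩ | ⟨ho', h3, h2⟩
      · have h5 := (hPe he).1
        have h7 : q ^ 3 = q ^ 2 * q := pow_succ _ _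
        rw [h7] at h5
        generalize (q ^ (m a + m b + m d)) ^ 2 = Z at *
        have h9 : q ^ 2 * (2 * out ^ 2) ≤ q ^ 2 * (81 * q) := Nat.mul_le_mul_left _ h2
        have h10 : 0 < q ^ 2 * q := Nat.mul_pos h8 hqpos
        linarith only [h5, h9, h10]
      · have h5 := (hPo ho').1
        have h7 : q ^ 3 = q ^ 2 * q := pow_succ _ _
        rw [h7] at h5
        generalize (q ^ (m a + m b + m d)) ^ 2 = Z at *
        have h9 : q ^ 2 * out ^ 2 ≤ q ^ 2 * (256 * q) := Nat.mul_le_mul_left _ h2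
        have h10 : 0 < q ^ 2 * q := Nat.mul_pos h8 hqpos
        linarith only [h5, h9, h10]
    calc q ^ 4 * 17 ^ 3 * (c * out) ^ 2 ≤ q ^ 4 * 17 ^ 3 * (4 * out ^ 2) := Nat.mul_le_mul_left _ hco
      _ = (17 ^ 3 * (4 * out ^ 2) * q ^ 2) * q ^ 2 := by rw [e4]; ring
      _ < (3 * 5 ^ 3 * (q ^ (m a + m b + m d)) ^ 2) * q ^ 2 := Nat.mul_lt_mul_of_pos_right key h8
  · -- `δ = 2`
    apply main3
    have hc := hc2 rfl
    have hco : (c * out) ^ 2 ≤ 4 * (q + 1) ^ 2 * out ^ 2 := by
      calc (c * out) ^ 2 ≤ (2 * (q + 1) * out) ^ 2 := Nat.pow_le_pow_left (Nat.mul_le_mul_right _ hc) 2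
        _ = 4 * (q + 1) ^ 2 * out ^ 2 := by ring
    have h8 : 0 < q ^ 4 := Nat.pow_pos hqpos
    have key : 17 ^ 3 * (4 * (q + 1) ^ 2 * out ^ 2) < 3 * 5 ^ 3 * (q ^ (m a + m b + m d)) ^ 2 := by
      rcases hout with ⟨he, h2⟩ | ⟨ho', h3, h2⟩
      · rcases Nat.lt_or_ge q 16 with hq16 | hq16
        · -- `P ≥ q ^ 6` and `P ≥ 16 ^ 3`
          have g : ∀ i, 16 ≤ q ^ m i → 2 ≤ m i := by
            intro i hi
            by_contra hcon
            have h5 : m i = 1 := by have := hm1 i; omega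
            rw [h5, pow_one] at hi
            omega
          have g1 := g a ha16
          have g2 := g b hb16
          have g3 := g d hd16
          have h6 : q ^ 6 ≤ q ^ (m a + m b + m d) := Nat.pow_le_pow_right hqpos (by omega)
          have h9 : 16 ^ 3 * q ^ 6 ≤ (q ^ (m a + m b + m d)) ^ 2 := by
            rw [pow_two (q ^ (m a + m b + m d))]
            exact Nat.mul_le_mul hP16 h6
          have hq248 : q = 2 ∨ q = 4 ∨ q = 6 ∨ q = 8 ∨ q = 10 ∨ q = 12 ∨ q = 14 := by
            obtain ⟨r, hr⟩ := he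
            (clear * - hq2 hq16 hr; omega)
          generalize (q ^ (m a + m b + m d)) ^ 2 = Z at *
          rcases hq248 with rfl | rfl | rfl | rfl | rfl | rfl | rfl <;> norm_num only [_root_.gt_iff_lt] at h9 ⊢ <;> omega
        · have h5 := (hPe he).1
          have h9 : 16 * (q + 1) ≤ 17 * q := by omega
          have h10 : (16 * (q + 1)) ^ 2 ≤ (17 * q) ^ 2 := Nat.pow_le_pow_left h9 2
          have h11 : 256 * (q + 1) ^ 2 ≤ 289 * q ^ 2 := by linarith only [h10]
          have h12 : (256 * (q + 1) ^ 2) * (2 * out ^ 2) ≤ (289 * q ^ 2) * (81 * q) := Nat.mul_le_mul h11 h2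
          have h13 : 16 ^ 3 * q ^ 3 ≤ (q ^ (m a + m b + m d)) ^ 2 := by
            calc 16 ^ 3 * q ^ 3 = 4096 * q ^ 3 := by norm_num
              _ ≤ _ := h5
          have h14 : 0 < q ^ 3 := Nat.pow_pos hqpos
          have e3 : q ^ 2 * q = q ^ 3 := (pow_succ _ _).symm
          generalize (q ^ (m a + m b + m d)) ^ 2 = Z at *
          have h15 : 512 * ((q + 1) ^ 2 * out ^ 2) ≤ 23409 * q ^ 3 := by
            calc 512 * ((q + 1) ^ 2 * out ^ 2) = (256 * (q + 1) ^ 2) * (2 * out ^ 2) := by ring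
              _ ≤ (289 * q ^ 2) * (81 * q) := h12
              _ = 23409 * q ^ 3 := by ring
          linarith only [h12, h14, h5]
      · have h5 := (hPo ho').1
        have h9 : 3 * (q + 1) ≤ 4 * q := by omega
        rcases Nat.lt_or_ge q 29 with hq29 | hq29
        · have g : ∀ i, 29 ≤ q ^ m i → 2 ≤ m i := by
            intro i hi
            by_contra hcon
            have h5 : m i = 1 := by have := hm1 i; omega
            rw [h5, pow_one] at hi
            omega
          have g1 := g a (h29 ho' a (hJ3 (by simp)))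
          have g2 := g b (h29 ho' b (hJ3 (by simp)))
          have g3 := g d (h29 ho' d (hJ3 (by simp)))
          have h6 : q ^ 6 ≤ q ^ (m a + m b + m d) := Nat.pow_le_pow_right hqpos (by omega)
          have h7 : 29 ^ 3 ≤ q ^ (m a + m b + m d) := by
            rw [pow_add, pow_add]
            calc 29 ^ 3 = 29 * 29 * 29 := by norm_num
              _ ≤ _ := Nat.mul_le_mul (Nat.mul_le_mul (h29 ho' a (hJ3 (by simp))) (h29 ho' b (hJ3 (by simp))))
                  (h29 ho' d (hJ3 (by simp)))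
          have h10 : 29 ^ 3 * q ^ 6 ≤ (q ^ (m a + m b + m d)) ^ 2 := by
            rw [pow_two (q ^ (m a + m b + m d))]
            exact Nat.mul_le_mul h7 h6
          have h11 : (3 * (q + 1)) ^ 2 ≤ (4 * q) ^ 2 := Nat.pow_le_pow_left h9 2
          have h12 : 9 * (q + 1) ^ 2 ≤ 16 * q ^ 2 := by linarith only [h11]
          have h13 : 9 * ((q + 1) ^ 2 * out ^ 2) ≤ 4096 * q ^ 3 := by
            calc 9 * ((q + 1) ^ 2 * out ^ 2) = (9 * (q + 1) ^ 2) * out ^ 2 := by ring
              _ ≤ (16 * q ^ 2) * (256 * q) := Nat.mul_le_mul h12 h2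
              _ = 4096 * q ^ 3 := by ring
          have h14 : 0 < q ^ 3 := Nat.pow_pos hqpos
          have h15 : 27 ≤ q ^ 3 := by
            calc 27 = 3 ^ 3 := by norm_num
              _ ≤ q ^ 3 := Nat.pow_le_pow_left h3 3
          have h16' : q ^ 6 = q ^ 3 * q ^ 3 := by ring
          rw [h16'] at h10
          generalize (q ^ (m a + m b + m d)) ^ 2 = Z at *
          have h17 : 27 * q ^ 3 ≤ q ^ 3 * q ^ 3 := Nat.mul_le_mul_right _ h15
          linarith only [h13, h15, h10, h17]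
        · have h10 : 29 * (q + 1) ≤ 30 * q := by omega
          have h11 : (29 * (q + 1)) ^ 2 ≤ (30 * q) ^ 2 := Nat.pow_le_pow_left h10 2
          have h12 : 841 * (q + 1) ^ 2 ≤ 900 * q ^ 2 := by linarith only [h11]
          have h13 : 841 * ((q + 1) ^ 2 * out ^ 2) ≤ 230400 * q ^ 3 := by
            calc 841 * ((q + 1) ^ 2 * out ^ 2) = (841 * (q + 1) ^ 2) * out ^ 2 := by ring
              _ ≤ (900 * q ^ 2) * (256 * q) := Nat.mul_le_mul h12 h2
              _ = 230400 * q ^ 3 := by ring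
          have h14 : 0 < q ^ 3 := Nat.pow_pos hqpos
          generalize (q ^ (m a + m b + m d)) ^ 2 = Z at *
          linarith only [h13, h14, h5]
    calc q ^ 4 * 17 ^ 3 * (c * out) ^ 2 ≤ q ^ 4 * 17 ^ 3 * (4 * (q + 1) ^ 2 * out ^ 2) := Nat.mul_le_mul_left _ hco
      _ = q ^ 4 * (17 ^ 3 * (4 * (q + 1) ^ 2 * out ^ 2)) := by ring
      _ < q ^ 4 * (3 * 5 ^ 3 * (q ^ (m a + m b + m d)) ^ 2) := Nat.mul_lt_mul_of_pos_left key h8
      _ = 3 * 5 ^ 3 * (q ^ (m a + m b + m d)) ^ 2 * q ^ (2 * 2) := by ring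

end Cfsg.Agent.H704.DPi
end
end

-- part: H22/DPi/Class
section
prune_inst 0x1f10051007c00100000180580c10000202000010000008000000006000b08800000408800020005021008008000000000001000800000000000000400000000208080500082080000060009000000000000000000000000000000000000000004000000000
set_option linter.all false
open scoped Cfsg.Agent.FastGrp

-- part: H22/DPi/Semi
section
/-!
# Commuting endomorphisms of finite order prime to the characteristic (helper22)

`fix_pow` : the elements of the algebra generated by them satisfy `x ^ N = x` for some `N ≥ 2`; `exists_inv_compl`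
(Maschke).
-/

set_option autoImplicit false

namespace Cfsg.Agent.H22.DPi

open Module

variable {F : Type*} [Field F] [Finite F] {V : Type*} [AddCommGroup V] [Module F V]

/-- **`x ^ N = x`** -/
theorem fix_pow [Nontrivial V] {S : Set (End F V)} (hc : ∀ a ∈ S, ∀ b ∈ S, a * b = b * a) {n : ℕ} (hn : (n : F) ≠ 0)
    (hS : ∀ a ∈ S, a ^ n = 1) : ∃ N : ℕ, 2 ≤ N ∧ ∀ x ∈ Algebra.adjoin F S, x ^ N = x := by
  have := Fintype.ofFinite F
  obtain ⟨p, hpc⟩ := CharP.exists F
  have hp : p.Prime := CharP.char_is_prime F p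
  have hfp := Fact.mk hp
  have hpE : CharP (End F V) p := charP_of_injective_algebraMap (algebraMap F (End F V)).injective p
  obtain ⟨k, hk1, hk2⟩ := FiniteField.card F p
  have hpn : ¬ p ∣ n := fun h => hn ((CharP.cast_eq_zero_iff F p n).2 h)
  have hn0 : 0 < n := by
    rcases Nat.eq_zero_or_pos n with h | h
    · rw [h] at hpn
      exact (hpn (dvd_zero p)).elim
    · exact h
  have hcop : (Fintype.card F).Coprime n := by
    rw [hk2]
    exact Nat.Coprime.pow_left _ ((Nat.Prime.coprime_iff_not_dvd hp).2 hpn)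
  have hphi := Nat.totient_pos.2 hn0
  refine ⟨Fintype.card F ^ n.totient, ?_, ?_⟩
  · calc 2 ≤ Fintype.card F := Fintype.one_lt_card
      _ = Fintype.card F ^ 1 := (pow_one _).symm
      _ ≤ Fintype.card F ^ n.totient := Nat.pow_le_pow_right Fintype.card_pos hphi
  · have hN : Fintype.card F ^ n.totient = p ^ ((k : ℕ) * n.totient) := by rw [hk2, pow_mul]
    intro x hx
    induction hx using Algebra.adjoin_induction with
    | mem x hx =>
      have h1 : Fintype.card F ^ n.totient ≡ 1 [MOD n] := Nat.ModEq.pow_totient hcop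
      have h2 : 1 ≤ Fintype.card F ^ n.totient := Nat.one_le_pow _ _ Fintype.card_pos
      obtain ⟨j, hj⟩ := (Nat.modEq_iff_dvd' h2).1 h1.symm
      have h3 : Fintype.card F ^ n.totient = n * j + 1 := by omega
      rw [h3, pow_succ, pow_mul, hS x hx, one_pow, one_mul]
    | algebraMap c => rw [← map_pow, FiniteField.pow_card_pow]
    | add x y hx hy ihx ihy =>
      have hxy : Commute x y := by
        have h := (Algebra.adjoinCommRingOfComm F hc).mul_comm ⟨x, hx⟩ ⟨y, hy⟩
        exact congrArg Subtype.val h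
      rw [hN, add_pow_char_pow_of_commute _ _ hxy, ← hN, ihx, ihy]
    | mul x y hx hy ihx ihy =>
      have hxy : Commute x y := by
        have h := (Algebra.adjoinCommRingOfComm F hc).mul_comm ⟨x, hx⟩ ⟨y, hy⟩
        exact congrArg Subtype.val h
      rw [hxy.mul_pow, ihx, ihy]

/-- an element some power of which kills `v` kills `v` -/
theorem eq_zero_of_pow [Nontrivial V] {S : Set (End F V)} (hc : ∀ a ∈ S, ∀ b ∈ S, a * b = b * a) {n : ℕ} (hn : (n : F) ≠ 0)
    (hS : ∀ a ∈ S, a ^ n = 1) {x : End F V} (hx : x ∈ Algebra.adjoin F S) {m : ℕ} {v : V} (h : (x ^ m) v = 0) :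
    x v = 0 := by
  obtain ⟨N, hN2, hN⟩ := fix_pow hc hn hS
  have h1 : ∀ j : ℕ, x ^ (N ^ j) = x := by
    intro j
    induction j with
    | zero => rw [pow_zero, pow_one]
    | succ j ih => rw [pow_succ, pow_mul, ih, hN x hx]
  have h2 : m ≤ N ^ m := (Nat.lt_pow_self (by omega)).le
  rw [← h1 m, show N ^ m = (N ^ m - m) + m by omega, pow_add, Module.End.mul_apply, h, map_zero]

/-- the elements of the algebra preserve the invariant subspaces -/
theorem adjoin_mem {S : Set (End F V)} {W : Submodule F V} (hW : ∀ a ∈ S, ∀ w ∈ W, a w ∈ W) {x : End F V}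
    (hx : x ∈ Algebra.adjoin F S) : ∀ w ∈ W, x w ∈ W := by
  induction hx using Algebra.adjoin_induction with
  | mem x hx => exact hW x hx
  | algebraMap c => exact fun w hw => W.smul_mem c hw
  | add x y _ _ ihx ihy => exact fun w hw => W.add_mem (ihx w hw) (ihy w hw)
  | mul x y _ _ ihx ihy => exact fun w hw => ihx _ (ihy w hw)

/-- **Maschke** -/
theorem exists_inv_compl [Nontrivial V] [FiniteDimensional F V] {S : Set (End F V)}
    (hc : ∀ a ∈ S, ∀ b ∈ S, a * b = b * a) {n : ℕ} (hn : (n : F) ≠ 0)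
    (hS : ∀ a ∈ S, a ^ n = 1) {W : Submodule F V} (hW : ∀ a ∈ S, ∀ w ∈ W, a w ∈ W) :
    ∃ W' : Submodule F V, (∀ a ∈ S, ∀ w ∈ W', a w ∈ W') ∧ IsCompl W W' := by
  let A := Algebra.adjoin F S
  let _ : CommRing A := Algebra.adjoinCommRingOfComm F hc
  have hred : IsReduced A := by
    refine ⟨fun x hx => ?_⟩
    obtain ⟨m, hm⟩ := hx
    apply Subtype.ext
    apply LinearMap.ext
    intro v
    have h1 : ((x : End F V) ^ m) v = 0 := by
      have h2 : ((x ^ m : A) : End F V) = 0 := congrArg Subtype.val hm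
      have h3 : ((x ^ m : A) : End F V) = (x : End F V) ^ m := by
        induction m with
        | zero => rfl
        | succ m _ => rfl
      rw [← h3, h2]
      rfl
    exact eq_zero_of_pow hc hn hS x.2 h1
  have hart : IsArtinianRing A := .of_finite F A
  have hss : IsSemisimpleRing A := IsArtinianRing.isSemisimpleRing_of_isReduced A
  let WA : Submodule A V :=
    { carrier := W
      add_mem' := fun ha hb => W.add_mem ha hb
      zero_mem' := W.zero_mem
      smul_mem' := fun x w hw => adjoin_mem hW x.2 w hw }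
  obtain ⟨q, hq⟩ := exists_isCompl WA
  let q' : Submodule F V :=
    { carrier := q
      add_mem' := fun ha hb => q.add_mem ha hb
      zero_mem' := q.zero_mem
      smul_mem' := fun c w hw => by
        have h1 := q.smul_mem (⟨algebraMap F (End F V) c, Subalgebra.algebraMap_mem _ c⟩ : A) hw
        exact h1 }
  refine ⟨q', ?_, ?_⟩
  · intro a ha w hw
    exact q.smul_mem (⟨a, Algebra.subset_adjoin ha⟩ : A) hw
  · constructor
    · rw [Submodule.disjoint_def]
      intro x hx hx'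
      exact (Submodule.disjoint_def.1 hq.disjoint) x hx hx'
    · rw [codisjoint_iff, eq_top_iff]
      intro x _
      have h1 : x ∈ WA ⊔ q := by rw [hq.sup_eq_top]; trivial
      obtain ⟨a, ha, b, hb, rfl⟩ := Submodule.mem_sup.1 h1
      exact Submodule.mem_sup.2 ⟨a, ha, b, hb, rfl⟩

end Cfsg.Agent.H22.DPi
end

-- part: H22/DPi/BlockFix
section
/-!
# The elements centralising a Sylow `t`-subgroup generated by small elements (helper22)

`block_fix` : they contain no element of order `p` moving a vector of a block.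
-/

set_option autoImplicit false
set_option linter.unusedSectionVars false

namespace Cfsg.Agent.H22.DPi

open Module Cfsg.Agent.H167.OP Cfsg.Agent.H170.HL Cfsg.Agent.H988.CPi Cfsg.Agent.H560.HallKey
  Cfsg.Agent.H553.OddHall Cfsg.Agent.H572.RV

variable {F : Type*} [Field F] [Finite F] {V : Type*} [AddCommGroup V] [Module F V] [Finite V]
  [FiniteDimensional F V] {K : Type*} [Group K] [Finite K] {t : ℕ}
  {ρ : Representation F K V} {f : V →ₗ[F] V →ₗ[F] F} {Q : V → F} {H : Subgroup K}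

/-- `t`-elements centralising `Zs` belong to `H` -/
def SX (ρ : Representation F K V) (t : ℕ) (H : Subgroup K) : Prop :=
  ∀ y : K, (∃ k : ℕ, y ^ t ^ k = 1) → (∀ z ∈ Zs ρ t H, y * z = z * y) → y ∈ H

theorem pow_tt (ht : t.Prime) {z : K} (hz : ∃ k : ℕ, z ^ t ^ k = 1) : z ^ t ^ Nat.card K = 1 := by
  obtain ⟨k, hk⟩ := hz
  obtain ⟨j, -, hj⟩ := (Nat.dvd_prime_pow ht).1 (orderOf_dvd_of_pow_eq_one hk)
  have h1 : orderOf z ≤ Nat.card K := Nat.le_of_dvd Nat.card_pos (orderOf_dvd_natCard z)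
  have h2 : j < t ^ j := Nat.lt_pow_self ht.one_lt
  have h3 : j ≤ Nat.card K := by omega
  have h4 : orderOf z ∣ t ^ Nat.card K := by
    rw [hj]
    exact pow_dvd_pow t h3
  exact orderOf_dvd_iff_pow_eq_one.1 h4

/-- **nondegenerate invariant subspaces of blocks** -/
theorem nd_sub (h : Std ρ f Q t H) (hS : SX ρ t H) {U : Submodule F V} (hU : U ∈ Bl ρ t H) {M : Submodule F V}
    (hM : M ≤ U) (hMi : ∀ z ∈ Zs ρ t H, ∀ m ∈ M, ρ z m ∈ M) (hMn : ND f M) (hM0 : M ≠ ⊥) : M = U := by
  obtain ⟨z, hz, rfl, hz1, hmin⟩ := hU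
  obtain ⟨k, hk⟩ := h.toIsoG.exists_part hMn (hMi z hz)
  have hkt : ∃ m : ℕ, k ^ t ^ m = 1 := hk.tel h.toIsoG hMn (hMi z hz) hz.2.1
  have hkc : ∀ y ∈ Zs ρ t H, k * y = y * k := by
    intro y hy
    have h1 := hk.conj h.toIsoG y
    have h2 : M.map (ρ y) = M := by
      apply map_eq_of_le
      rintro _ ⟨m, hm, rfl⟩
      exact hMi y hy m hm
    rw [h2, h.comm_zs hy hz, mul_inv_cancel_right] at h1
    have h3 := h1.unique h.inj hMn hk
    calc k * y = (y * k * y⁻¹) * y := by rw [h3]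
      _ = y * k := by group
  have hkH : k ∈ H := hS k hkt hkc
  have hle : sp ρ k ≤ M := hk.sp_le hMn (hMi z hz)
  have hkZ : k ∈ Zs ρ t H := ⟨hkH, small_of_sp_le hkt hz.2 (hle.trans hM)⟩
  have hk1 : k ≠ 1 := by
    intro h1
    apply hM0
    rw [eq_bot_iff]
    intro m hm
    have h2 := hk.1 m hm
    rw [h1, one_ap] at h2
    have h3 : m ∈ Orth f (sp ρ z) := (mem_Orth_sp h.toIsoG).2 h2.symm
    exact h.ndz hz m (hM hm) (fun x hx => h3 x hx)
  exact le_antisymm hM ((hmin k hkZ hk1 (hle.trans hM)).symm.le.trans hle)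

/-- the small elements as endomorphisms -/
def ZE (ρ : Representation F K V) (t : ℕ) (H : Subgroup K) : Set (End F V) := ρ '' Zs ρ t H

theorem ze_comm (h : Std ρ f Q t H) : ∀ a ∈ ZE ρ t H, ∀ b ∈ ZE ρ t H, a * b = b * a := by
  rintro _ ⟨a, ha, rfl⟩ _ ⟨b, hb, rfl⟩
  rw [← map_mul, h.comm_zs ha hb, map_mul]

theorem ze_pow (h : Std ρ f Q t H) : ∀ a ∈ ZE ρ t H, a ^ t ^ Nat.card K = 1 := by
  rintro _ ⟨a, ha, rfl⟩
  rw [← map_pow, pow_tt h.ht ha.2.1, map_one]

theorem tN (h : Std ρ f Q t H) : ((t ^ Nat.card K : ℕ) : F) ≠ 0 := by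
  rw [Nat.cast_pow]
  exact pow_ne_zero _ h.htF

/-- **invariant subspaces of blocks which are not totally isotropic** -/
theorem niso_sub (h : Std ρ f Q t H) (hS : SX ρ t H) {U : Submodule F V} (hU : U ∈ Bl ρ t H) {M : Submodule F V}
    (hM : M ≤ U) (hMi : ∀ z ∈ Zs ρ t H, ∀ m ∈ M, ρ z m ∈ M) {a b : V} (ha : a ∈ M) (hb : b ∈ M)
    (hab : f a b ≠ 0) : M = U := by
  have hnt : Nontrivial V := ⟨a, 0, by rintro rfl; exact hab (by rw [map_zero, LinearMap.zero_apply])⟩
  have hMm : ∀ z ∈ Zs ρ t H, M.map (ρ z) = M := by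
    intro z hz
    apply map_eq_of_le
    rintro _ ⟨m, hm, rfl⟩
    exact hMi z hz m hm
  have hrad : ∀ x ∈ ZE ρ t H, ∀ w ∈ M ⊓ Orth f M, x w ∈ M ⊓ Orth f M := by
    rintro _ ⟨z, hz, rfl⟩ w ⟨hw, hw'⟩
    refine ⟨hMi z hz w hw, ?_⟩
    intro u hu
    have h1 : ρ z⁻¹ u ∈ M := mem_of_map (map_inv_of_map (hMm z hz)) hu
    have h2 := hw' _ h1
    have h3 := h.iso z (ρ z⁻¹ u) w
    rw [ap_inv] at h3
    rw [h3, h2]
  obtain ⟨W', hW'i, hW'c⟩ := exists_inv_compl (ze_comm h) (tN h) (ze_pow h) hrad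
  have hdec : ∀ x ∈ M, ∃ r ∈ M ⊓ Orth f M, ∃ w ∈ M ⊓ W', x = r + w := by
    intro x hx
    have h1 : x ∈ (M ⊓ Orth f M) ⊔ W' := by rw [hW'c.sup_eq_top]; trivial
    obtain ⟨r, hr, w, hw, rfl⟩ := Submodule.mem_sup.1 h1
    refine ⟨r, hr, w, ⟨?_, hw⟩, rfl⟩
    have := M.sub_mem hx hr.1
    rwa [add_sub_cancel_left] at this
  have hle : M ⊓ W' ≤ M := inf_le_left
  have h1 : M ⊓ W' = U := by
    refine nd_sub h hS hU (hle.trans hM) ?_ ?_ ?_
    · rintro z hz m ⟨hm, hm'⟩
      exact ⟨hMi z hz m hm, hW'i _ ⟨z, hz, rfl⟩ m hm'⟩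
    · rintro u ⟨hu, hu'⟩ hx
      have h2 : u ∈ M ⊓ Orth f M := by
        refine ⟨hu, ?_⟩
        intro x hxM
        obtain ⟨r, hr, w, hw, rfl⟩ := hdec x hxM
        rw [map_add, LinearMap.add_apply, hx w hw, add_zero]
        exact h.toIsoG.refl _ _ (hr.2 u hu)
      exact (Submodule.disjoint_def.1 hW'c.disjoint) u h2 hu'
    · intro h0
      apply hab
      obtain ⟨r, hr, w, hw, rfl⟩ := hdec b hb
      rw [h0, Submodule.mem_bot] at hw
      rw [hw, add_zero]
      exact hr.2 a ha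
  exact le_antisymm hM (h1.symm.le.trans hle)

/-- **a block is generated by a vector** -/
theorem exists_gen (h : Std ρ f Q t H) (hS : SX ρ t H) {U : Submodule F V} (hU : U ∈ Bl ρ t H) :
    ∃ v ∈ U, ∀ u ∈ U, ∃ x ∈ Algebra.adjoin F (ZE ρ t H), u = x v := by
  have hU' := hU
  obtain ⟨z, hz, rfl, hz1, -⟩ := hU
  obtain ⟨ε, hε, hsym⟩ := h.sym
  obtain ⟨v, hv, hfv⟩ := exists_vec f h.nd hε hsym (y := ρ z) (t := t ^ Nat.card K) (h.hto.pow) (tN h)
    (by rw [← map_pow, pow_tt h.ht hz.2.1, map_one])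
    (by intro h0; exact hz1 (h.inj (by rw [h0, map_one]))) (h.iso z)
  rw [pow_one] at hfv
  let M : Submodule F V := (Subalgebra.toSubmodule (Algebra.adjoin F (ZE ρ t H))).map (LinearMap.applyₗ v)
  have hMm : ∀ u, u ∈ M ↔ ∃ x ∈ Algebra.adjoin F (ZE ρ t H), x v = u := fun u => Iff.rfl
  have hM : M = sp ρ z := by
    refine niso_sub h hS hU' ?_ ?_ (a := v) (b := ρ z v) ?_ ?_ hfv
    · intro u hu
      obtain ⟨x, hx, rfl⟩ := (hMm u).1 hu
      refine adjoin_mem ?_ hx v hv
      rintro _ ⟨y, hy, rfl⟩ w hw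
      exact map_mem_of_comm (h.comm_zs hy hz) hw
    · intro y hy m hm
      obtain ⟨x, hx, rfl⟩ := (hMm m).1 hm
      exact (hMm _).2 ⟨ρ y * x, mul_mem (Algebra.subset_adjoin ⟨y, hy, rfl⟩) hx, rfl⟩
    · exact (hMm _).2 ⟨1, one_mem _, rfl⟩
    · exact (hMm _).2 ⟨ρ z, Algebra.subset_adjoin ⟨z, hz, rfl⟩, rfl⟩
  refine ⟨v, hv, fun u hu => ?_⟩
  rw [← hM] at hu
  obtain ⟨x, hx, hxu⟩ := (hMm u).1 hu
  exact ⟨x, hx, hxu.symm⟩

/-- if `closure Zs` is a Sylow `t`-subgroup of `K`, the `t`-elements centralising it belong to `H` -/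
theorem sx_of_syl (h : Std ρ f Q t H) (hsyl : ¬ t ∣ (Subgroup.closure (Zs ρ t H)).index) : SX ρ t H := by
  intro y hy hyc
  have htf := Fact.mk h.ht
  set T := Subgroup.closure (Zs ρ t H) with hT
  have hyT : Subgroup.closure ({y} ∪ Zs ρ t H : Set K) ≤ T := by
    have h1 : IsPGroup t (Subgroup.closure ({y} ∪ Zs ρ t H : Set K)) := by
      refine (isPGroup_closure ?_ ?_).2
      · rintro a (rfl | ha) b (rfl | hb)
        · rfl
        · exact hyc b hb
        · exact (hyc a ha).symm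
        · exact h.comm_zs ha hb
      · rintro a (rfl | ha)
        · exact hy
        · exact ha.2.1
    have h2 : T ≤ Subgroup.closure ({y} ∪ Zs ρ t H : Set K) := Subgroup.closure_mono Set.subset_union_right
    have h3 : T.relIndex (Subgroup.closure ({y} ∪ Zs ρ t H : Set K)) = 1 := by
      by_contra hne
      obtain ⟨n, hn⟩ := IsPGroup.iff_card.mp h1
      obtain ⟨j, hj, hj'⟩ := (Nat.dvd_prime_pow h.ht).1 (hn ▸ Subgroup.relIndex_dvd_card T
        (Subgroup.closure ({y} ∪ Zs ρ t H : Set K)))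
      rcases Nat.eq_zero_or_pos j with h0 | h0
      · rw [h0, pow_zero] at hj'
        exact hne hj'
      · apply hsyl
        have h4 : t ∣ T.relIndex (Subgroup.closure ({y} ∪ Zs ρ t H : Set K)) := by
          rw [hj']
          exact dvd_pow_self t h0.ne'
        exact h4.trans (Subgroup.relIndex_dvd_index_of_le h2)
    exact Subgroup.relIndex_eq_one.mp h3
  exact closure_le_H (hyT (Subgroup.subset_closure (Or.inl rfl)))

end Cfsg.Agent.H22.DPi
end

-- part: H22/DPi/NormOne
section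
/-!
# Finite reduced commutative rings with an involution fixing no idempotent (helper22)

`card_sq` : `|A| = Q ^ 2`, `Q` the number of fixed elements; `card_norm_one` : at most `Q + 1` elements `x`
satisfy `x * σ x = 1`.
-/

set_option autoImplicit false

namespace Cfsg.Agent.H22.DPi

/-- the hypotheses -/
structure Inv2 {A : Type*} [CommRing A] (σ : A →+* A) : Prop where
  red : ∀ x : A, x * x = 0 → x = 0
  inv : ∀ x, σ (σ x) = x
  ne : ∃ x, σ x ≠ x
  idem : ∀ e, e * e = e → σ e = e → e = 0 ∨ e = 1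

variable {A : Type*} [CommRing A] [Finite A] {σ : A →+* A}

omit [Finite A] in
theorem Inv2.pow (h : Inv2 σ) {x : A} : ∀ n : ℕ, x ^ n = 0 → x = 0 := by
  intro n
  induction n using Nat.strong_induction_on with
  | _ n ih =>
    intro hx
    rcases Nat.lt_or_ge n 2 with h2 | h2
    · interval_cases n
      · rw [pow_zero] at hx
        calc x = x * 1 := (mul_one x).symm
          _ = 0 := by rw [hx, mul_zero]
      · rwa [pow_one] at hx
    · refine ih (n - 1) (by omega) (h.red _ ?_)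
      rw [← pow_add, show n - 1 + (n - 1) = n + (n - 2) by omega, pow_add, hx, zero_mul]

theorem Inv2.unit_of_fixed (h : Inv2 σ) {x : A} (hx : σ x = x) (hx0 : x ≠ 0) : ∃ y, x * y = 1 := by
  obtain ⟨i, j, hij, hxij⟩ : ∃ i j : ℕ, i < j ∧ x ^ i = x ^ j := by
    obtain ⟨i, j, hne, he⟩ := Finite.exists_ne_map_eq_of_infinite (fun n : ℕ => x ^ n)
    rcases Nat.lt_or_gt_of_ne hne with h1 | h1
    · exact ⟨i, j, h1, he⟩
    · exact ⟨j, i, h1, he.symm⟩
  obtain ⟨k, rfl⟩ : ∃ k, j = i + (k + 1) := ⟨j - i - 1, by omega⟩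
  have h1 : x * (1 - x ^ (k + 1)) = 0 := by
    apply h.pow (i + 1)
    have h2 : x ^ i * (1 - x ^ (k + 1)) = 0 := by
      rw [mul_sub, mul_one, ← pow_add, ← hxij, sub_self]
    calc (x * (1 - x ^ (k + 1))) ^ (i + 1) = (x ^ i * (1 - x ^ (k + 1))) * (x * (1 - x ^ (k + 1)) ^ i) := by
          rw [mul_pow]
          generalize 1 - x ^ (k + 1) = w
          ring
      _ = 0 := by rw [h2, zero_mul]
  have h2 : x * x ^ (k + 1) = x := by linear_combination -h1
  have he : x ^ (k + 1) * x ^ (k + 1) = x ^ (k + 1) := by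
    calc x ^ (k + 1) * x ^ (k + 1) = x ^ k * (x * x ^ (k + 1)) := by ring
      _ = x ^ (k + 1) := by rw [h2, pow_succ]
  rcases h.idem _ he (by rw [map_pow, hx]) with h3 | h3
  · exact (hx0 (h.pow _ h3)).elim
  · exact ⟨x ^ k, by rw [← pow_succ', h3]⟩

theorem Inv2.unit_of_norm (h : Inv2 σ) {x : A} (hx : x * σ x ≠ 0) : ∃ y, x * y = 1 := by
  obtain ⟨y, hy⟩ := h.unit_of_fixed (x := x * σ x) (by rw [map_mul, h.inv, mul_comm]) hx
  exact ⟨σ x * y, by rw [← mul_assoc, hy]⟩

omit [Finite A] in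
theorem mul_eq_zero_of_unit {x z : A} (hx : ∃ y, x * y = 1) (h : x * z = 0) : z = 0 := by
  obtain ⟨u, hu⟩ := hx
  calc z = (x * u) * z := by rw [hu, one_mul]
    _ = u * (x * z) := by ring
    _ = 0 := by rw [h, mul_zero]

/-- **the order** -/
theorem Inv2.card_sq (h : Inv2 σ) :
    Nat.card A = Nat.card {x : A // σ x = x} * Nat.card {x : A // σ x = x} ∧
      Nat.card {x : A // σ x = -x} = Nat.card {x : A // σ x = x} := by
  obtain ⟨a, ha⟩ := h.ne
  set y := a - σ a with hy
  have hyσ : σ y = -y := by rw [hy, map_sub, h.inv]; ring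
  have hy0 : y ≠ 0 := by
    intro h0
    exact ha (sub_eq_zero.1 h0).symm
  obtain ⟨y', hy'⟩ : ∃ y', y * y' = 1 := by
    apply h.unit_of_norm
    rw [hyσ]
    intro h0
    apply hy0
    apply h.red
    linear_combination -h0
  have hy'σ : σ y' = -y' := by
    have h1 : -y * σ y' = 1 := by rw [← hyσ, ← map_mul, hy', map_one]
    linear_combination (-y') * h1 - σ y' * hy'
  have hminus : Nat.card {x : A // σ x = -x} = Nat.card {x : A // σ x = x} := by
    apply Nat.card_congr
    refine ⟨fun x => ⟨y' * x, ?_⟩, fun x => ⟨y * x, ?_⟩, ?_, ?_⟩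
    · rw [map_mul, hy'σ, x.2]; ring
    · rw [map_mul, hyσ, x.2]; ring
    · intro x
      apply Subtype.ext
      show y * (y' * x) = x
      rw [← mul_assoc, hy', one_mul]
    · intro x
      apply Subtype.ext
      show y' * (y * x) = x
      rw [← mul_assoc, mul_comm y', hy', one_mul]
  refine ⟨?_, hminus⟩
  let τ : A →+ A := AddMonoidHom.id A + σ.toAddMonoidHom
  have hτ : ∀ x, τ x = x + σ x := fun x => rfl
  have h1 : Nat.card τ.ker = Nat.card {x : A // σ x = -x} := by
    apply Nat.card_congr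
    apply Equiv.subtypeEquivRight
    intro x
    rw [AddMonoidHom.mem_ker, hτ]
    constructor
    · intro h0; linear_combination h0
    · intro h0; rw [h0]; ring
  have h2 : Nat.card τ.range = Nat.card {x : A // σ x = x} := by
    apply Nat.card_congr
    apply Equiv.subtypeEquivRight
    intro x
    constructor
    · rintro ⟨z, rfl⟩
      rw [hτ, map_add, h.inv, add_comm]
    · intro hx
      obtain ⟨b, hb⟩ : ∃ b, τ b ≠ 0 := by
        by_contra hcon
        push Not at hcon
        have h3 := hcon 1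
        rw [hτ, map_one] at h3
        have h4 := hcon a
        rw [hτ] at h4
        apply ha
        linear_combination h4 - a * h3
      have hbσ : σ (τ b) = τ b := by rw [hτ, map_add, h.inv, add_comm]
      obtain ⟨c, hc⟩ := h.unit_of_fixed hbσ hb
      have hcσ : σ c = c := by
        have h3 : τ b * σ c = 1 := by
          calc τ b * σ c = σ (τ b) * σ c := by rw [hbσ]
            _ = 1 := by rw [← map_mul, hc, map_one]
        linear_combination c * h3 - σ c * hc
      refine ⟨b * (c * x), ?_⟩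
      rw [hτ, map_mul, map_mul, hcσ, hx]
      calc b * (c * x) + σ b * (c * x) = (b + σ b) * c * x := by ring
        _ = x := by rw [← hτ, hc, one_mul]
  have h3 := τ.ker.card_mul_index
  have h4 : τ.ker.index = Nat.card τ.range := AddSubgroup.index_ker τ
  rw [h4, h1, h2, hminus] at h3
  exact h3.symm

/-- **the elements of norm one** -/
theorem Inv2.card_norm_one (h : Inv2 σ) :
    Nat.card {x : A // x * σ x = 1} ≤ Nat.card {x : A // σ x = x} + 1 := by
  classical
  have := Fintype.ofFinite A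
  obtain ⟨h1, h2⟩ := h.card_sq
  obtain ⟨a, ha⟩ := h.ne
  have h10 : (1 : A) ≠ 0 := by
    intro h0
    apply ha
    calc σ a = σ a * 1 := (mul_one _).symm
      _ = a * 1 := by rw [h0, mul_zero, mul_zero]
      _ = a := mul_one _
  simp only [Nat.card_eq_fintype_card, Fintype.card_subtype] at h1 h2 ⊢
  set A0 := Finset.univ.filter (fun x : A => σ x = x) with hA0
  set Am := Finset.univ.filter (fun x : A => σ x = -x) with hAm
  set N := Finset.univ.filter (fun x : A => x * σ x = 1) with hN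
  -- the injection
  have hw : ∀ x, x * σ x = 1 → σ (x - 1) = - (σ x * (x - 1)) := by
    intro x hx
    rw [map_sub, map_one]
    linear_combination hx
  have hwu : ∀ x, x * σ x = 1 → x ≠ 1 → ∃ y, (x - 1) * y = 1 := by
    intro x hx hx1
    apply h.unit_of_norm
    intro h0
    apply hx1
    rw [← sub_eq_zero]
    apply h.red
    rw [hw x hx] at h0
    linear_combination (-x) * h0 - (x - 1) * (x - 1) * hx
  have hinj : ((A0.erase 0) ×ˢ (N.erase 1)).card ≤ (Finset.univ \ Am).card := by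
    apply Finset.card_le_card_of_injOn (fun cx : A × A => cx.1 * (cx.2 - 1))
    · rintro ⟨c, x⟩ hcx
      simp only [Finset.coe_product, Set.mem_prod, Finset.mem_coe, Finset.mem_erase, hA0, hN,
        Finset.mem_filter, Finset.mem_univ, true_and] at hcx
      obtain ⟨⟨hc0, hc⟩, hx1, hx⟩ := hcx
      simp only [Finset.mem_coe, Finset.mem_sdiff, Finset.mem_univ, true_and, hAm, Finset.mem_filter]
      intro h3
      rw [map_mul, hc, hw x hx] at h3
      have h4 : c * (σ x * (x - 1) - (x - 1)) = 0 := by linear_combination -h3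
      have h5 := mul_eq_zero_of_unit (h.unit_of_fixed hc hc0) h4
      have h6 : (x - 1) * (σ x - 1) = 0 := by linear_combination h5
      have h7 := mul_eq_zero_of_unit (hwu x hx hx1) h6
      apply hx1
      linear_combination hx - x * h7
    · rintro ⟨c, x⟩ hcx ⟨c', x'⟩ hcx' he
      simp only [Finset.coe_product, Set.mem_prod, Finset.mem_coe, Finset.mem_erase, hA0, hN,
        Finset.mem_filter, Finset.mem_univ, true_and] at hcx hcx'
      obtain ⟨⟨hc0, hc⟩, hx1, hx⟩ := hcx
      obtain ⟨⟨hc0', hc'⟩, hx1', hx'⟩ := hcx'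
      simp only at he
      have h3 : c * (σ x * (x - 1)) = c' * (σ x' * (x' - 1)) := by
        have h4 := congrArg σ he
        rw [map_mul, map_mul, hc, hc', hw x hx, hw x' hx'] at h4
        linear_combination -h4
      have h4 : c * ((x - 1) * (σ x - σ x')) = 0 := by linear_combination h3 - σ x' * he
      have h5 := mul_eq_zero_of_unit (h.unit_of_fixed hc hc0) h4
      have h6 := mul_eq_zero_of_unit (hwu x hx hx1) h5
      have hxx : x = x' := by
        have h7 : σ x = σ x' := sub_eq_zero.1 h6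
        rw [← h.inv x, h7, h.inv]
      subst hxx
      have h8 : (x - 1) * (c - c') = 0 := by linear_combination he
      have h9 := mul_eq_zero_of_unit (hwu x hx hx1) h8
      rw [sub_eq_zero.1 h9]
  rw [Finset.card_product, Finset.card_sdiff_of_subset (Finset.subset_univ _), Finset.card_univ,
    Finset.card_erase_of_mem (by simp only [hA0, _root_.Finset.mem_filter, _root_.Finset.mem_univ, _root_.map_zero, _root_.and_self]), Finset.card_erase_of_mem (by simp only [hN, _root_.Finset.mem_filter, _root_.Finset.mem_univ, _root_.map_one, _root_.mul_one, _root_.and_self]), h1, h2] at hinj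
  have h3 : 2 ≤ A0.card := by
    have h4 : ({0, 1} : Finset A) ⊆ A0 := by
      intro x hx
      simp only [Finset.mem_insert, Finset.mem_singleton] at hx
      rcases hx with rfl | rfl <;> simp only [hA0, _root_.Finset.mem_filter, _root_.Finset.mem_univ, _root_.map_zero, _root_.and_self, _root_.map_one]
    calc 2 = ({0, 1} : Finset A).card := by
          rw [Finset.card_insert_of_notMem (by simpa only [_root_.Finset.mem_singleton, _root_.ne_eq] using h10.symm), Finset.card_singleton]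
      _ ≤ _ := Finset.card_le_card h4
  obtain ⟨q, hq⟩ : ∃ q, A0.card = q + 2 := ⟨A0.card - 2, by omega⟩
  rw [hq] at hinj ⊢
  by_contra hcon
  push Not at hcon
  obtain ⟨n, hn⟩ : ∃ n, N.card = q + 4 + n := ⟨N.card - (q + 4), by omega⟩
  rw [hn] at hinj
  have h5 : q + 2 - 1 = q + 1 := by omega
  have h6 : q + 4 + n - 1 = q + 3 + n := by omega
  have h7 : (q + 2) * (q + 2) - (q + 2) = (q + 1) * (q + 2) := by
    rw [show (q + 2) * (q + 2) = (q + 1) * (q + 2) + (q + 2) by ring, Nat.add_sub_cancel]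
  rw [h5, h6, h7] at hinj
  nlinarith only [hinj]

end Cfsg.Agent.H22.DPi
end

-- part: H22/DPi/BlockCard
section
/-!
# The centraliser of `T` on a block (helper22)

`block_card` : `dim U = 2 m` and the centraliser of `T` in the isometry group of the block `U` has at most
`q ^ m + 1` elements.
-/

set_option autoImplicit false
set_option linter.unusedSectionVars false
set_option linter.deprecated false

namespace Cfsg.Agent.H22.DPi

open Module Cfsg.Agent.H167.OP Cfsg.Agent.H170.HL Cfsg.Agent.H988.CPi Cfsg.Agent.H560.HallKey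
  Cfsg.Agent.H553.OddHall Cfsg.Agent.H572.RV

variable {F : Type*} [Field F] [Finite F] {V : Type*} [AddCommGroup V] [Module F V] [Finite V]
  [FiniteDimensional F V] {K : Type*} [Group K] [Finite K] {t : ℕ}
  {ρ : Representation F K V} {f : V →ₗ[F] V →ₗ[F] F} {Q : V → F} {H : Subgroup K} {U : Submodule F V}

/-- the restrictions of the small elements -/
def ZU (ρ : Representation F K V) (t : ℕ) (H : Subgroup K) (U : Submodule F V) : Set (End F U) :=
  {a | ∃ z ∈ Zs ρ t H, ∀ u : U, (a u : V) = ρ z u}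

theorem zu_comm (h : Std ρ f Q t H) : ∀ a ∈ ZU ρ t H U, ∀ b ∈ ZU ρ t H U, a * b = b * a := by
  rintro a ⟨x, hx, ha⟩ b ⟨y, hy, hb⟩
  apply LinearMap.ext
  intro u
  apply Subtype.ext
  show ((a (b u) : U) : V) = ((b (a u) : U) : V)
  rw [ha, hb, hb, ha, ← mul_ap, ← mul_ap, h.comm_zs hx hy]

theorem zu_pow (h : Std ρ f Q t H) : ∀ a ∈ ZU ρ t H U, a ^ t ^ Nat.card K = 1 := by
  rintro a ⟨x, hx, ha⟩
  have h1 : ∀ n : ℕ, ∀ u : U, ((a ^ n) u : V) = ρ (x ^ n) u := by
    intro n
    induction n with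
    | zero => intro u; rw [pow_zero, pow_zero, one_ap]; rfl
    | succ n ih =>
      intro u
      rw [pow_succ', pow_succ', mul_ap, ← ih, ← ha]
      rfl
  apply LinearMap.ext
  intro u
  apply Subtype.ext
  rw [h1, pow_tt h.ht hx.2.1, one_ap]
  rfl

theorem exists_zu {z : K} (hz : z ∈ Zs ρ t H) (hzU : ∀ u ∈ U, ρ z u ∈ U) :
    ∃ a ∈ ZU ρ t H U, ∀ u : U, (a u : V) = ρ z u :=
  ⟨(ρ z).restrict hzU, ⟨z, hz, fun _ => rfl⟩, fun _ => rfl⟩

/-- the algebra on the block -/
def AU (ρ : Representation F K V) (t : ℕ) (H : Subgroup K) (U : Submodule F V) : Subalgebra F (End F U) :=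
  Algebra.adjoin F (ZU ρ t H U)

theorem au_comm (h : Std ρ f Q t H) : ∀ a ∈ AU ρ t H U, ∀ b ∈ AU ρ t H U, a * b = b * a := by
  intro a ha b hb
  have h1 := (Algebra.adjoinCommRingOfComm F (zu_comm (U := U) h)).mul_comm ⟨a, ha⟩ ⟨b, hb⟩
  exact congrArg Subtype.val h1

theorem exists_au (hUi : ∀ z ∈ Zs ρ t H, ∀ u ∈ U, ρ z u ∈ U) {x : End F V}
    (hx : x ∈ Algebra.adjoin F (ZE ρ t H)) : ∃ y ∈ AU ρ t H U, ∀ u : U, (y u : V) = x u := by
  induction hx using Algebra.adjoin_induction with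
  | mem x hx =>
    obtain ⟨z, hz, rfl⟩ := hx
    obtain ⟨a, ha, hau⟩ := exists_zu hz (hUi z hz)
    exact ⟨a, Algebra.subset_adjoin ha, hau⟩
  | algebraMap c => exact ⟨algebraMap F (End F U) c, Subalgebra.algebraMap_mem _ c, fun u => rfl⟩
  | add a b _ _ iha ihb =>
    obtain ⟨y, hy, hyu⟩ := iha
    obtain ⟨y', hy', hyu'⟩ := ihb
    refine ⟨y + y', add_mem hy hy', fun u => ?_⟩
    rw [LinearMap.add_apply, LinearMap.add_apply, ← hyu, ← hyu']
    rfl
  | mul a b _ _ iha ihb =>
    obtain ⟨y, hy, hyu⟩ := iha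
    obtain ⟨y', hy', hyu'⟩ := ihb
    refine ⟨y * y', mul_mem hy hy', fun u => ?_⟩
    rw [Module.End.mul_apply, Module.End.mul_apply, hyu, hyu']

theorem bl_inv (h : Std ρ f Q t H) (hU : U ∈ Bl ρ t H) {g : K} (hg : ∀ z ∈ Zs ρ t H, g * z = z * g) :
    ∀ u ∈ U, ρ g u ∈ U := by
  obtain ⟨z, hz, rfl, -⟩ := hU
  intro u hu
  exact map_mem_of_comm (hg z hz) hu

/-- the generator -/
theorem exists_gen' (h : Std ρ f Q t H) (hS : SX ρ t H) (hU : U ∈ Bl ρ t H) :
    ∃ v : U, ∀ u : U, ∃ x ∈ AU ρ t H U, u = x v := by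
  obtain ⟨v, hv, hgen⟩ := exists_gen h hS hU
  refine ⟨⟨v, hv⟩, fun u => ?_⟩
  obtain ⟨x, hx, hxu⟩ := hgen u u.2
  obtain ⟨y, hy, hyu⟩ := exists_au (fun z hz => bl_inv h hU (fun z' hz' => h.comm_zs hz hz')) hx
  exact ⟨y, hy, Subtype.ext (by rw [hxu, hyu])⟩

/-- adjoints -/
theorem exists_adj (h : Std ρ f Q t H) {x : End F U} (hx : x ∈ AU ρ t H U) :
    ∃ y ∈ AU ρ t H U, ∀ u w : U, f (x u : V) w = f u (y w : V) := by
  induction hx using Algebra.adjoin_induction with
  | mem x hx =>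
    have hx' := hx
    obtain ⟨z, hz, hxz⟩ := hx
    have h1 := zu_pow h x hx'
    have ht1 : 1 ≤ t ^ Nat.card K := Nat.one_le_pow _ _ h.ht.pos
    refine ⟨x ^ (t ^ Nat.card K - 1), pow_mem (Algebra.subset_adjoin hx') _, fun u w => ?_⟩
    have h2 : x ((x ^ (t ^ Nat.card K - 1)) w) = w := by
      show (x * x ^ (t ^ Nat.card K - 1)) w = w
      rw [← pow_succ', Nat.sub_add_cancel ht1, h1]
      rfl
    have h3 : ρ z ((x ^ (t ^ Nat.card K - 1)) w : V) = w := by rw [← hxz, h2]
    nth_rewrite 1 [← h3]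
    rw [hxz, h.iso]
  | algebraMap c =>
    refine ⟨algebraMap F (End F U) c, Subalgebra.algebraMap_mem _ c, fun u w => ?_⟩
    show f (c • (u : V)) w = f u (c • (w : V))
    rw [map_smul, map_smul, LinearMap.smul_apply]
  | add a b _ _ iha ihb =>
    obtain ⟨y, hy, hyu⟩ := iha
    obtain ⟨y', hy', hyu'⟩ := ihb
    refine ⟨y + y', add_mem hy hy', fun u w => ?_⟩
    show f ((a u : V) + (b u : V)) w = f u ((y w : V) + (y' w : V))
    rw [map_add, map_add, LinearMap.add_apply, hyu, hyu']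
  | mul a b ha hb iha ihb =>
    obtain ⟨y, hy, hyu⟩ := iha
    obtain ⟨y', hy', hyu'⟩ := ihb
    refine ⟨y' * y, mul_mem hy' hy, fun u w => ?_⟩
    show f (a (b u) : V) w = f u (y' (y w) : V)
    rw [hyu, hyu']

/-- uniqueness of adjoints -/
theorem adj_unique (hnd : ND f U) {y y' : End F U}
    (hy : ∀ u w : U, f (u : V) (y w : V) = f u (y' w : V)) : y = y' := by
  apply LinearMap.ext
  intro w
  apply Subtype.ext
  rw [← sub_eq_zero]
  refine hnd _ (U.sub_mem (y w).2 (y' w).2) ?_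
  intro x hx
  rw [map_sub, hy ⟨x, hx⟩ w, sub_self]

/-- the adjoint -/
noncomputable def adj (h : Std ρ f Q t H) (x : AU ρ t H U) : AU ρ t H U :=
  ⟨(exists_adj h x.2).choose, (exists_adj h x.2).choose_spec.1⟩

theorem adj_spec (h : Std ρ f Q t H) (x : AU ρ t H U) (u w : U) :
    f ((x : End F U) u : V) w = f u ((adj h x : End F U) w : V) := (exists_adj h x.2).choose_spec.2 u w

theorem adj_eq (h : Std ρ f Q t H) (hnd : ND f U) {x y : AU ρ t H U}
    (hy : ∀ u w : U, f ((x : End F U) u : V) w = f u ((y : End F U) w : V)) : adj h x = y := by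
  apply Subtype.ext
  apply adj_unique hnd
  intro u w
  rw [← adj_spec, hy]

theorem adj_adj (h : Std ρ f Q t H) (hnd : ND f U) (x : AU ρ t H U) : adj h (adj h x) = x := by
  apply adj_eq h hnd
  intro u w
  obtain ⟨ε, -, hε⟩ := h.sym
  rw [hε, ← adj_spec, ← hε]

/-- the commutative ring -/
@[implicit_reducible]
noncomputable def cr (h : Std ρ f Q t H) : CommRing (AU ρ t H U) :=
  { (AU ρ t H U).toRing with
    mul_comm := fun a b => Subtype.ext (au_comm h (a : End F U) a.2 (b : End F U) b.2) }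

theorem exists_sigma (h : Std ρ f Q t H) (hnd : ND f U) :
    ∃ σ : (letI := cr (U := U) h; AU ρ t H U →+* AU ρ t H U), ∀ x, σ x = adj h x := by
  letI := cr (U := U) h
  refine ⟨{ toFun := adj h, map_one' := ?_, map_mul' := ?_, map_zero' := ?_, map_add' := ?_ }, fun _ => rfl⟩
  · exact adj_eq h hnd (fun u w => rfl)
  · intro x y
    apply adj_eq h hnd
    intro u w
    show f ((x : End F U) ((y : End F U) u) : V) w = f u ((adj h x : End F U) ((adj h y : End F U) w) : V)
    rw [adj_spec, adj_spec]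
    have h1 := au_comm h (adj h x : End F U) (adj h x).2 (adj h y : End F U) (adj h y).2
    have h2 := LinearMap.congr_fun h1 w
    rw [Module.End.mul_apply, Module.End.mul_apply] at h2
    rw [h2]
  · apply adj_eq h hnd
    intro u w
    show f (0 : V) w = f u (0 : V)
    rw [map_zero, map_zero, LinearMap.zero_apply]
  · intro x y
    apply adj_eq h hnd
    intro u w
    show f (((x : End F U) u : V) + ((y : End F U) u : V)) w =
      f u (((adj h x : End F U) w : V) + ((adj h y : End F U) w : V))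
    rw [map_add, map_add, LinearMap.add_apply, adj_spec, adj_spec]

theorem nontriv_bl (h : Std ρ f Q t H) (hU : U ∈ Bl ρ t H) : Nontrivial U := by
  rw [Submodule.nontrivial_iff_ne_bot]
  exact h.bl_ne_bot hU

theorem idem_bl (h : Std ρ f Q t H) (hS : SX ρ t H) (hU : U ∈ Bl ρ t H) {e : AU ρ t H U} (he : e * e = e)
    (hσ : adj h e = e) : e = 0 ∨ e = 1 := by
  let M : Submodule F V := (LinearMap.range (e : End F U)).map U.subtype
  have hM : ∀ v, v ∈ M ↔ ∃ u : U, ((e : End F U) u : V) = v := by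
    intro v
    constructor
    · rintro ⟨_, ⟨u, rfl⟩, rfl⟩
      exact ⟨u, rfl⟩
    · rintro ⟨u, rfl⟩
      exact ⟨_, ⟨u, rfl⟩, rfl⟩
  have hee : ∀ u : U, (e : End F U) ((e : End F U) u) = (e : End F U) u := by
    intro u
    have h1 := LinearMap.congr_fun (congrArg Subtype.val he) u
    exact h1
  by_cases h0 : M = ⊥
  · left
    apply Subtype.ext
    apply LinearMap.ext
    intro u
    apply Subtype.ext
    have h1 : ((e : End F U) u : V) ∈ M := (hM _).2 ⟨u, rfl⟩
    rw [h0, Submodule.mem_bot] at h1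
    exact h1
  · right
    have h1 : M = U := by
      refine nd_sub h hS hU ?_ ?_ ?_ h0
      · intro v hv
        obtain ⟨u, rfl⟩ := (hM v).1 hv
        exact Subtype.coe_prop _
      · intro z hz m hm
        obtain ⟨u, rfl⟩ := (hM m).1 hm
        obtain ⟨a, ha, hau⟩ := exists_zu hz (bl_inv h hU (fun z' hz' => h.comm_zs hz hz'))
        refine (hM _).2 ⟨a u, ?_⟩
        have h2 := LinearMap.congr_fun (au_comm h (e : End F U) e.2 a (Algebra.subset_adjoin ha)) u
        rw [Module.End.mul_apply, Module.End.mul_apply] at h2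
        rw [h2, hau]
      · intro v hv hx
        obtain ⟨u, rfl⟩ := (hM v).1 hv
        refine h.nd_bl hU _ (Subtype.coe_prop _) ?_
        intro w hw
        have h2 := adj_spec h e ⟨w, hw⟩ ((e : End F U) u)
        rw [hσ, hee] at h2
        rw [← h2]
        exact hx _ ((hM _).2 ⟨⟨w, hw⟩, rfl⟩)
    apply Subtype.ext
    apply LinearMap.ext
    intro u
    have h2 : (u : V) ∈ M := by rw [h1]; exact u.2
    obtain ⟨w, hw⟩ := (hM _).1 h2
    have h3 : (e : End F U) w = u := Subtype.ext hw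
    rw [← h3, hee]
    rfl

theorem ne_bl (h : Std ρ f Q t H) (hU : U ∈ Bl ρ t H) : ∃ x : AU ρ t H U, adj h x ≠ x := by
  have hU' := hU
  obtain ⟨z, hz, rfl, hz1, -⟩ := hU
  obtain ⟨a, ha, hau⟩ := exists_zu (U := sp ρ z) hz (bl_inv h hU' (fun z' hz' => h.comm_zs hz hz'))
  refine ⟨⟨a, Algebra.subset_adjoin ha⟩, fun hcon => hz1 ?_⟩
  have h1 : ∀ u w : sp ρ z, f (a u : V) w = f u (a w : V) := by
    intro u w
    have := adj_spec h ⟨a, Algebra.subset_adjoin ha⟩ u w
    rwa [hcon] at this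
  have h2 : ∀ w : sp ρ z, a (a w) = w := by
    intro w
    have h3 : (a * a : End F (sp ρ z)) = 1 := by
      apply adj_unique (h.nd_bl hU')
      intro u w
      show f (u : V) (a (a w) : V) = f u (w : V)
      rw [← h1, hau, hau, h.iso]
    exact LinearMap.congr_fun h3 w
  have h3 : z * z = 1 := by
    apply eq_of_parts h.inj (h.nd_bl hU')
    · intro u hu
      rw [mul_ap, one_ap, ← hau ⟨u, hu⟩, ← hau, h2]
    · intro w hw
      rw [mul_ap, (mem_Orth_sp h.toIsoG).1 hw, (mem_Orth_sp h.toIsoG).1 hw, one_ap]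
  obtain ⟨k, hk⟩ := hz.2.1
  have h4 : orderOf z ∣ 2 := orderOf_dvd_of_pow_eq_one (by rw [pow_two, h3])
  have h5 : orderOf z ∣ t ^ k := orderOf_dvd_of_pow_eq_one hk
  have h6 : Nat.Coprime 2 (t ^ k) := (Nat.coprime_two_left.2 (h.hto.pow))
  have h7 := Nat.dvd_gcd h4 h5
  rw [h6] at h7
  exact orderOf_eq_one_iff.1 (Nat.dvd_one.1 h7)

theorem card_au (h : Std ρ f Q t H) (hS : SX ρ t H) (hU : U ∈ Bl ρ t H) : Nat.card (AU ρ t H U) = Nat.card U := by
  obtain ⟨v, hv⟩ := exists_gen' h hS hU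
  refine Nat.card_congr (Equiv.ofBijective (fun x : AU ρ t H U => (x : End F U) v) ⟨?_, ?_⟩)
  · intro x y hxy
    apply Subtype.ext
    apply LinearMap.ext
    intro u
    obtain ⟨b, hb, rfl⟩ := hv u
    have h1 := LinearMap.congr_fun (au_comm h (x : End F U) x.2 b hb) v
    have h2 := LinearMap.congr_fun (au_comm h (y : End F U) y.2 b hb) v
    rw [Module.End.mul_apply, Module.End.mul_apply] at h1 h2
    rw [h1, h2]
    exact congrArg b hxy
  · intro u
    obtain ⟨x, hx, hxu⟩ := hv u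
    exact ⟨⟨x, hx⟩, hxu.symm⟩

/-- **the norm one elements** -/
theorem card_norm (h : Std ρ f Q t H) (hS : SX ρ t H) (hU : U ∈ Bl ρ t H) :
    ∃ m : ℕ, finrank F U = 2 * m ∧
      Nat.card {x : AU ρ t H U // x * adj h x = 1} ≤ Nat.card F ^ m + 1 := by
  have hnd := h.nd_bl hU
  have hnt := nontriv_bl h hU
  have hfe : Finite (End F U) := Finite.of_injective (fun a : End F U => (a : U → U)) DFunLike.coe_injective
  have hfa : Finite (AU ρ t H U) := Finite.of_injective (fun a : AU ρ t H U => (a : End F U)) Subtype.val_injective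
  letI := cr (U := U) h
  obtain ⟨σ, hσ⟩ := exists_sigma (U := U) h hnd
  have hinv : Inv2 σ :=
    { red := by
        intro x hx
        apply Subtype.ext
        apply LinearMap.ext
        intro u
        have h1 : ((x : End F U) ^ 2) u = 0 := by
          rw [pow_two]
          exact LinearMap.congr_fun (congrArg Subtype.val hx) u
        exact eq_zero_of_pow ((zu_comm h :)) (tN h) (zu_pow h) x.2 h1
      inv := fun x => by rw [hσ, hσ, adj_adj h hnd]
      ne := by
        obtain ⟨x, hx⟩ := ne_bl h hU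
        exact ⟨x, by rw [hσ]; exact hx⟩
      idem := fun e he he' => idem_bl h hS hU he (by rw [← hσ]; exact he') }
  obtain ⟨h1, -⟩ := hinv.card_sq
  have h2 := hinv.card_norm_one
  let Fx : Submodule F (AU ρ t H U) :=
    { carrier := {x | adj h x = x}
      add_mem' := fun {a b} ha hb => by
        show adj h (a + b) = a + b
        rw [← hσ, map_add, hσ, hσ, ha, hb]
      zero_mem' := by
        show adj h 0 = 0
        rw [← hσ, map_zero]
      smul_mem' := fun c x hx => by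
        apply adj_eq h hnd
        intro u w
        show f (c • ((x : End F U) u : V)) w = f u (c • ((x : End F U) w : V))
        have hx' : adj h x = x := hx
        rw [map_smul, map_smul, LinearMap.smul_apply, adj_spec h, hx'] }
  have hFx : Nat.card {x : AU ρ t H U // σ x = x} = Nat.card Fx :=
    Nat.card_congr (Equiv.subtypeEquivRight (fun x => by rw [hσ]; exact Iff.rfl))
  have h3 : Nat.card Fx = Nat.card F ^ finrank F Fx := Module.natCard_eq_pow_finrank
  have h4 : Nat.card U = Nat.card F ^ finrank F U := Module.natCard_eq_pow_finrank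
  rw [card_au h hS hU, hFx, h4, h3, ← pow_add] at h1
  refine ⟨finrank F Fx, ?_, ?_⟩
  · have h5 := Nat.pow_right_injective (Finite.one_lt_card (α := F)) h1
    omega
  · rw [hFx, h3] at h2
    refine le_trans (le_of_eq ?_) h2
    exact Nat.card_congr (Equiv.subtypeEquivRight (fun x => by rw [hσ]))

end Cfsg.Agent.H22.DPi
end

-- part: H22/DPi/TCard
section
/-!
# The order of the centraliser of `T` (helper22)

`block_card`, `wb_eq`, `finrank_wb`, `card_cent_le`.
-/

set_option autoImplicit false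
set_option linter.unusedSectionVars false

namespace Cfsg.Agent.H22.DPi

open Module Cfsg.Agent.H167.OP Cfsg.Agent.H170.HL Cfsg.Agent.H988.CPi Cfsg.Agent.H560.HallKey
  Cfsg.Agent.H553.OddHall Cfsg.Agent.H572.RV

variable {F : Type*} [Field F] [Finite F] {V : Type*} [AddCommGroup V] [Module F V] [Finite V]
  [FiniteDimensional F V] {K : Type*} [Group K] [Finite K] {t : ℕ}
  {ρ : Representation F K V} {f : V →ₗ[F] V →ₗ[F] F} {Q : V → F} {H : Subgroup K} {U : Submodule F V}

/-- the centraliser of `T` in the isometry group of `U` -/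
def CB (ρ : Representation F K V) (f : V →ₗ[F] V →ₗ[F] F) (t : ℕ) (H : Subgroup K) (U : Submodule F V) :
    Subgroup K where
  carrier := {g | (∀ w ∈ Orth f U, ρ g w = w) ∧ ∀ z ∈ Zs ρ t H, g * z = z * g}
  mul_mem' := fun {a b} ha hb => ⟨fun w hw => by rw [mul_ap, hb.1 w hw, ha.1 w hw],
    fun z hz => by rw [mul_assoc, hb.2 z hz, ← mul_assoc, ha.2 z hz, mul_assoc]⟩
  one_mem' := ⟨fun w _ => one_ap ρ w, fun z _ => by rw [one_mul, mul_one]⟩
  inv_mem' := fun {a} ha => ⟨fun w hw => by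
      have h1 := ha.1 w hw
      nth_rewrite 1 [← h1]
      exact inv_ap ρ a w,
    fun z hz => by
      have h1 := ha.2 z hz
      calc a⁻¹ * z = a⁻¹ * (z * a) * a⁻¹ := by group
        _ = z * a⁻¹ := by rw [← h1]; group⟩

/-- an element centralising `T` acts on a block as an element of the algebra -/
theorem exists_elt (h : Std ρ f Q t H) (hS : SX ρ t H) (hU : U ∈ Bl ρ t H) {g : K}
    (hg : ∀ z ∈ Zs ρ t H, g * z = z * g) :
    ∃ x : AU ρ t H U, x * adj h x = 1 ∧ ∀ u : U, ((x : End F U) u : V) = ρ g u := by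
  obtain ⟨v, hv⟩ := exists_gen' h hS hU
  have hgU := bl_inv h hU hg
  obtain ⟨x, hx, hxv⟩ := hv ⟨ρ g v, hgU v v.2⟩
  have hcomm : ∀ y ∈ AU ρ t H U, ∀ u : U, ρ g (y u : V) = (y ⟨ρ g u, hgU u u.2⟩ : V) := by
    intro y hy
    induction hy using Algebra.adjoin_induction with
    | mem a ha =>
      obtain ⟨z, hz, haz⟩ := ha
      intro u
      rw [haz, haz, ← mul_ap, hg z hz, mul_ap]
    | algebraMap c =>
      intro u
      show ρ g (c • (u : V)) = c • ρ g u
      rw [map_smul]
    | add a b _ _ iha ihb =>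
      intro u
      show ρ g ((a u : V) + (b u : V)) = (a _ : V) + (b _ : V)
      rw [map_add, iha, ihb]
    | mul a b _ _ iha ihb =>
      intro u
      show ρ g (a (b u) : V) = (a (b _) : V)
      rw [iha]
      congr 2
      apply Subtype.ext
      exact ihb u
  have hxu : ∀ u : U, (x u : V) = ρ g u := by
    intro u
    obtain ⟨y, hy, rfl⟩ := hv u
    rw [hcomm y hy, hxv]
    have h1 := LinearMap.congr_fun (au_comm h x hx y hy) v
    rw [Module.End.mul_apply, Module.End.mul_apply] at h1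
    rw [h1]
  refine ⟨⟨x, hx⟩, ?_, hxu⟩
  apply Subtype.ext
  apply adj_unique (h.nd_bl hU)
  intro u w
  have h1 := au_comm h x hx (adj h ⟨x, hx⟩ : End F U) (adj h ⟨x, hx⟩).2
  have h2 := LinearMap.congr_fun h1 w
  rw [Module.End.mul_apply, Module.End.mul_apply] at h2
  show f (u : V) (x ((adj h ⟨x, hx⟩ : End F U) w) : V) = f u (w : V)
  rw [h2, ← adj_spec h ⟨x, hx⟩ u (x w)]
  show f (x u : V) (x w : V) = _
  rw [hxu, hxu, h.iso]

/-- **the centraliser of `T` on a block** -/
theorem block_card (h : Std ρ f Q t H) (hS : SX ρ t H) (hU : U ∈ Bl ρ t H) :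
    ∃ m : ℕ, finrank F U = 2 * m ∧ Nat.card (CB ρ f t H U) ≤ Nat.card F ^ m + 1 := by
  obtain ⟨m, hm, hc⟩ := card_norm h hS hU
  have hfe : Finite (End F U) := Finite.of_injective (fun a : End F U => (a : U → U)) DFunLike.coe_injective
  have hfa : Finite (AU ρ t H U) := Finite.of_injective (fun a : AU ρ t H U => (a : End F U)) Subtype.val_injective
  refine ⟨m, hm, le_trans ?_ hc⟩
  have hex : ∀ g : CB ρ f t H U, ∃ x : AU ρ t H U, x * adj h x = 1 ∧ ∀ u : U, ((x : End F U) u : V) = ρ (g : K) u :=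
    fun g => exists_elt h hS hU g.2.2
  choose φ hφ1 hφ2 using hex
  refine Nat.card_le_card_of_injective (fun g => (⟨φ g, hφ1 g⟩ : {x : AU ρ t H U // x * adj h x = 1})) ?_
  intro a b hab
  have h1 : φ a = φ b := congrArg Subtype.val hab
  apply Subtype.ext
  apply eq_of_parts h.inj (h.nd_bl hU)
  · intro u hu
    rw [← hφ2 a ⟨u, hu⟩, ← hφ2 b ⟨u, hu⟩, h1]
  · intro w hw
    rw [a.2.1 w hw, b.2.1 w hw]

/-- `[V, T]` is the sum of the blocks -/
theorem wb_eq (h : Std ρ f Q t H) : WB ρ t H = ⨆ U : Bl ρ t H, (U : Submodule F V) := by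
  apply le_antisymm
  · have hz : ∀ z ∈ Zs ρ t H, sp ρ z ≤ ⨆ U : Bl ρ t H, (U : Submodule F V) := fun z hz =>
      h.sp_le_of_bl (fun U hU => le_iSup (fun U : Bl ρ t H => (U : Submodule F V)) ⟨U, hU⟩) _ z hz rfl
    refine CV_le fun d hd => ?_
    suffices h1 : ∀ v, ρ d v - v ∈ ⨆ U : Bl ρ t H, (U : Submodule F V) by
      rintro _ ⟨v, rfl⟩
      exact h1 v
    induction hd using Subgroup.closure_induction with
    | mem z hz' => exact fun v => hz z hz' (mem_sp v)
    | one => intro v; rw [one_ap, sub_self]; exact Submodule.zero_mem _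
    | mul a b _ _ iha ihb =>
      intro v
      rw [mul_ap, ← sub_add_sub_cancel (ρ a (ρ b v)) (ρ b v) v]
      exact Submodule.add_mem _ (iha _) (ihb _)
    | inv a _ ih =>
      intro v
      have h1 := ih (ρ a⁻¹ v)
      rw [ap_inv] at h1
      rw [← neg_sub]
      exact Submodule.neg_mem _ h1
  · apply iSup_le
    rintro ⟨U, z, hz, rfl, -⟩
    exact range_le_CV ρ (Subgroup.subset_closure hz)

theorem finrank_sup_bl (h : Std ρ f Q t H) (s : Finset (Submodule F V)) (hs : ∀ U ∈ s, U ∈ Bl ρ t H) :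
    finrank F (s.sup id : Submodule F V) = ∑ U ∈ s, finrank F U := by
  classical
  induction s using Finset.induction_on with
  | empty => rw [Finset.sup_empty, Finset.sum_empty, finrank_bot]
  | insert U s hU ih =>
    rw [Finset.sup_insert, Finset.sum_insert hU, ← ih (fun W hW => hs W (Finset.mem_insert_of_mem hW)), id]
    have h1 := Submodule.finrank_sup_add_finrank_inf_eq U (s.sup id)
    have h2 : U ⊓ s.sup id = ⊥ := by
      rw [eq_bot_iff]
      rintro u ⟨hu, hu'⟩
      have h3 : s.sup id ≤ Orth f U := by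
        apply Finset.sup_le
        intro W hW w hw x hx
        refine h.bl_orth (hs U (Finset.mem_insert_self _ _)) (hs W (Finset.mem_insert_of_mem hW)) ?_ x hx w hw
        rintro rfl
        exact hU hW
      exact h.nd_bl (hs U (Finset.mem_insert_self _ _)) u hu (fun x hx => h3 hu' x hx)
    rw [h2, finrank_bot, add_zero] at h1
    exact h1

theorem le_bl (h : Std ρ f Q t H) (hU : U ∈ Bl ρ t H) : U ≤ WB ρ t H := by
  rw [wb_eq h]
  exact le_iSup (fun U : Bl ρ t H => (U : Submodule F V)) ⟨U, hU⟩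

theorem nd_orth (h : IsoG ρ f Q) {W : Submodule F V} (hW : ND f W) : ND f (Orth f W) := by
  intro u hu hx
  apply h.nd
  intro v
  obtain ⟨a, ha, b, hb, rfl⟩ := decomp hW v
  rw [map_add, LinearMap.add_apply, hu a ha, hx b hb, add_zero]

/-- the part of an element centralising `T` on a block -/
theorem exists_cb (h : Std ρ f Q t H) (hU : U ∈ Bl ρ t H) {g : K} (hg : ∀ z ∈ Zs ρ t H, g * z = z * g) :
    ∃ k ∈ CB ρ f t H U, IsPart ρ f U g k := by
  obtain ⟨k, hk⟩ := h.toIsoG.exists_part (h.nd_bl hU) (bl_inv h hU hg)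
  refine ⟨k, ⟨hk.2, fun z hz => ?_⟩, hk⟩
  obtain ⟨z', hz', rfl, -⟩ := hU
  exact (hk.comm h.toIsoG h.htF hz'.2.1 (hg z hz).symm (h.comm_zs hz hz')).symm

end Cfsg.Agent.H22.DPi
end

-- part: H22/DPi/Class
section
/-!
# S4247, row `POmega`: a class of at least three large blocks (helper22)
-/

set_option autoImplicit false
set_option linter.unusedSectionVars false

namespace Cfsg.Agent.H22.DPi

open Module Cfsg.Agent.H167.OP Cfsg.Agent.H170.HL Cfsg.Agent.H988.CPi Cfsg.Agent.H560.HallKey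
  Cfsg.Agent.H553.OddHall Cfsg.Agent.H571.RV Cfsg.Agent.H572.RV Cfsg.Agent.H969.DPi Cfsg.Agent.H602.DPO

variable {F : Type*} [Field F] [Finite F] {V : Type*} [AddCommGroup V] [Module F V] [Finite V]
  [FiniteDimensional F V] {K : Type*} [Group K] [Finite K]
  {ρ : Representation F K V} {f : V →ₗ[F] V →ₗ[F] F} {Q : V → F} {π : Set ℕ} {H : Subgroup K} {r t : ℕ}
  {U : Submodule F V}

/-- small `r`-elements centralise `T`, `r < t` -/
theorem small_comm (h : Frame ρ f Q π H r t) {x : K} (hx : x ∈ Zs ρ r H) :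
    ∀ d ∈ Subgroup.closure (Zs ρ t H), x * d = d * x := by
  have hs := std_of h
  have htf := Fact.mk h.tp
  have hTp := hs.closure_comm.2
  obtain ⟨n, hn⟩ := IsPGroup.iff_card.mp hTp
  have hr3 := h.r3
  refine comm_of_rk ρ h.inj h.rp (odd_of h.two h.rp h.rπ) hx.2.1 ?_ ?_ ?_ hs.closure_comm.1 ?_ f h.iso h.nd
  · have := hx.2.2
    omega
  · rw [hn]; exact hs.hto.pow
  · rw [hn, Nat.cast_pow]; exact pow_ne_zero _ hs.htF
  · intro d hd
    exact (Subgroup.mem_normalizer_iff.mp (hs.le_norm hx.1) d).mp hd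

/-- a Sylow subgroup containing an element -/
theorem exists_sylT (h : IsoG ρ f Q) (h2 : 2 ∉ π) (hp : ∀ l ∈ π, l.Prime → (l : F) ≠ 0) (hH : IsPiHall π H)
    (hr : r.Prime) (hrπ : r ∈ π) {y : K} (hyH : y ∈ H) (hy : ∃ k : ℕ, y ^ r ^ k = 1) :
    ∃ R : Subgroup K, SylT ρ f Q r H R ∧ y ∈ R := by
  have hrf := Fact.mk hr
  have h1 : IsPGroup r (Subgroup.zpowers (⟨y, hyH⟩ : H)) := by
    obtain ⟨k, hk⟩ := hy
    rintro ⟨x, hx⟩
    obtain ⟨i, rfl⟩ := Subgroup.mem_zpowers_iff.mp hx
    refine ⟨k, Subtype.ext (Subtype.ext ?_)⟩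
    show (y ^ i) ^ r ^ k = 1
    rw [← zpow_natCast, ← zpow_mul, mul_comm, zpow_mul, zpow_natCast, hk, one_zpow]
  obtain ⟨T, hT⟩ := h1.exists_le_sylow
  have h3 : IsPGroup r ((T : Subgroup H).map H.subtype) := T.2.map _
  have h4 : ¬ r ∣ ((T : Subgroup H).map H.subtype).index := by
    have h3 : ((T : Subgroup H).map H.subtype).index = (T : Subgroup H).index * H.index := by
      have := Subgroup.index_map (T : Subgroup H) H.subtype
      rwa [H.ker_subtype, sup_bot_eq, Subgroup.range_subtype] at this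
    rw [h3, hr.dvd_mul, not_or]
    exact ⟨T.not_dvd_index, hH.2 r hr hrπ⟩
  let S : Sylow r K := h3.toSylow h4
  refine ⟨(T : Subgroup H).map H.subtype, ?_, ⟨⟨y, hyH⟩, hT (Subgroup.mem_zpowers _), rfl⟩⟩
  exact
    { toStd := h.std h2 hp hH hr hrπ
      hT := h3
      hTH := Subgroup.map_subtype_le _
      hmax := fun R hR hle => S.is_maximal' hR hle }

/-- **an `r`-element moving a block: `r` divides the order of the centraliser of `T` on the block** -/
theorem r_dvd (h : Frame ρ f Q π H r t) {y : K} (hyH : y ∈ H) (hy : ∃ k : ℕ, y ^ r ^ k = 1)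
    (hU : U ∈ Bl ρ t H) (hyU : U.map (ρ y) ≠ U) : r ∣ Nat.card (CB ρ f t H U) := by
  have hs := std_of h
  have hrf := Fact.mk h.rp
  obtain ⟨R, hR, hyR⟩ := exists_sylT h.toIsoG h.two h.char h.hall h.rp h.rπ hyH hy
  have h1 : ¬ U ≤ Orth f (WB ρ r H) := by
    intro hle
    apply hyU
    apply map_eq_of_le
    rintro _ ⟨u, hu, rfl⟩
    rw [hR.fixed hyR (hle hu)]
    exact hu
  obtain ⟨u, hu, hu'⟩ := SetLike.not_le_iff_exists.1 h1
  have h2 : ¬ ∀ d ∈ Subgroup.closure (Zs ρ r H), ρ d u = u := fun hc => hu' ((mem_Orth_CV h.toIsoG).2 hc)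
  push Not at h2
  obtain ⟨d, hd, hdu⟩ := h2
  have hdT : ∀ z ∈ Zs ρ t H, d * z = z * d := by
    intro z hz
    have h3 : Subgroup.closure (Zs ρ r H) ≤ Subgroup.centralizer ({z} : Set K) := by
      rw [Subgroup.closure_le]
      intro x hx
      rw [SetLike.mem_coe, Subgroup.mem_centralizer_iff]
      intro z' hz'
      rw [Set.mem_singleton_iff] at hz'
      rw [hz']
      exact (small_comm h hx z (Subgroup.subset_closure hz)).symm
    exact ((Subgroup.mem_centralizer_iff.1 (h3 hd)) z rfl).symm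
  obtain ⟨k, hk, hp⟩ := exists_cb hs hU hdT
  have hdr : ∃ m : ℕ, d ^ r ^ m = 1 := by
    obtain ⟨m, hm⟩ := hR.toStd.closure_comm.2 ⟨d, hd⟩
    exact ⟨m, congrArg Subtype.val hm⟩
  have hkr := hp.tel h.toIsoG (hs.nd_bl hU) (bl_inv hs hU hdT) hdr
  have hk1 : k ≠ 1 := by
    rintro rfl
    apply hdu
    rw [← hp.1 u hu, one_ap]
  obtain ⟨m, hm⟩ := hkr
  obtain ⟨j, -, hj⟩ := (Nat.dvd_prime_pow h.rp).1 (orderOf_dvd_of_pow_eq_one hm)
  have hj0 : j ≠ 0 := by
    rintro rfl
    rw [pow_zero, orderOf_eq_one_iff] at hj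
    exact hk1 hj
  have h5 : orderOf (⟨k, hk⟩ : CB ρ f t H U) ∣ Nat.card (CB ρ f t H U) := orderOf_dvd_natCard _
  rw [Subgroup.orderOf_mk, hj] at h5
  exact (dvd_pow_self r hj0).trans h5

theorem t_dvd (h : Frame ρ f Q π H r t) (hU : U ∈ Bl ρ t H) : t ∣ Nat.card (CB ρ f t H U) := by
  have hs := std_of h
  obtain ⟨z, hz, rfl, hz1, -⟩ := hU
  obtain ⟨m, hm⟩ := hz.2.1
  obtain ⟨j, -, hj⟩ := (Nat.dvd_prime_pow h.tp).1 (orderOf_dvd_of_pow_eq_one hm)
  have hj0 : j ≠ 0 := by
    rintro rfl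
    rw [pow_zero, orderOf_eq_one_iff] at hj
    exact hz1 hj
  have hk : z ∈ CB ρ f t H (sp ρ z) :=
    ⟨fun w hw => (mem_Orth_sp h.toIsoG).1 hw, fun z' hz' => hs.comm_zs hz hz'⟩
  have h5 : orderOf (⟨z, hk⟩ : CB ρ f t H (sp ρ z)) ∣ Nat.card (CB ρ f t H (sp ρ z)) := orderOf_dvd_natCard _
  rw [Subgroup.orderOf_mk, hj] at h5
  exact (dvd_pow_self t hj0).trans h5

/-- `-1` on a block -/
theorem two_dvd (h : Frame ρ f Q π H r t) (hQ : ∀ v, Q (-v) = Q v) (h2 : (2 : F) ≠ 0) (hU : U ∈ Bl ρ t H) :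
    2 ∣ Nat.card (CB ρ f t H U) := by
  have hs := std_of h
  have hnd := hs.nd_bl hU
  have hc := isCompl_Orth f U hnd
  let A : Module.End F V := LinearMap.ofIsCompl hc (-U.subtype) (Orth f U).subtype
  have hA1 : ∀ u ∈ U, A u = -u := fun u hu => LinearMap.ofIsCompl_apply_left hc ⟨u, hu⟩
  have hA2 : ∀ w ∈ Orth f U, A w = w := fun u hu => LinearMap.ofIsCompl_apply_right hc ⟨u, hu⟩
  obtain ⟨k, hk⟩ := h.full A (by
    intro u v
    obtain ⟨a, ha, b, hb, rfl⟩ := decomp hnd u
    obtain ⟨a', ha', b', hb', rfl⟩ := decomp hnd v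
    have e1 := hb' a ha
    have e2 := h.toIsoG.refl _ _ (hb a' ha')
    rw [map_add A, map_add A, hA1 a ha, hA1 a' ha', hA2 b hb, hA2 b' hb']
    simp only [map_add, LinearMap.add_apply, map_neg, LinearMap.neg_apply, e1, e2]
    ring) (by
    intro v
    obtain ⟨a, ha, b, hb, rfl⟩ := decomp hnd v
    rw [map_add, hA1 a ha, hA2 b hb, h.addQ _ _ (by rw [map_neg, LinearMap.neg_apply, hb a ha, neg_zero]),
      h.addQ _ _ (hb a ha), hQ])
  have hkO : ∀ w ∈ Orth f U, ρ k w = w := fun w hw => by rw [hk, hA2 w hw]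
  have hkU : ∀ u ∈ U, ρ k u = -u := fun u hu => by rw [hk, hA1 u hu]
  have hkk : k * k = 1 := by
    apply eq_of_parts h.inj hnd
    · intro u hu
      rw [mul_ap, hkU u hu, map_neg, hkU u hu, neg_neg, one_ap]
    · intro w hw
      rw [mul_ap, hkO w hw, hkO w hw, one_ap]
  have hkC : k ∈ CB ρ f t H U := by
    refine ⟨hkO, fun z hz => ?_⟩
    have hzU := bl_inv hs hU (fun z' hz' => hs.comm_zs hz hz')
    have hzm : U.map (ρ z) = U := map_eq_of_le (by rintro _ ⟨u, hu, rfl⟩; exact hzU u hu)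
    have hzO := Orth_map_of_map h.toIsoG hzm
    apply eq_of_parts h.inj hnd
    · intro u hu
      rw [mul_ap, mul_ap, hkU _ (hzU u hu), hkU u hu, map_neg]
    · intro w hw
      rw [mul_ap, mul_ap, hkO w hw, hkO _ (mem_of_map hzO hw)]
  have hk1 : k ≠ 1 := by
    rintro rfl
    apply hs.bl_ne_bot hU
    rw [eq_bot_iff]
    intro u hu
    have h3 := hkU u hu
    rw [one_ap] at h3
    have h4 : (2 : F) • u = 0 := by
      rw [two_smul]
      nth_rewrite 1 [h3]
      exact neg_add_cancel u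
    rw [Submodule.mem_bot]
    exact (smul_eq_zero.1 h4).resolve_left h2
  have h5 : orderOf k = 2 := orderOf_eq_prime (by rw [pow_two, hkk]) hk1
  have h6 : orderOf (⟨k, hkC⟩ : CB ρ f t H U) ∣ Nat.card (CB ρ f t H U) := orderOf_dvd_natCard _
  rwa [Subgroup.orderOf_mk, h5] at h6

/-- **the size of a moved block** -/
theorem big_block (h : Frame ρ f Q π H r t) (hQ : ∀ v, Q (-v) = Q v) {y : K} (hyH : y ∈ H)
    (hy : ∃ k : ℕ, y ^ r ^ k = 1) (hU : U ∈ Bl ρ t H) (hyU : U.map (ρ y) ≠ U) :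
    16 ≤ Nat.card F ^ (finrank F U / 2) ∧ (Odd (Nat.card F) → 29 ≤ Nat.card F ^ (finrank F U / 2)) := by
  have hs := std_of h
  have hS := sx_of_syl hs h.syl
  obtain ⟨m, hm, hc⟩ := block_card hs hS hU
  have hm2 : finrank F U / 2 = m := by omega
  rw [hm2]
  have h1 := r_dvd h hyH hy hU hyU
  have h2 := t_dvd h hU
  have hr3 := h.r3
  have hrt := h.rt
  have hro := odd_of h.two h.rp h.rπ
  have hto := odd_of h.two h.tp h.tπ
  have hcop : Nat.Coprime r t := (Nat.coprime_primes h.rp h.tp).2 hrt.ne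
  have h3 : r * t ∣ Nat.card (CB ρ f t H U) := hcop.mul_dvd_of_dvd_of_dvd h1 h2
  have ht5 : 5 ≤ t := by
    obtain ⟨a, ha⟩ := hro
    obtain ⟨b, hb⟩ := hto
    omega
  have h15 : 15 ≤ r * t := by nlinarith only [hr3, ht5]
  have hpos : 0 < Nat.card (CB ρ f t H U) := Nat.card_pos
  constructor
  · have h4 := Nat.le_of_dvd hpos h3
    have h5 : 14 ≤ Nat.card F ^ m := by omega
    by_contra hcon
    push Not at hcon
    obtain ⟨p, hpc⟩ := CharP.exists F
    have := Fintype.ofFinite F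
    obtain ⟨k, hkp, hk⟩ := FiniteField.card F p
    rw [← Nat.card_eq_fintype_card] at hk
    rw [hk, ← pow_mul] at h5 hcon
    generalize (k : ℕ) * m = e at h5 hcon
    have h6 : p ^ e = 14 ∨ p ^ e = 15 := by omega
    have he0 : e ≠ 0 := by rintro rfl; simp at h5
    rcases h6 with h6 | h6
    · have h7 : 7 ∣ p ^ e := by rw [h6]; norm_num
      have h8 : 2 ∣ p ^ e := by rw [h6]; norm_num
      have h9 := (Nat.prime_dvd_prime_iff_eq (by norm_num) hkp).1 ((by norm_num : Nat.Prime 7).dvd_of_dvd_pow h7)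
      have h10 := (Nat.prime_dvd_prime_iff_eq (by norm_num) hkp).1 ((by norm_num : Nat.Prime 2).dvd_of_dvd_pow h8)
      omega
    · have h7 : 3 ∣ p ^ e := by rw [h6]; norm_num
      have h8 : 5 ∣ p ^ e := by rw [h6]; norm_num
      have h9 := (Nat.prime_dvd_prime_iff_eq (by norm_num) hkp).1 ((by norm_num : Nat.Prime 3).dvd_of_dvd_pow h7)
      have h10 := (Nat.prime_dvd_prime_iff_eq (by norm_num) hkp).1 ((by norm_num : Nat.Prime 5).dvd_of_dvd_pow h8)
      omega
  · intro hodd
    have h20 : (2 : F) ≠ 0 := by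
      intro h0
      obtain ⟨p, hpc⟩ := CharP.exists F
      have := Fintype.ofFinite F
      obtain ⟨k, hkp, hk⟩ := FiniteField.card F p
      rw [← Nat.card_eq_fintype_card] at hk
      have h7 : p ∣ 2 := (CharP.cast_eq_zero_iff F p 2).1 (by exact_mod_cast h0)
      have h8 : p = 2 := (Nat.prime_dvd_prime_iff_eq hkp Nat.prime_two).1 h7
      rw [hk, h8] at hodd
      exact (Nat.not_even_iff_odd.2 hodd) ((Nat.even_pow.2 ⟨even_two, k.ne_zero⟩))
    have h4 := two_dvd h hQ h20 hU
    have h5 : Nat.Coprime 2 (r * t) := Nat.coprime_two_left.2 (hro.mul hto)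
    have h6 := Nat.le_of_dvd hpos (h5.mul_dvd_of_dvd_of_dvd h4 h3)
    omega

/-- **a class of three large blocks** -/
theorem exists_class (h : Frame ρ f Q π H r t) (hQ : ∀ v, Q (-v) = Q v) :
    ∃ J ⊆ bls ρ t H, 3 ≤ J.card ∧ ∀ U ∈ J, 16 ≤ Nat.card F ^ (finrank F U / 2) ∧
      (Odd (Nat.card F) → 29 ≤ Nat.card F ^ (finrank F U / 2)) := by
  classical
  obtain ⟨y, hyH, hy, hyF⟩ := h.mv
  have h1 : ∃ U ∈ Bl ρ t H, U.map (ρ y) ≠ U := by
    by_contra hcon
    push Not at hcon
    exact hyF hcon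
  obtain ⟨U, hU, hyU⟩ := h1
  have hmm : ∀ W : Submodule F V, (W.map (ρ y)).map (ρ y) = W.map (ρ (y * y)) := fun W => by
    rw [map_map]
  have hinj : ∀ W W' : Submodule F V, W.map (ρ y) = W'.map (ρ y) → W = W' := by
    intro W W' hW
    have h2 := congrArg (Submodule.map (ρ y⁻¹)) hW
    rwa [map_map, map_map, inv_mul_cancel, map_one', map_one'] at h2
  have hU1 : U.map (ρ y) ∈ Bl ρ t H := Bl_map hyH hU
  have hU2 : (U.map (ρ y)).map (ρ y) ∈ Bl ρ t H := Bl_map hyH hU1
  have hne1 : (U.map (ρ y)).map (ρ y) ≠ U.map (ρ y) := fun h0 => hyU (hinj _ _ h0)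
  have hne2 : ((U.map (ρ y)).map (ρ y)).map (ρ y) ≠ (U.map (ρ y)).map (ρ y) := fun h0 => hne1 (hinj _ _ h0)
  have hne3 : (U.map (ρ y)).map (ρ y) ≠ U := by
    intro h0
    rw [hmm] at h0
    -- `y ^ 2` generates `⟨y⟩`
    obtain ⟨k, hk⟩ := hy
    have hodd : Odd (r ^ k) := (odd_of h.two h.rp h.rπ).pow
    obtain ⟨a, ha⟩ := hodd
    have h3 : ∀ n : ℕ, U.map (ρ ((y * y) ^ n)) = U := by
      intro n
      induction n with
      | zero => rw [pow_zero, map_one']
      | succ n ih => rw [pow_succ', ← map_map, ih, h0]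
    have h4 := h3 (a + 1)
    have h5 : (y * y) ^ (a + 1) = y := by
      calc (y * y) ^ (a + 1) = y ^ (2 * (a + 1)) := by rw [← pow_two, ← pow_mul]
        _ = y ^ (2 * a + 1) * y := by rw [show 2 * (a + 1) = 2 * a + 1 + 1 by ring, pow_succ]
        _ = y := by rw [← ha, hk, one_mul]
    rw [h5] at h4
    exact hyU h4
  refine ⟨{U, U.map (ρ y), (U.map (ρ y)).map (ρ y)}, ?_, ?_, ?_⟩
  · intro W hW
    rw [mem_bls]
    simp only [Finset.mem_insert, Finset.mem_singleton] at hW
    rcases hW with rfl | rfl | rfl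
    · exact hU
    · exact hU1
    · exact hU2
  · rw [Finset.card_eq_three.2 ⟨U, U.map (ρ y), (U.map (ρ y)).map (ρ y), hyU.symm, hne3.symm, hne1.symm, rfl⟩]
  · intro W hW
    simp only [Finset.mem_insert, Finset.mem_singleton] at hW
    rcases hW with rfl | rfl | rfl
    · exact big_block h hQ hyH hy hU hyU
    · exact big_block h hQ hyH hy hU1 hne1
    · exact big_block h hQ hyH hy hU2 hne2

end Cfsg.Agent.H22.DPi
end
end

-- part: H462/DPK/K
section
set_option linter.all false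
open scoped Cfsg.Agent.FastGrp

/-!
# S4247, counting in a configuration (helper462, task K)
-/

set_option autoImplicit false

namespace Cfsg.Agent.H462.DPK

open Subgroup Cfsg Cfsg.Agent.H988.CPi Cfsg.Agent.H571.RV Cfsg.Agent.H817.DPi

universe u

theorem center_eq_bot {S : Type u} [Group S] [IsSimpleGroup S] (hna : ¬ IsMulCommutative S) :
    center S = ⊥ := by
  rcases (inferInstance : (center S).Normal).eq_bot_or_eq_top with h | h
  · exact h
  · exfalso
    apply hna
    refine ⟨⟨fun a b => ?_⟩⟩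
    have ha : b ∈ center S := by rw [h]; trivial
    exact (mem_center_iff.1 ha a)

theorem conj_injective {S : Type u} [Group S] [IsSimpleGroup S] (hna : ¬ IsMulCommutative S) :
    Function.Injective (MulAut.conj : S →* MulAut S) := by
  rw [injective_iff_map_eq_one]
  intro a ha
  have h1 : a ∈ center S := by
    rw [mem_center_iff]
    intro b
    have h2 : (MulAut.conj a) b = b := by rw [ha]; rfl
    rw [MulAut.conj_apply] at h2
    calc b * a = (a * b * a⁻¹) * a := by rw [h2]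
      _ = a * b := by group
  rw [center_eq_bot hna, mem_bot] at h1
  exact h1

/-- Task K -/
theorem cfg_bound {π : Set ℕ} {S : Type u} [Group S] [Finite S] [IsSimpleGroup S] (hna : ¬ IsMulCommutative S)
    {P : Subgroup S} {K B : Subgroup (MulAut S)} (h : Cfg π P K B) :
    ∃ B' K' : Subgroup S, B' ≠ ⊤ ∧ B'.index ≤ Nat.card P * Nat.card K' * Nat.card (Cfsg.Out S) ∧
      (∀ x ∈ P, ∀ k ∈ K', x * k = k * x) ∧ PiN' π (Nat.card K') := by
  have hinj := conj_injective hna
  have hdvd : ∀ X : Subgroup (MulAut S), Nat.card (X.comap MulAut.conj) ∣ Nat.card X := fun X => by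
    rw [← Subgroup.card_map_of_injective hinj]
    exact Subgroup.card_dvd_of_le (Subgroup.map_comap_le _ _)
  refine ⟨B.comap MulAut.conj, K.comap MulAut.conj, ?_, ?_, ?_, ?_⟩
  · intro htop
    have h1 := hdvd B
    rw [htop, Subgroup.card_top] at h1
    have h2 : Nat.card P ≠ 1 := by
      intro h2
      apply h.nnil
      rw [Subgroup.card_eq_one] at h2
      subst h2
      infer_instance
    obtain ⟨p, hp, hpd⟩ := Nat.exists_prime_and_dvd h2
    exact h.piB p hp (h.hall.1 p hp hpd) ((hpd.trans P.card_subgroup_dvd_card).trans h1)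
  · have h1 : (B.comap MulAut.conj).index ≤ Nat.card P * Nat.card K := by
      have hex : ∀ s : S, ∃ x ∈ P, ∃ k ∈ K, ∃ b ∈ B, MulAut.conj s = MulAut.conj x * k * b := fun s =>
        h.fac _ (Subgroup.mem_sup_right ⟨s, rfl⟩)
      choose x hx k hk b hb hs using hex
      rw [← Nat.card_prod]
      let φ : S ⧸ B.comap MulAut.conj → P × K := fun c => (⟨x c.out, hx _⟩, ⟨k c.out, hk _⟩)
      refine Nat.card_le_card_of_injective φ ?_
      intro c d hcd
      have h2 : x c.out = x d.out := congrArg (fun y : P × K => (y.1 : S)) hcd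
      have h3 : k c.out = k d.out := congrArg (fun y : P × K => (y.2 : MulAut S)) hcd
      rw [← c.out_eq', ← d.out_eq']
      refine QuotientGroup.eq.2 ?_
      rw [Subgroup.mem_comap, map_mul, map_inv, hs c.out, hs d.out, h2, h3]
      have h4 : (MulAut.conj (x d.out) * k d.out * b c.out)⁻¹ * (MulAut.conj (x d.out) * k d.out * b d.out) =
          (b c.out)⁻¹ * b d.out := by group
      rw [h4]
      exact B.mul_mem (B.inv_mem (hb _)) (hb _)
    have h2 : Nat.card K ≤ Nat.card (K.comap MulAut.conj) * Nat.card (Cfsg.Out S) := by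
      have h3 : Nat.card ((inn S).subgroupOf K) * ((inn S).subgroupOf K).index = Nat.card K :=
        ((inn S).subgroupOf K).card_mul_index
      rw [← h3]
      refine Nat.mul_le_mul ?_ ?_
      · have h4 : Nat.card ((inn S).subgroupOf K) = Nat.card (K.comap MulAut.conj) := by
          have h5 : ((inn S).subgroupOf K).map K.subtype = (K.comap MulAut.conj).map MulAut.conj := by
            rw [Subgroup.subgroupOf_map_subtype, Subgroup.map_comap_eq]
            rfl
          rw [← Subgroup.card_map_of_injective K.subtype_injective, h5, Subgroup.card_map_of_injective hinj]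
        exact h4.le
      · have h4 : (inn S).relIndex K ∣ (inn S).index := Subgroup.relIndex_dvd_index_of_normal _ _
        exact Nat.le_of_dvd (Nat.pos_of_ne_zero Subgroup.index_ne_zero_of_finite) h4
    calc (B.comap MulAut.conj).index ≤ Nat.card P * Nat.card K := h1
      _ ≤ Nat.card P * (Nat.card (K.comap MulAut.conj) * Nat.card (Cfsg.Out S)) := Nat.mul_le_mul_left _ h2
      _ = _ := by ring
  · intro x hx k hk
    have h1 : MulAut.conj k x = x := h.fix _ hk x hx
    rw [MulAut.conj_apply] at h1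
    calc x * k = (k * x * k⁻¹) * k := by rw [h1]
      _ = k * x := by group
  · intro p hp hpi hd
    exact h.piK p hp hpi (hd.trans (hdvd K))

end Cfsg.Agent.H462.DPK
end

-- part: H462/DPK/LM
section
set_option linter.all false
open scoped Cfsg.Agent.FastGrp

/-!
# S4247: Hall subgroups above a central extension, a product bound (helper462, tasks L, M)
-/

set_option autoImplicit false

namespace Cfsg.Agent.H462.DPK

open Subgroup Cfsg Cfsg.Agent.H988.CPi

/-- a `π`-group, `2 ∉ π`, has odd order -/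
theorem odd_of_pi {π : Set ℕ} (h2 : 2 ∉ π) {n : ℕ} (h : PiN π n) : Odd n := by
  rw [← Nat.not_even_iff_odd, even_iff_two_dvd]
  exact fun hd => h2 (h 2 Nat.prime_two hd)

/-- Task L -/
theorem exists_hall_over {G G' : Type*} [Group G] [Group G'] [Finite G] (φ : G →* G') (hφ : Function.Surjective φ)
    (hker : ∀ k, φ k = 1 → ∀ x, k * x = x * k) {π : Set ℕ} (h2 : 2 ∉ π) {P : Subgroup G'} (hP : IsPiHall π P) :
    ∃ H : Subgroup G, IsPiHall π H ∧ H.map φ = P := by
  have : Finite G' := Finite.of_surjective φ hφ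
  -- the preimage is solvable
  have hPs : Group.IsSolvable P := S0205.result (odd_of_pi h2 hP.1)
  have hMs : Group.IsSolvable (P.comap φ) := by
    let ψ : P.comap φ →* P := (φ.comp (P.comap φ).subtype).codRestrict P fun x => x.2
    have hk : Group.IsSolvable ψ.ker := by
      have : ∀ a b : ψ.ker, a * b = b * a := by
        intro a b
        apply Subtype.ext
        apply Subtype.ext
        have ha : φ ((a : P.comap φ) : G) = 1 := congrArg Subtype.val (MonoidHom.mem_ker.1 a.2)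
        exact hker _ ha _
      exact Group.isSolvable_of_comm this
    exact Group.isSolvable_of_ker_le_range ψ.ker.subtype ψ (by rw [Subgroup.range_subtype])
  obtain ⟨H, hHM, hH1, hH2⟩ := Cfsg.Agent.OddOrderLocal.HallPi.exists_isPiHallOf hMs π
  have hle : H.map φ ≤ P := by
    rintro _ ⟨x, hx, rfl⟩
    exact hHM hx
  refine ⟨H, ⟨hH1, ?_⟩, ?_⟩
  · intro p hp hpi hd
    rw [← Subgroup.relIndex_mul_index hHM] at hd
    rcases (Nat.Prime.dvd_mul hp).1 hd with h | h
    · exact hH2 p hp hpi h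
    · rw [Subgroup.index_comap_of_surjective _ hφ] at h
      exact hP.2 p hp hpi h
  · -- `|P : φ H|` is a `π`-number and a `π'`-number
    have h3 : (H.map φ).relIndex P ∣ H.relIndex (P.comap φ) := by
      have h4 : (P.comap φ).map φ = P := Subgroup.map_comap_eq_self_of_surjective hφ P
      have h5 : (P.comap φ) ⊔ φ.ker = P.comap φ := sup_eq_left.2 fun x hx => by
        rw [Subgroup.mem_comap, MonoidHom.mem_ker.1 hx]
        exact P.one_mem
      have h6 : (H.map φ).relIndex ((P.comap φ).map φ) = (H ⊔ φ.ker).relIndex ((P.comap φ) ⊔ φ.ker) :=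
        Subgroup.relIndex_map_map φ H (P.comap φ)
      rw [h4, h5] at h6
      rw [h6]
      exact Subgroup.relIndex_dvd_of_le_left _ le_sup_left
    have h5 : (H.map φ).relIndex P = 1 := by
      refine eq_one_of_both (π := π) ?_ ?_
      · exact PiN.of_dvd (show PiN π (Nat.card P) from hP.1) (Subgroup.relIndex_dvd_card _ _)
      · exact PiN'.of_dvd (show PiN' π (H.relIndex (P.comap φ)) from hH2) h3
    exact le_antisymm hle (Subgroup.relIndex_eq_one.1 h5)

/-- Task M -/
theorem card_mul_le {G G' : Type*} [Group G] [Group G'] [Finite G] (φ : G →* G') (hφ : Function.Surjective φ)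
    (hker : ∀ k, φ k = 1 → k * k = 1 ∧ ∀ x, k * x = x * k) {π : Set ℕ} (h2 : 2 ∉ π) {H T : Subgroup G}
    (hH : PiN π (Nat.card H)) (hTH : T ≤ H) {K' : Subgroup G'} (hK' : PiN' π (Nat.card K'))
    (hc : ∀ x ∈ H.map φ, ∀ k ∈ K', x * k = k * x) :
    Nat.card (H.map φ) * Nat.card K' ≤
      (centralizer (T : Set G)).relIndex H * Nat.card (centralizer (T : Set G)) := by
  have : Finite G' := Finite.of_surjective φ hφ
  have hodd := odd_of_pi h2 hH
  -- an element of `H` of order dividing 2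
  have hinv : ∀ x ∈ H, x * x = 1 → x = 1 := by
    intro x hx hxx
    have h3 : x ^ Nat.card H = 1 := by
      have := pow_card_eq_one' (x := (⟨x, hx⟩ : H))
      exact congrArg Subtype.val this
    obtain ⟨k, hk⟩ := hodd
    rw [hk, pow_succ, pow_mul, pow_two, hxx, one_pow, one_mul] at h3
    exact h3
  have hle : centralizer (T : Set G) ⊓ H ≤ H := inf_le_right
  -- lifts of `K'`
  have hlift : ∀ k ∈ K', ∃ g ∈ centralizer (T : Set G), φ g = k := by
    intro k hk
    obtain ⟨g, rfl⟩ := hφ k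
    refine ⟨g, ?_, rfl⟩
    rw [mem_centralizer_iff]
    intro z hz
    have hzH := hTH hz
    -- `c = g z g⁻¹ z⁻¹`
    have h3 : φ (g * z * g⁻¹ * z⁻¹) = 1 := by
      have h4 := hc (φ z) ⟨z, hzH, rfl⟩ _ hk
      rw [map_mul, map_mul, map_mul, map_inv, map_inv, ← h4]
      group
    obtain ⟨h5, h6⟩ := hker _ h3
    obtain ⟨c, hcdef⟩ : ∃ c, c = g * z * g⁻¹ * z⁻¹ := ⟨_, rfl⟩
    rw [← hcdef] at h5 h6
    have h7 : g * z * g⁻¹ = c * z := by rw [hcdef]; group
    have h8 : (g * z * g⁻¹) ^ Nat.card H = 1 := by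
      have h9 : z ^ Nat.card H = 1 := by
        have := pow_card_eq_one' (x := (⟨z, hzH⟩ : H))
        exact congrArg Subtype.val this
      rw [conj_pow, h9]
      group
    have h10 : c ^ Nat.card H = 1 := by
      have h9 : z ^ Nat.card H = 1 := by
        have := pow_card_eq_one' (x := (⟨z, hzH⟩ : H))
        exact congrArg Subtype.val this
      rw [h7, (show Commute c z from h6 z).mul_pow, h9, mul_one] at h8
      exact h8
    have h11 : c = 1 := by
      obtain ⟨k, hk⟩ := hodd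
      rw [hk, pow_succ, pow_mul, pow_two, h5, one_pow, one_mul] at h10
      exact h10
    rw [h11, one_mul] at h7
    calc z * g = (g * z * g⁻¹) * g := by rw [h7]
      _ = g * z := by group
  -- the injection
  have key : Nat.card (centralizer (T : Set G) ⊓ H : Subgroup G) * Nat.card K' ≤
      Nat.card (centralizer (T : Set G)) := by
    choose lft hl1 hl2 using hlift
    rw [← Nat.card_prod]
    let ψ : (centralizer (T : Set G) ⊓ H : Subgroup G) × K' → (centralizer (T : Set G)).map φ := fun c =>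
      ⟨φ c.1 * c.2, mul_mem ⟨c.1, c.1.2.1, rfl⟩ ⟨lft c.2 c.2.2, hl1 _ _, hl2 _ _⟩⟩
    have hψ : Function.Injective ψ := by
      rintro ⟨⟨a, ha⟩, ⟨b, hb⟩⟩ ⟨⟨a', ha'⟩, ⟨b', hb'⟩⟩ h
      have h3 : φ a * b = φ a' * b' := congrArg Subtype.val h
      have h4 : φ (a'⁻¹ * a) = b' * b⁻¹ := by
        rw [map_mul, map_inv]
        calc (φ a')⁻¹ * φ a = (φ a')⁻¹ * (φ a * b) * b⁻¹ := by group
          _ = (φ a')⁻¹ * (φ a' * b') * b⁻¹ := by rw [h3]
          _ = b' * b⁻¹ := by group
      have h5 : a'⁻¹ * a ∈ H := H.mul_mem (H.inv_mem ha'.2) ha.2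
      have h6 : φ (a'⁻¹ * a) = 1 := by
        rw [← orderOf_eq_one_iff]
        refine eq_one_of_both (π := π) ?_ ?_
        · refine PiN.of_dvd hH ((orderOf_map_dvd φ _).trans ?_)
          rw [← Subgroup.orderOf_mk _ h5]
          exact orderOf_dvd_natCard _
        · refine PiN'.of_dvd hK' ?_
          have h7 : φ (a'⁻¹ * a) ∈ K' := by rw [h4]; exact K'.mul_mem hb' (K'.inv_mem hb)
          rw [← Subgroup.orderOf_mk _ h7]
          exact orderOf_dvd_natCard _
      have h7 : a'⁻¹ * a = 1 := hinv _ h5 (hker _ h6).1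
      have h8 : a = a' := by
        calc a = a' * (a'⁻¹ * a) := by group
          _ = a' := by rw [h7, mul_one]
      subst h8
      have h9 : b = b' := mul_left_cancel h3
      subst h9
      rfl
    calc Nat.card ((centralizer (T : Set G) ⊓ H : Subgroup G) × K') ≤
          Nat.card ((centralizer (T : Set G)).map φ) := Nat.card_le_card_of_injective ψ hψ
      _ ≤ Nat.card (centralizer (T : Set G)) :=
        Nat.card_le_card_of_surjective (φ.subgroupMap (centralizer (T : Set G))) (φ.subgroupMap_surjective _)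
  have h3 : Nat.card (H.map φ) ≤ Nat.card H :=
    Nat.card_le_card_of_surjective (φ.subgroupMap H) (φ.subgroupMap_surjective _)
  have h4 : (centralizer (T : Set G)).relIndex H * Nat.card (centralizer (T : Set G) ⊓ H : Subgroup G) =
      Nat.card H := by
    rw [← Subgroup.inf_relIndex_right, mul_comm, ← Subgroup.relIndex_bot_left, ← Subgroup.relIndex_bot_left (H := H)]
    exact Subgroup.relIndex_mul_relIndex _ _ _ bot_le hle
  calc Nat.card (H.map φ) * Nat.card K' ≤ Nat.card H * Nat.card K' := Nat.mul_le_mul_right _ h3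
    _ = (centralizer (T : Set G)).relIndex H *
        (Nat.card (centralizer (T : Set G) ⊓ H : Subgroup G) * Nat.card K') := by rw [← h4]; ring
    _ ≤ _ := Nat.mul_le_mul_left _ key

end Cfsg.Agent.H462.DPK
end

-- part: H602/DPO/Perm
section
set_option linter.all false
open scoped Cfsg.Agent.FastGrp

/-!
# S4247, row `POmega`: the action on the blocks (helper602)
-/

set_option autoImplicit false
set_option linter.unusedSectionVars false

namespace Cfsg.Agent.H602.DPO

open Module Subgroup Cfsg Cfsg.Agent.H167.OP Cfsg.Agent.H170.HL Cfsg.Agent.H988.CPi Cfsg.Agent.H560.HallKey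
  Cfsg.Agent.H553.OddHall Cfsg.Agent.H571.RV Cfsg.Agent.H572.RV Cfsg.Agent.H602.DP Cfsg.Agent.H969.DPi

theorem sq_le_three_pow {r : ℕ} (hr : 3 ≤ r) : r ^ 2 ≤ 3 ^ (r - 1) := by
  obtain ⟨s, rfl⟩ : ∃ s, r = s + 3 := ⟨r - 3, by omega⟩
  induction s with
  | zero => norm_num
  | succ s ih =>
    have h1 := ih (by omega)
    have h2 : s + 1 + 3 - 1 = (s + 3 - 1) + 1 := by omega
    rw [h2, pow_succ (3 : ℕ)]
    have h3 : (s + 1 + 3) ^ 2 ≤ 3 * (s + 3) ^ 2 := by nlinarith
    omega

/-- Legendre -/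
theorem pow_sq_le {r w a : ℕ} (hr : r.Prime) (hr3 : 3 ≤ r) (h : r ^ w ∣ a.factorial) : (r ^ w) ^ 2 ≤ 3 ^ (a - 1) := by
  have hrf := Fact.mk hr
  have h1 := sub_one_mul_padicValNat_factorial (p := r) a
  have h2 : w ≤ padicValNat r a.factorial :=
    (padicValNat_dvd_iff_le (Nat.factorial_ne_zero a)).mp h
  have h3 : (r - 1) * w ≤ a - 1 := by
    rcases Nat.eq_zero_or_pos a with rfl | ha
    · have h4 : w = 0 := by
        by_contra hw
        have h5 : r ∣ Nat.factorial 0 := (dvd_pow_self r hw).trans h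
        rw [Nat.factorial_zero, Nat.dvd_one] at h5
        omega
      rw [h4, mul_zero]; exact Nat.zero_le _
    · have h4 : 1 ≤ (Nat.digits r a).sum := by
        by_contra hcon
        have h5 : (Nat.digits r a).sum = 0 := by omega
        have h6 : a = 0 := by
          have h7 : ∀ x ∈ Nat.digits r a, x = 0 := List.sum_eq_zero_iff.mp h5
          rw [← Nat.ofDigits_digits r a]
          generalize Nat.digits r a = l at h7
          induction l with
          | nil => rfl
          | cons b l ih =>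
            rw [Nat.ofDigits_cons, ih (fun x hx => h7 x (List.mem_cons_of_mem _ hx)), h7 b List.mem_cons_self]
            simp
        omega
      have h5 : (r - 1) * w ≤ (r - 1) * padicValNat r a.factorial := Nat.mul_le_mul_left _ h2
      omega
  calc (r ^ w) ^ 2 = (r ^ 2) ^ w := by rw [← pow_mul, ← pow_mul, mul_comm]
    _ ≤ (3 ^ (r - 1)) ^ w := Nat.pow_le_pow_left (sq_le_three_pow hr3) w
    _ = 3 ^ ((r - 1) * w) := by rw [← pow_mul]
    _ ≤ 3 ^ (a - 1) := Nat.pow_le_pow_right (by norm_num) h3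

variable {F : Type*} [Field F] [Finite F] {V : Type*} [AddCommGroup V] [Module F V] [Finite V]
  [FiniteDimensional F V] {K : Type*} [Group K] [Finite K]
  {ρ : Representation F K V} {f : V →ₗ[F] V →ₗ[F] F} {Q : V → F} {π : Set ℕ} {H : Subgroup K} {r t : ℕ}

/-- the action of `H` on the blocks -/
def actBl (ρ : Representation F K V) (t : ℕ) (H : Subgroup K) : H →* Equiv.Perm (Bl ρ t H) where
  toFun g :=
    { toFun := fun U => ⟨(U : Submodule F V).map (ρ (g : K)), Bl_map g.2 U.2⟩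
      invFun := fun U => ⟨(U : Submodule F V).map (ρ (g : K)⁻¹), Bl_map (H.inv_mem g.2) U.2⟩
      left_inv := fun U => by
        apply Subtype.ext
        show ((U : Submodule F V).map (ρ (g : K))).map (ρ (g : K)⁻¹) = U
        rw [Cfsg.Agent.H572.RV.map_map, inv_mul_cancel, map_one']
      right_inv := fun U => by
        apply Subtype.ext
        show ((U : Submodule F V).map (ρ (g : K)⁻¹)).map (ρ (g : K)) = U
        rw [Cfsg.Agent.H572.RV.map_map, mul_inv_cancel, map_one'] }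
  map_one' := by
    ext1 U
    apply Subtype.ext
    exact map_one' _
  map_mul' := fun a b => by
    ext1 U
    apply Subtype.ext
    show (U : Submodule F V).map (ρ ((a : K) * b)) = ((U : Submodule F V).map (ρ (b : K))).map (ρ (a : K))
    rw [Cfsg.Agent.H572.RV.map_map]

theorem ker_actBl : (actBl ρ t H).ker = (FB ρ t H).subgroupOf H := by
  ext g
  rw [MonoidHom.mem_ker, Subgroup.mem_subgroupOf]
  constructor
  · intro h U hU
    exact congrArg Subtype.val (DFunLike.congr_fun h ⟨U, hU⟩)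
  · intro h
    ext1 U
    apply Subtype.ext
    exact h U U.2

theorem card_bls : (bls ρ t H).card = Nat.card (Bl ρ t H) := by
  rw [bls, ← Set.ncard_eq_toFinset_card _ (Set.toFinite _)]
  rfl

theorem relIndex_dvd : (FB ρ t H).relIndex H ∣ (bls ρ t H).card.factorial := by
  classical
  have hf : Finite (Bl ρ t H) := Set.toFinite _
  have h1 : (FB ρ t H).relIndex H = Nat.card (actBl ρ t H).range := by
    rw [Subgroup.relIndex, ← ker_actBl, Subgroup.index_ker]
  rw [h1, card_bls, ← Nat.card_perm]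
  exact Subgroup.card_subgroup_dvd_card _

/-- **`|H/H₀| ^ 2 ≤ 3 ^ (a - 1)`** -/
theorem relIndex_sq_le (h : Frame ρ f Q π H r t) : (FB ρ t H).relIndex H ^ 2 ≤ 3 ^ ((bls ρ t H).card - 1) := by
  have h0 : (FB ρ t H).relIndex H ≠ 0 := ne_zero_of_dvd_ne_zero Nat.card_pos.ne' (Subgroup.relIndex_dvd_card _ _)
  have h1 := Nat.eq_prime_pow_of_unique_prime_dvd h0 (fun {d} hd hdv => h.rgrp d hd hdv)
  have h2 := relIndex_dvd (ρ := ρ) (t := t) (H := H)
  rw [h1] at h2 ⊢
  exact pow_sq_le h.rp h.r3 h2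

theorem cent_relIndex_le (h : Frame ρ f Q π H r t) :
    (centralizer (Subgroup.closure (Zs ρ t H) : Set K)).relIndex H ≤ (FB ρ t H).relIndex H := by
  have h1 : FB ρ t H ⊓ H ≤ centralizer (Subgroup.closure (Zs ρ t H) : Set K) := by
    rintro x ⟨hx, hxH⟩
    rw [Subgroup.mem_centralizer_iff]
    intro z hz
    exact (h.cent x hxH hx z hz).symm
  have h2 : (centralizer (Subgroup.closure (Zs ρ t H) : Set K)).relIndex H ∣ (FB ρ t H ⊓ H).relIndex H :=
    Subgroup.relIndex_dvd_of_le_left H h1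
  rw [Subgroup.inf_relIndex_right] at h2
  have h0 : (FB ρ t H).relIndex H ≠ 0 := ne_zero_of_dvd_ne_zero Nat.card_pos.ne' (Subgroup.relIndex_dvd_card _ _)
  exact Nat.le_of_dvd (Nat.pos_of_ne_zero h0) h2

theorem five_le (h : Frame ρ f Q π H r t) : 5 ≤ t := by
  have h1 := h.rt
  have h3 := h.r3
  obtain ⟨a, ha⟩ := (ts_of h).hto
  omega

/-- `q ^ (dim U / 2) ≥ 4` for every block -/
theorem four_le (h : Frame ρ f Q π H r t) (hsym : ∀ x y, f x y = f y x) {U : Submodule F V} (hU : U ∈ Bl ρ t H) :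
    4 ≤ Nat.card F ^ (finrank F U / 2) := by
  have hts := ts_of h
  have h1 := Cfsg.Agent.H735.DP.dvd_of_mn hts (fun U hU u hu hi c hc => eigen hts hU hu hi hc) (mn_of h hU)
  obtain ⟨m, hm⟩ := even_bl h hsym hU
  have h2 : finrank F U / 2 = m := by omega
  rw [h2]
  have h3 : finrank F U = m + m := hm
  rw [h3] at h1
  have h5 := five_le h
  have hq : 2 ≤ Nat.card F := Finite.one_lt_card
  have hm0 : m ≠ 0 := by
    rintro rfl
    have h4 : U = ⊥ := Submodule.finrank_eq_zero.mp h3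
    exact (std_of h).bl_ne_bot hU h4
  have hqm : 2 ≤ Nat.card F ^ m := hq.trans (Nat.le_self_pow hm0 _)
  have h6 : Nat.card F ^ (m + m) - 1 = (Nat.card F ^ m + 1) * (Nat.card F ^ m - 1) := by
    rw [pow_add]
    generalize Nat.card F ^ m = x at *
    obtain ⟨y, rfl⟩ : ∃ y, x = y + 1 := ⟨x - 1, by omega⟩
    rw [Nat.add_sub_cancel]
    have : (y + 1) * (y + 1) = (y + 1 + 1) * y + 1 := by ring
    rw [this, Nat.add_sub_cancel]
  rw [h6, h.tp.dvd_mul] at h1
  rcases h1 with h1 | h1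
  · have := Nat.le_of_dvd (by omega) h1
    omega
  · have := Nat.le_of_dvd (by omega) h1
    omega

end Cfsg.Agent.H602.DPO
end

-- part: H159/DPi/CfgT
section
set_option linter.all false
open scoped Cfsg.Agent.FastGrp

/-!
# S4247: consequences of the configuration `Cfg`, transport (helper159)
-/

set_option autoImplicit false
set_option linter.unusedSectionVars false

namespace Cfsg.Agent.H159.DPi

open Subgroup Cfsg Cfsg.Agent.H988.CPi Cfsg.Agent.H571.RV Cfsg.Agent.H817.DPi

universe u v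

variable {π : Set ℕ}

section

variable {G : Type u} [Group G] [Finite G] {P : Subgroup G} {K B : Subgroup (MulAut G)} (h : Cfg π P K B)

instance finite_mulAut : Finite (MulAut G) := Finite.of_injective (fun (g : G ≃* G) => (g : G → G)) DFunLike.coe_injective

include h

theorem Cfg.fac' (s : G) : ∃ x ∈ P, ∃ k ∈ K, ∃ b ∈ B, MulAut.conj s = MulAut.conj x * k * b :=
  h.fac _ ((le_sup_right : inn G ≤ B ⊔ inn G) ⟨s, rfl⟩)

/-- the index of `B ∩ S` -/
theorem Cfg.index_le : (B.comap (MulAut.conj : G →* MulAut G)).index ≤ Nat.card P * Nat.card K := by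
  classical
  have h1 : ∀ y : G ⧸ B.comap (MulAut.conj : G →* MulAut G), ∃ a : P × K, ∃ b ∈ B,
      MulAut.conj y.out = MulAut.conj (a.1 : G) * (a.2 : MulAut G) * b := by
    intro y
    obtain ⟨x, hx, k, hk, b, hb, e⟩ := Cfg.fac' h y.out
    exact ⟨(⟨x, hx⟩, ⟨k, hk⟩), b, hb, e⟩
  choose a b hb e using h1
  have h2 : Function.Injective a := by
    intro y y' hyy
    have h3 : (y.out)⁻¹ * y'.out ∈ B.comap (MulAut.conj : G →* MulAut G) := by
      rw [mem_comap, map_mul, map_inv, e, e, hyy]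
      have : (MulAut.conj ((a y').1 : G) * ((a y').2 : MulAut G) * b y)⁻¹ *
          (MulAut.conj ((a y').1 : G) * ((a y').2 : MulAut G) * b y') = (b y)⁻¹ * b y' := by group
      rw [this]
      exact mul_mem (inv_mem (hb y)) (hb y')
    rw [← QuotientGroup.eq, QuotientGroup.out_eq', QuotientGroup.out_eq'] at h3
    exact h3
  have h3 := Nat.card_le_card_of_injective a h2
  rw [Nat.card_prod] at h3
  exact h3

/-- `B ∩ S` is a `π'`-group -/
theorem Cfg.pi' (hc : Subgroup.center G = ⊥) : PiN' π (Nat.card (B.comap (MulAut.conj : G →* MulAut G))) := by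
  have h1 : Function.Injective (MulAut.conj : G →* MulAut G) := by
    rw [← MonoidHom.ker_eq_bot_iff, eq_bot_iff, ← hc]
    intro g hg
    rw [Subgroup.mem_center_iff]
    intro x
    have h2 : g * x * g⁻¹ = x := DFunLike.congr_fun (MonoidHom.mem_ker.1 hg) x
    exact (mul_inv_eq_iff_eq_mul.1 h2).symm
  exact fun p hp hpπ hd => h.piB p hp hpπ (hd.trans (Subgroup.card_comap_dvd_of_injective B _ h1))

omit [Finite G] in
theorem Cfg.ne_bot : P ≠ ⊥ := by
  rintro rfl
  exact h.nnil inferInstance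

theorem Cfg.ne_top (hc : Subgroup.center G = ⊥) : B.comap (MulAut.conj : G →* MulAut G) ≠ ⊤ := by
  intro ht
  have h1 := Cfg.pi' h hc
  rw [ht, Subgroup.card_top] at h1
  have h2 : Nat.card P ≠ 1 := fun h0 => Cfg.ne_bot h (Subgroup.eq_bot_of_card_eq P h0)
  obtain ⟨p, hp, hd⟩ := Nat.exists_prime_and_dvd h2
  exact h1 p hp (h.hall.1 p hp hd) (hd.trans (Subgroup.card_subgroup_dvd_card P))

theorem Cfg.index_of_bot (hc : Subgroup.center G = ⊥) (hK : K = ⊥) :
    (B.comap (MulAut.conj : G →* MulAut G)).index = Nat.card P := by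
  refine le_antisymm ?_ ?_
  · have h1 := Cfg.index_le h
    rw [hK, Subgroup.card_bot, mul_one] at h1
    exact h1
  · have h1 : Disjoint P (B.comap (MulAut.conj : G →* MulAut G)) := by
      apply Subgroup.disjoint_of_coprime_natCard
      by_contra hcop
      obtain ⟨p, hp, h2, h3⟩ := Nat.Prime.not_coprime_iff_dvd.1 hcop
      exact Cfg.pi' h hc p hp (h.hall.1 p hp h2) h3
    have h2 : Function.Injective (fun x : P => ((x : G) : G ⧸ B.comap (MulAut.conj : G →* MulAut G))) := by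
      intro x y hxy
      have h3 : (x : G)⁻¹ * y ∈ B.comap (MulAut.conj : G →* MulAut G) := QuotientGroup.eq.1 hxy
      have h4 : (x : G)⁻¹ * y ∈ P := mul_mem (inv_mem x.2) y.2
      have h5 := Subgroup.disjoint_def.1 h1 h4 h3
      exact Subtype.ext (inv_mul_eq_one.1 h5)
    exact Nat.card_le_card_of_injective _ h2

end

/-- transport along an isomorphism -/
theorem Cfg.congr {G : Type u} {G' : Type v} [Group G] [Group G'] [Finite G] [Finite G'] (e : G ≃* G')
    {P : Subgroup G} {K B : Subgroup (MulAut G)} (h : Cfg π P K B) :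
    Cfg π (P.map (e : G →* G')) (K.map (MulAut.congr e : MulAut G →* MulAut G'))
      (B.map (MulAut.congr e : MulAut G →* MulAut G')) := by
  have hinn : (inn G).map (MulAut.congr e : MulAut G →* MulAut G') = inn G' := by
    ext a
    constructor
    · rintro ⟨_, ⟨s, rfl⟩, rfl⟩
      refine ⟨e s, MulEquiv.ext fun x => ?_⟩
      show e s * x * (e s)⁻¹ = e (s * e.symm x * s⁻¹)
      rw [map_mul, map_mul, e.apply_symm_apply, map_inv]
    · rintro ⟨s, rfl⟩
      refine ⟨MulAut.conj (e.symm s), ⟨_, rfl⟩, MulEquiv.ext fun x => ?_⟩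
      show e (e.symm s * e.symm x * (e.symm s)⁻¹) = s * x * s⁻¹
      rw [map_mul, map_mul, e.apply_symm_apply, e.apply_symm_apply, map_inv, e.apply_symm_apply]
  have hcP : Nat.card (P.map (e : G →* G')) = Nat.card P :=
    Subgroup.card_map_of_injective e.injective
  have hcK : Nat.card (K.map (MulAut.congr e : MulAut G →* MulAut G')) = Nat.card K :=
    Subgroup.card_map_of_injective (MulAut.congr e).injective
  have hcB : Nat.card (B.map (MulAut.congr e : MulAut G →* MulAut G')) = Nat.card B :=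
    Subgroup.card_map_of_injective (MulAut.congr e).injective
  refine ⟨h.two, ⟨?_, ?_⟩, ?_, ?_, ?_, ?_, ?_, ?_⟩
  · rw [hcP]
    exact h.hall.1
  · have h1 : (P.map (e : G →* G')).index = P.index := Subgroup.index_map_equiv P e
    rw [h1]
    exact h.hall.2
  · intro h1
    apply h.nnil
    exact Group.nilpotent_of_mulEquiv (P.equivMapOfInjective (e : G →* G') e.injective).symm
  · rw [hcK]
    exact h.piK
  · rw [hcB]
    exact h.piB
  · rintro _ ⟨k, hk, rfl⟩ _ ⟨x, hx, rfl⟩
    show e (k (e.symm (e x))) = e x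
    rw [e.symm_apply_apply, h.fix k hk x hx]
  · rw [← hinn, ← Subgroup.map_sup, ← Subgroup.map_sup, h.sup]
  · rintro g hg
    rw [← hinn, ← Subgroup.map_sup] at hg
    obtain ⟨g, hg, rfl⟩ := hg
    obtain ⟨x, hx, k, hk, b, hb, e1⟩ := h.fac g hg
    refine ⟨e x, ⟨x, hx, rfl⟩, _, ⟨k, hk, rfl⟩, _, ⟨b, hb, rfl⟩, ?_⟩
    rw [e1, map_mul, map_mul]
    congr 2
    refine MulEquiv.ext fun y => ?_
    show e (x * e.symm y * x⁻¹) = e x * y * (e x)⁻¹
    rw [map_mul, map_mul, e.apply_symm_apply, map_inv]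

end Cfsg.Agent.H159.DPi
end

-- part: H602/DPO/CaseC
section
set_option linter.all false
open scoped Cfsg.Agent.FastGrp

/-!
# S4247, row `POmega`: the case `dim C_V(T) ≤ 2` (helper602)
-/

set_option autoImplicit false
set_option linter.unusedSectionVars false

namespace Cfsg.Agent.H602.DPO

open Module Subgroup Cfsg Cfsg.Agent.H167.OP Cfsg.Agent.H170.HL Cfsg.Agent.H988.CPi Cfsg.Agent.H560.HallKey
  Cfsg.Agent.H553.OddHall Cfsg.Agent.H571.RV Cfsg.Agent.H572.RV Cfsg.Agent.H602.DP Cfsg.Agent.H969.DPi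
  Cfsg.Agent.H817.DPi

universe u

variable {F : Type*} [Field F] [Finite F] {V : Type*} [AddCommGroup V] [Module F V] [Finite V]
  [FiniteDimensional F V] {K : Type*} [Group K] [Finite K]
  {ρ : Representation F K V} {f : V →ₗ[F] V →ₗ[F] F} {Q : V → F} {π : Set ℕ} {H : Subgroup K} {r t : ℕ}

/-- `C_V(T)` is nondegenerate -/
theorem nd_fix (h : Frame ρ f Q π H r t) : ND f (Orth f (WB ρ t H)) := by
  have h1 : ND f (⊤ : Submodule F V) := fun u _ hx => h.nd u fun y => hx y trivial
  have h2 := Cfsg.Agent.H735.DP.nd_compl (U := ⊤) le_top (std_of h).nd_WB h1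
  rwa [top_inf_eq] at h2

/-- `C(T)` preserves `C_V(T)` -/
theorem fix_inv (h : Frame ρ f Q π H r t) : ∀ u ∈ centralizer (Subgroup.closure (Zs ρ t H) : Set K),
    ∀ x ∈ Orth f (WB ρ t H), ρ u x ∈ Orth f (WB ρ t H) := by
  intro u hu x hx
  have h1 := (mem_Orth_CV h.toIsoG).mp hx
  refine (mem_Orth_CV h.toIsoG).mpr ?_
  intro z hz
  have h2 := Subgroup.mem_centralizer_iff.mp hu z hz
  rw [← mul_ap, h2, mul_ap, h1 z hz]

/-- the large blocks -/
def Big (ρ : Representation F K V) (t : ℕ) (H : Subgroup K) : Prop :=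
  ∃ J ⊆ bls ρ t H, 3 ≤ J.card ∧ ∀ U ∈ J, 16 ≤ Nat.card F ^ (finrank F U / 2) ∧
    (Odd (Nat.card F) → 29 ≤ Nat.card F ^ (finrank F U / 2))

/-- the bound for a frame -/
def OBS (S : Type u) [Group S] (q N : ℕ) : Prop :=
  ∀ (ι : Type) [Fintype ι] (m : ι → ℕ) (_ : ∀ i, 4 ≤ q ^ m i) (J : Finset ι) (_ : 3 ≤ J.card)
    (_ : ∀ i ∈ J, 16 ≤ q ^ m i) (_ : Odd q → ∀ i ∈ J, 29 ≤ q ^ m i) (h δ c : ℕ)
    (_ : h ^ 2 ≤ 3 ^ (Fintype.card ι - 1)) (_ : N = 2 * ∑ i, m i + δ) (_ : δ ≤ 2) (_ : δ = 0 → c ≤ 1)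
    (_ : δ = 1 → c ≤ 2) (_ : δ = 2 → c ≤ 2 * (q + 1)) (H : Subgroup S), H ≠ ⊤ →
    h * (∏ i, (q ^ m i + 1)) * (c * Nat.card (Cfsg.Out S)) < H.index

/-- **case C** -/
theorem caseC {S : Type u} [Group S] [Finite S] [IsSimpleGroup S] (hna : ¬ IsMulCommutative S)
    {F : Type} [Field F] [Finite F] {ι : Type} [Fintype ι] [DecidableEq ι] {Q : QuadraticForm F (ι → F)}
    (φ : Cfsg.Omega F (⇑Q) →* S) (hφ : Function.Surjective φ)
    (hker : ∀ k, φ k = 1 → k * k = 1 ∧ ∀ x, k * x = x * k)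
    {P : Subgroup S} {K B : Subgroup (MulAut S)} (hC : Cfg π P K B)
    {Y : Subgroup (Cfsg.Omega F (⇑Q))} (hY : IsPiHall π Y) (hYP : Y.map φ = P)
    (h : Frame (rep (OmRow.inc' (⇑Q))) (QuadraticMap.polarBilin Q) (⇑Q) π (Y.map (Cfsg.Omega F (⇑Q)).subtype) r t)
    (hd : finrank F (Orth (QuadraticMap.polarBilin Q)
      (WB (rep (OmRow.inc' (⇑Q))) t (Y.map (Cfsg.Omega F (⇑Q)).subtype))) ≤ 2)
    (hJ : Big (rep (OmRow.inc' (⇑Q))) t (Y.map (Cfsg.Omega F (⇑Q)).subtype))
    (hOB : OBS S (Nat.card F) (Fintype.card ι)) : False := by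
  classical
  set ρ := rep (OmRow.inc' (⇑Q)) with hρ
  set f := QuadraticMap.polarBilin Q with hf
  set H := Y.map (Cfsg.Omega F (⇑Q)).subtype with hH
  set T := Subgroup.closure (Zs ρ t H) with hTd
  have hfin : Finite (Cfsg.isometryGroup F (⇑Q)) := inferInstance
  have hsym : ∀ x y, f x y = f y x := fun x y => polar_symm' x y
  have hTH : T ≤ H := closure_le_H
  have hHO : H ≤ Cfsg.Omega F (⇑Q) := Subgroup.map_subtype_le _
  have hTO : T ≤ Cfsg.Omega F (⇑Q) := hTH.trans hHO
  obtain ⟨B', K', hB', hidx, hPK, hK'⟩ := Cfsg.Agent.H462.DPK.cfg_bound hna hC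
  -- `T` in `Omega`
  set T' := T.subgroupOf (Cfsg.Omega F (⇑Q)) with hT'
  have hT'Y : T' ≤ Y := by
    intro x hx
    obtain ⟨y, hy, hyx⟩ := hTH (Subgroup.mem_subgroupOf.mp hx)
    rwa [← Subtype.ext (show (y : Cfsg.isometryGroup F (⇑Q)) = x from hyx)]
  have hcent : centralizer (T' : Set (Cfsg.Omega F (⇑Q))) = (centralizer (T : Set (Cfsg.isometryGroup F (⇑Q)))).subgroupOf _ := by
    ext x
    rw [Subgroup.mem_subgroupOf, Subgroup.mem_centralizer_iff, Subgroup.mem_centralizer_iff]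
    constructor
    · intro hx z hz
      exact congrArg Subtype.val (hx ⟨z, hTO hz⟩ (Subgroup.mem_subgroupOf.mpr hz))
    · intro hx z hz
      exact Subtype.ext (hx z (Subgroup.mem_subgroupOf.mp hz))
  have h1 := Cfsg.Agent.H462.DPK.card_mul_le φ hφ hker hC.two hY.1 hT'Y hK' (by rw [hYP]; exact hPK)
  rw [hYP, hcent] at h1
  have h2 : ((centralizer (T : Set (Cfsg.isometryGroup F (⇑Q)))).subgroupOf (Cfsg.Omega F (⇑Q))).relIndex Y =
      (centralizer (T : Set (Cfsg.isometryGroup F (⇑Q)))).relIndex H := by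
    rw [hH, ← Subgroup.relIndex_comap]; rfl
  rw [h2] at h1
  have h3 : Nat.card ((centralizer (T : Set (Cfsg.isometryGroup F (⇑Q)))).subgroupOf (Cfsg.Omega F (⇑Q))) ≤ Nat.card (centralizer (T : Set (Cfsg.isometryGroup F (⇑Q)))) := by
    rw [← Subgroup.card_map_of_injective (Cfsg.Omega F (⇑Q)).subtype_injective]
    refine Nat.card_mono (Set.toFinite _) ?_
    rintro _ ⟨x, hx, rfl⟩
    exact hx
  have h4 := card_cent_le h
  have h5 := cent_relIndex_le h
  have h6 := relIndex_sq_le h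
  have h7 := sum_finrank h
  set δ := finrank F (Orth f (WB ρ t H)) with hδ
  set c := cnt ρ T (Orth f (WB ρ t H)) with hc
  set q := Nat.card F with hq
  have hbound : Nat.card P * Nat.card K' ≤
      (FB ρ t H).relIndex H * ((∏ U ∈ bls ρ t H, (q ^ (finrank F U / 2) + 1)) * c) :=
    h1.trans (Nat.mul_le_mul h5 (h3.trans h4))
  -- the numbers
  have hev : ∀ U ∈ bls ρ t H, 2 * (finrank F U / 2) = finrank F U := by
    intro U hU
    obtain ⟨a, ha⟩ := even_bl h hsym (mem_bls.mp hU)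
    omega
  obtain ⟨J, hJs, hJ3, hJb⟩ := hJ
  have hN : Fintype.card ι = 2 * ∑ U : {U // U ∈ bls ρ t H}, (finrank F (U : Submodule F (ι → F)) / 2) + δ := by
    rw [Finset.sum_coe_sort (bls ρ t H) (fun U => finrank F U / 2), Finset.mul_sum, Finset.sum_congr rfl hev, h7,
      Module.finrank_fintype_fun_eq_card]
  have hprod : ∏ U : {U // U ∈ bls ρ t H}, (q ^ (finrank F (U : Submodule F (ι → F)) / 2) + 1) =
      ∏ U ∈ bls ρ t H, (q ^ (finrank F U / 2) + 1) :=
    Finset.prod_coe_sort (bls ρ t H) (fun U => q ^ (finrank F U / 2) + 1)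
  have hlt := hOB {U // U ∈ bls ρ t H} (fun U => finrank F (U : Submodule F (ι → F)) / 2)
    (fun U => four_le h hsym (mem_bls.mp U.2)) (J.subtype (fun U => U ∈ bls ρ t H))
    (by
      rw [Finset.card_subtype, Finset.filter_true_of_mem fun U hU => hJs hU]
      exact hJ3)
    (fun U hU => (hJb U (Finset.mem_subtype.mp hU)).1)
    (fun ho U hU => (hJb U (Finset.mem_subtype.mp hU)).2 ho)
    ((FB ρ t H).relIndex H) δ c (by
      rw [Fintype.card_coe]
      exact h6) hN hd
    (fun h0 => cnt_zero h0)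
    (fun h0 => cnt_one (fun g v => h.isoQ g v) (nd_fix h) h0 (fix_inv h))
    (fun h0 => cnt_two (fun g v => h.isoQ g v) (nd_fix h) h0 (fix_inv h)) B' hB'
  rw [hprod] at hlt
  have h8 := hidx.trans (Nat.mul_le_mul_right _ hbound)
  have h9 : (FB ρ t H).relIndex H * ((∏ U ∈ bls ρ t H, (q ^ (finrank F U / 2) + 1)) * c) * Nat.card (Cfsg.Out S) =
      (FB ρ t H).relIndex H * (∏ U ∈ bls ρ t H, (q ^ (finrank F U / 2) + 1)) * (c * Nat.card (Cfsg.Out S)) := by
    ring
  rw [h9] at h8
  omega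

end Cfsg.Agent.H602.DPO
end

-- part: H602/DPO/Parts
section
set_option linter.all false
open scoped Cfsg.Agent.FastGrp

/-!
# S4247, row `POmega`: the part on `[V, T]` of an element which moves a block (helper602)
-/

set_option autoImplicit false
set_option linter.unusedSectionVars false

namespace Cfsg.Agent.H602.DPO

open Module Subgroup Cfsg Cfsg.Agent.H167.OP Cfsg.Agent.H170.HL Cfsg.Agent.H988.CPi Cfsg.Agent.H560.HallKey
  Cfsg.Agent.H553.OddHall Cfsg.Agent.H571.RV Cfsg.Agent.H572.RV Cfsg.Agent.H602.DP Cfsg.Agent.H969.DPi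

variable {F : Type*} [Field F] [Finite F] {V : Type*} [AddCommGroup V] [Module F V] [Finite V]
  [FiniteDimensional F V] {K : Type*} [Group K] [Finite K]
  {ρ : Representation F K V} {f : V →ₗ[F] V →ₗ[F] F} {Q : V → F} {π : Set ℕ} {H : Subgroup K} {r t : ℕ}

/-- an `s`-element of the Hall subgroup lies in a Sylow `s`-subgroup of `K` contained in `H` -/
theorem exists_sylT (h : IsoG ρ f Q) (h2 : 2 ∉ π) (hp : ∀ r ∈ π, r.Prime → (r : F) ≠ 0) (hH : IsPiHall π H)
    {s : ℕ} (hs : s.Prime) (hsπ : s ∈ π) {y : K} (hyH : y ∈ H) (hy : ∃ k : ℕ, y ^ s ^ k = 1) :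
    ∃ R : Subgroup K, SylT ρ f Q s H R ∧ y ∈ R := by
  have hsf := Fact.mk hs
  have h1 : IsPGroup s (Subgroup.zpowers (⟨y, hyH⟩ : H)) := by
    obtain ⟨k, hk⟩ := hy
    rintro ⟨x, hx⟩
    obtain ⟨i, rfl⟩ := Subgroup.mem_zpowers_iff.mp hx
    refine ⟨k, Subtype.ext (Subtype.ext ?_)⟩
    show (y ^ i) ^ s ^ k = 1
    rw [← zpow_natCast, ← zpow_mul, mul_comm, zpow_mul, zpow_natCast, hk, one_zpow]
  obtain ⟨R', hR'⟩ := h1.exists_le_sylow
  have h3 : IsPGroup s ((R' : Subgroup H).map H.subtype) := R'.2.map _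
  have h4 : ¬ s ∣ ((R' : Subgroup H).map H.subtype).index := by
    have h5 : ((R' : Subgroup H).map H.subtype).index = (R' : Subgroup H).index * H.index := by
      have := Subgroup.index_map (R' : Subgroup H) H.subtype
      rwa [H.ker_subtype, sup_bot_eq, H.range_subtype] at this
    rw [h5, hs.dvd_mul, not_or]
    exact ⟨R'.not_dvd_index, hH.2 s hs hsπ⟩
  let S : Sylow s K := h3.toSylow h4
  refine ⟨(R' : Subgroup H).map H.subtype, ?_, ?_⟩
  · exact
    { toStd := h.std h2 hp hH hs hsπ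
      hT := h3
      hTH := Subgroup.map_subtype_le _
      hmax := fun R hR hle => S.is_maximal' hR hle }
  · exact ⟨⟨y, hyH⟩, hR' (Subgroup.mem_zpowers _), rfl⟩

/-- **the element `y₁`** -/
theorem exists_part (h : Frame ρ f Q π H r t) :
    ∃ y ∈ H, (∃ k : ℕ, y ^ r ^ k = 1) ∧ (∀ v ∈ Orth f (WB ρ t H), ρ y v = v) ∧
      ∃ z ∈ Subgroup.closure (Zs ρ t H), y * z ≠ z * y := by
  obtain ⟨y, hyH, hyr, hyF⟩ := h.mv
  obtain ⟨R, hR, hyR⟩ := exists_sylT h.toIsoG h.two h.char h.hall h.rp h.rπ hyH hyr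
  have hs := std_of h
  have hmap : ∀ x ∈ R, (WB ρ t H).map (ρ x) = WB ρ t H := fun x hx => hs.WB_map (hR.hTH hx)
  obtain ⟨k, hk⟩ := h.toIsoG.exists_part (x := y) hs.nd_WB (fun u hu => mem_of_map (hmap y hyR) hu)
  have hkR := hR.part_mem hs.nd_WB hmap hyR hk
  refine ⟨k, hR.hTH hkR, ?_, hk.2, ?_⟩
  · obtain ⟨m, hm⟩ := hR.hT ⟨k, hkR⟩
    exact ⟨m, congrArg Subtype.val hm⟩
  · by_contra hcon
    push Not at hcon
    apply hyF
    intro U hU
    have hUW : U ≤ WB ρ t H := bl_le_WB hU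
    obtain ⟨z, hz, rfl, -⟩ := hU
    have h1 : (sp ρ z).map (ρ k) = sp ρ z := map_sp_of_comm (hcon z (Subgroup.subset_closure hz))
    refine Eq.trans ?_ h1
    ext v
    constructor
    · rintro ⟨u, hu, rfl⟩
      exact ⟨u, hu, hk.1 u (hUW hu)⟩
    · rintro ⟨u, hu, rfl⟩
      exact ⟨u, hu, (hk.1 u (hUW hu)).symm⟩

/-- `p`-elements commuting with `T` are trivial on `[V, T]` -/
theorem pel (h : Frame ρ f Q π H r t) {p : ℕ} (hp : p.Prime) [CharP F p] {u : K}
    (hu : ∀ z ∈ Subgroup.closure (Zs ρ t H), z * u = u * z) (hup : ∃ j : ℕ, u ^ p ^ j = 1) :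
    ∀ x ∈ WB ρ t H, ρ u x = x := by
  have hts := ts_of h
  exact Cfsg.Agent.H735.DP.pel_of hts (fun U hU u hu hi c hc => eigen hts hU hu hi hc)
    (fun U hU u hu => map_mem hts hU hu) hp hu hup

end Cfsg.Agent.H602.DPO
end

-- part: H640/DPU/Congr
section
set_option linter.all false
open scoped Cfsg.Agent.FastGrp

/-!
# Transport of `Row` along isomorphisms, also between universes (S4247, helper640)
-/

set_option autoImplicit false

namespace Cfsg.Agent.H640.DPU

open Subgroup Cfsg Cfsg.Agent.H988.CPi Cfsg.Agent.H571.RV Cfsg.Agent.H817.DPi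

universe u v

variable {π : Set ℕ}

section

variable {X : Type u} {Y : Type v} [Group X] [Group Y] (e : X ≃* Y)

include e

theorem isPiHall_map {P : Subgroup X} (h : IsPiHall π P) : IsPiHall π (P.map e.toMonoidHom) := by
  have h1 : Nat.card (P.map e.toMonoidHom) = Nat.card P :=
    Subgroup.card_map_of_injective (f := e.toMonoidHom) e.injective
  have h2 : (P.map e.toMonoidHom).index = P.index := Subgroup.index_map_equiv P e
  refine ⟨?_, ?_⟩
  · rw [h1]; exact h.1
  · rw [h2]; exact h.2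

theorem isNilpotent_map {P : Subgroup X} (h : Group.IsNilpotent P) : Group.IsNilpotent (P.map e.toMonoidHom) := by
  have := h
  exact Group.nilpotent_of_mulEquiv (e.subgroupMap P)

theorem isNilpotent_of_map {P : Subgroup X} (h : Group.IsNilpotent (P.map e.toMonoidHom)) : Group.IsNilpotent P := by
  have : Group.IsNilpotent (P.map (e : X →* Y)) := h
  exact Group.nilpotent_of_mulEquiv (e.subgroupMap P).symm

theorem nilHall_congr (h : NilHall π X) : NilHall π Y := by
  obtain ⟨H, h1, h2⟩ := h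
  exact ⟨_, isPiHall_map e h1, isNilpotent_map e h2⟩

theorem rankOne_congr {p : ℕ} (h : RankOne p X) : RankOne p Y := by
  rcases h with ⟨F, i1, i2, i3, h1, ⟨f⟩⟩ | ⟨F, i1, i2, i3, q, h1, h2, ⟨f⟩⟩ | ⟨h1, K, i1, i2, m, h2, h3, ⟨f⟩⟩
  · exact Or.inl ⟨F, i1, i2, i3, h1, ⟨e.symm.trans f⟩⟩
  · exact Or.inr (Or.inl ⟨F, i1, i2, i3, q, h1, h2, ⟨e.symm.trans f⟩⟩)
  · exact Or.inr (Or.inr ⟨h1, K, i1, i2, m, h2, h3, ⟨e.symm.trans f⟩⟩)

theorem two_congr {r s : ℕ} (h : Two π r s X) : Two π r s Y := fun l hl hp hd =>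
  h l hl hp (by rwa [Nat.card_congr e.toEquiv])

theorem lx_congr (h : LX π X) : LX π Y := by
  rcases h with ⟨p, h1, h2, h3⟩ | ⟨⟨f⟩⟩ | ⟨⟨f⟩, h1⟩ | ⟨⟨f⟩, h1⟩ | ⟨⟨f⟩, h1⟩
  · exact Or.inl ⟨p, h1, h2, rankOne_congr e h3⟩
  · exact Or.inr (Or.inl ⟨e.symm.trans f⟩)
  · exact Or.inr (Or.inr (Or.inl ⟨⟨e.symm.trans f⟩, two_congr e h1⟩))
  · exact Or.inr (Or.inr (Or.inr (Or.inl ⟨⟨e.symm.trans f⟩, two_congr e h1⟩)))
  · exact Or.inr (Or.inr (Or.inr (Or.inr ⟨⟨e.symm.trans f⟩, two_congr e h1⟩)))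

/-- **the class is invariant under isomorphisms** -/
theorem cls_congr (h : Cls π X) : Cls π Y := h.imp (nilHall_congr e) (lx_congr e)

end

section

variable {S : Type u} {S' : Type v} [Group S] [Group S'] (e : S ≃* S')

theorem congr_apply (a : MulAut S) (x : S) : MulAut.congr e a (e x) = e (a x) := by
  show e (a (e.symm (e x))) = e (a x)
  rw [e.symm_apply_apply]

theorem congr_conj (x : S) : MulAut.congr e (MulAut.conj x) = MulAut.conj (e x) := by
  ext y
  obtain ⟨y, rfl⟩ := e.surjective y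
  rw [congr_apply, MulAut.conj_apply, MulAut.conj_apply, map_mul, map_mul, map_inv]

theorem inn_map : (inn S).map (MulAut.congr e).toMonoidHom = inn S' := by
  ext g
  constructor
  · rintro ⟨_, ⟨x, rfl⟩, rfl⟩
    exact ⟨e x, (congr_conj e x).symm⟩
  · rintro ⟨y, rfl⟩
    obtain ⟨x, rfl⟩ := e.surjective y
    exact ⟨_, ⟨x, rfl⟩, congr_conj e x⟩

/-- **the configuration is invariant under isomorphisms** -/
theorem cfg_map {P : Subgroup S} {K B : Subgroup (MulAut S)} (h : Cfg π P K B) :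
    Cfg π (P.map e.toMonoidHom) (K.map (MulAut.congr e).toMonoidHom) (B.map (MulAut.congr e).toMonoidHom) where
  two := h.two
  hall := isPiHall_map e h.hall
  nnil := fun h1 => h.nnil (isNilpotent_of_map e h1)
  piK := by
    rw [Subgroup.card_map_of_injective (f := (MulAut.congr e).toMonoidHom) (MulAut.congr e).injective]
    exact h.piK
  piB := by
    rw [Subgroup.card_map_of_injective (f := (MulAut.congr e).toMonoidHom) (MulAut.congr e).injective]
    exact h.piB
  fix := by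
    rintro _ ⟨k, hk, rfl⟩ _ ⟨x, hx, rfl⟩
    have h1 := congr_apply e k x
    rw [h.fix k hk x hx] at h1
    exact h1
  sup := by
    rw [← inn_map e, ← Subgroup.map_sup, ← Subgroup.map_sup, h.sup]
  fac := by
    rw [← inn_map e, ← Subgroup.map_sup]
    rintro _ ⟨g, hg, rfl⟩
    obtain ⟨x, hx, k, hk, b, hb, rfl⟩ := h.fac g hg
    refine ⟨e x, ⟨x, hx, rfl⟩, MulAut.congr e k, ⟨k, hk, rfl⟩, MulAut.congr e b, ⟨b, hb, rfl⟩, ?_⟩
    rw [← congr_conj e x]
    show MulAut.congr e (MulAut.conj x * k * b) = _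
    rw [map_mul, map_mul]

theorem ih_map {P : Subgroup S} {K : Subgroup (MulAut S)} (h : IH π P K) :
    IH π (P.map e.toMonoidHom) (K.map (MulAut.congr e).toMonoidHom) := by
  intro H' hH' hP hK X _ _ _ hna f hf
  have hcoe : ∀ y : (H'.comap e.toMonoidHom : Subgroup S), e y ∈ H' := fun y => y.2
  let m : Shrink.{u} X ≃* X := Shrink.mulEquiv
  have hX : IsSimpleGroup (Shrink.{u} X) := m.isSimpleGroup
  have h1 := h (H'.comap e.toMonoidHom) ?_ ?_ ?_ (Shrink.{u} X)
  · have h2 := h1 (fun hc => hna ⟨⟨fun a b => ?_⟩⟩) (m.symm.toMonoidHom.comp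
      (f.comp ((e.toMonoidHom.comp (H'.comap e.toMonoidHom).subtype).codRestrict H' hcoe))) ?_
    · exact cls_congr m h2
    · have h3 := hc.is_comm.comm (m.symm a) (m.symm b)
      rw [← map_mul, ← map_mul] at h3
      exact m.symm.injective h3
    · intro x
      obtain ⟨y, hy⟩ := hf (m x)
      have hy' : e (e.symm y) ∈ H' := by rw [e.apply_symm_apply]; exact y.2
      refine ⟨⟨e.symm y, hy'⟩, ?_⟩
      have h4 : ((e.toMonoidHom.comp (H'.comap e.toMonoidHom).subtype).codRestrict H' hcoe) ⟨e.symm y, hy'⟩ = y :=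
        Subtype.ext (e.apply_symm_apply _)
      show m.symm (f (((e.toMonoidHom.comp (H'.comap e.toMonoidHom).subtype).codRestrict H' hcoe)
        ⟨e.symm y, hy'⟩)) = x
      rw [h4, hy, MulEquiv.symm_apply_apply]
  · intro h2
    apply hH'
    rw [eq_top_iff]
    intro y _
    obtain ⟨x, rfl⟩ := e.surjective y
    have h3 : x ∈ H'.comap e.toMonoidHom := by rw [h2]; trivial
    exact h3
  · intro x hx
    have h2 := mem_normalizer_iff.1 (hP ⟨x, hx, rfl⟩)
    rw [mem_normalizer_iff]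
    intro y
    have h3 := h2 (e y)
    have h4 : e.toMonoidHom x * e y * (e.toMonoidHom x)⁻¹ = e (x * y * x⁻¹) := by
      rw [map_mul, map_mul, map_inv]; rfl
    rw [h4] at h3
    exact h3
  · intro k hk
    have h2 : H'.map ((MulAut.congr e k : MulAut S') : S' ≃* S').toMonoidHom = H' := hK ⟨k, hk, rfl⟩
    rw [mem_stab]
    have h3 : ∀ x, e x ∈ H' → e (k x) ∈ H' := by
      intro x hx
      rw [← congr_apply e k x, ← h2]
      exact ⟨_, hx, rfl⟩
    have h3' : ∀ x, e (k x) ∈ H' → e x ∈ H' := by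
      intro x hx
      rw [← congr_apply e k x, ← h2] at hx
      obtain ⟨y, hy, hxy⟩ := hx
      rwa [← (MulAut.congr e k).injective hxy]
    ext x
    constructor
    · rintro ⟨y, hy, rfl⟩
      exact h3 y hy
    · intro hx
      refine ⟨k.symm x, ?_, k.apply_symm_apply x⟩
      show e (k.symm x) ∈ H'
      apply h3'
      rw [k.apply_symm_apply]
      exact hx

/-- **`Row` is invariant under isomorphisms** (also between universes). -/
theorem row_congr (e : S ≃* S') (h : Row π S') : Row π S := fun _ _ _ h1 h2 =>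
  lx_congr e.symm (h _ _ _ (cfg_map e h1) (ih_map e h2))

end

end Cfsg.Agent.H640.DPU
end
end

-- part: H602/DPO/Glue
section
set_option linter.all false
open scoped Cfsg.Agent.FastGrp

/-!
# S4247, row `POmega`: the assembly for one quadratic form (helper602)
-/

set_option autoImplicit false
set_option linter.unusedSectionVars false

namespace Cfsg.Agent.H602.DPO

open Module Subgroup Cfsg Cfsg.Agent.H167.OP Cfsg.Agent.H170.HL Cfsg.Agent.H988.CPi Cfsg.Agent.H560.HallKey
  Cfsg.Agent.H553.OddHall Cfsg.Agent.H571.RV Cfsg.Agent.H572.RV Cfsg.Agent.H602.DP Cfsg.Agent.H969.DPi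
  Cfsg.Agent.H817.DPi Cfsg.Agent.LieClassical.OrthCore Cfsg.Agent.LieClassical.OrthTrans
  Cfsg.Agent.LieClassical.OrthFinite Cfsg.Agent.TitsThree.KSideO Cfsg.Agent.H22.DPi

universe u

variable {F : Type} [Field F] [Finite F] {ι : Type} [Fintype ι] [DecidableEq ι] {Q : QuadraticForm F (ι → F)}

theorem toOmega_act (hG : Good Q) (x : ↥(E Q)) (v : ι → F) :
    (x : (ι → F) ≃ₗ[F] (ι → F)) v = rep (OmRow.inc' (⇑Q)) (toOmega hG x : Cfsg.isometryGroup F (⇑Q)) v := by
  obtain ⟨g, rfl⟩ := (toOmega hG).symm.surjective x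
  rw [MulEquiv.apply_symm_apply]
  rfl

/-- the kernel -/
theorem center_sq (hG : Good Q) {p : ℕ} [CharP F p] {k : Cfsg.Omega F (⇑Q)} (hk : k ∈ center (Cfsg.Omega F (⇑Q))) :
    k * k = 1 := by
  obtain ⟨x, rfl⟩ := (toOmega hG).surjective k
  have hx : x ∈ center ↥(E Q) := by
    rw [Subgroup.mem_center_iff] at hk ⊢
    intro y
    apply (toOmega hG).injective
    rw [map_mul, map_mul]
    exact hk _
  have h1 : x * x = 1 := by
    have h2 := cen_pow hG (p := p) hx
    split_ifs at h2 with hp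
    · rw [pow_one] at h2
      rw [h2, one_mul]
    · rwa [pow_two] at h2
  rw [← map_mul, h1, map_one]

variable {π : Set ℕ} {r t : ℕ}

seal _root_.Units.instGroup in
/-- **case B** -/
theorem caseB {S : Type u} [Group S] [Finite S] [IsSimpleGroup S] (hna : ¬ IsMulCommutative S) {p : ℕ} (hp : p.Prime)
    [CharP F p] (hG : Good Q) (φ : Cfsg.Omega F (⇑Q) →* S) (hφ : Function.Surjective φ)
    (hker : ∀ k, φ k = 1 → k ∈ center (Cfsg.Omega F (⇑Q)))
    {P : Subgroup S} {K B : Subgroup (MulAut S)} (hC : Cfg π P K B) (hI : IH π P K)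
    {Y : Subgroup (Cfsg.Omega F (⇑Q))} (hY : IsPiHall π Y) (hYP : Y.map φ = P)
    (h : Frame (rep (OmRow.inc' (⇑Q))) (QuadraticMap.polarBilin Q) (⇑Q) π (Y.map (Cfsg.Omega F (⇑Q)).subtype) r t)
    (h3 : 3 ≤ finrank F (Orth (QuadraticMap.polarBilin Q)
      (WB (rep (OmRow.inc' (⇑Q))) t (Y.map (Cfsg.Omega F (⇑Q)).subtype))))
    (h12 : 12 ≤ finrank F (WB (rep (OmRow.inc' (⇑Q))) t (Y.map (Cfsg.Omega F (⇑Q)).subtype)))
    (excl : ∀ (X : Type u) [Group X] [Finite X] [IsSimpleGroup X], ¬ IsMulCommutative X → IsLieTypeChar p X → Cls π X →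
      (∀ P : Subgroup X, IsPiHall π P → Group.IsNilpotent P) ∨
        Nonempty (X ≃* Matrix.ProjectiveSpecialLinearGroup (Fin 3) (ZMod 2)) ∨
        Nonempty (X ≃* Matrix.ProjectiveSpecialLinearGroup (Fin 5) (ZMod 2))) : False := by
  classical
  set ρ := rep (OmRow.inc' (⇑Q)) with hρ
  set f := QuadraticMap.polarBilin Q with hf
  set H := Y.map (Cfsg.Omega F (⇑Q)).subtype with hH
  set T := Subgroup.closure (Zs ρ t H) with hTd
  set V₁ := WB ρ t H with hV₁
  set V₀ := Orth f V₁ with hV₀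
  have hfin : Finite (Cfsg.isometryGroup F (⇑Q)) := inferInstance
  have hsym : ∀ x y, f x y = f y x := fun x y => polar_symm' x y
  have hTH : T ≤ H := closure_le_H
  have hHO : H ≤ Cfsg.Omega F (⇑Q) := Subgroup.map_subtype_le _
  have hTO : T ≤ Cfsg.Omega F (⇑Q) := hTH.trans hHO
  have hs := std_of h
  have hmemY : ∀ x : Cfsg.Omega F (⇑Q), (x : Cfsg.isometryGroup F (⇑Q)) ∈ H → x ∈ Y := by
    rintro x ⟨y, hy, hyx⟩
    rwa [← Subtype.ext (show (y : Cfsg.isometryGroup F (⇑Q)) = x from hyx)]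
  let e := toOmega hG
  have hact : ∀ (x : ↥(E Q)) (v : ι → F), (x : (ι → F) ≃ₗ[F] (ι → F)) v = ρ (e x : Cfsg.isometryGroup F (⇑Q)) v :=
    fun x v => toOmega_act hG x v
  let HE : Subgroup ↥(E Q) := Y.comap e.toMonoidHom
  let TE : Subgroup ↥(E Q) := (T.subgroupOf (Cfsg.Omega F (⇑Q))).comap e.toMonoidHom
  have hHEmap : HE.map e.toMonoidHom = Y := Subgroup.map_comap_eq_self_of_surjective e.surjective Y
  have hHE : ∀ x, x ∈ HE ↔ e x ∈ Y := fun x => Iff.rfl
  have hTE : ∀ x, x ∈ TE ↔ (e x : Cfsg.isometryGroup F (⇑Q)) ∈ T := fun x => Iff.rfl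
  have D : Dec Q V₀ V₁ :=
    { nd := hG.nondeg
      nd₀ := by
        intro x hx
        apply Subtype.ext
        apply nd_fix h x x.2
        intro y hy
        rw [hsym]
        exact hx ⟨y, hy⟩
      nd₁ := by
        intro x hx
        apply Subtype.ext
        apply hs.nd_WB x x.2
        intro y hy
        rw [hsym]
        exact hx ⟨y, hy⟩
      perp := by
        intro x hx y hy
        have h1 := hx y hy
        rw [hsym] at h1
        exact h1
      sup := by
        rw [sup_comm]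
        exact (isCompl_Orth f V₁ hs.nd_WB).sup_eq_top }
  obtain ⟨y, hyH, ⟨k, hyr⟩, hy₀, z, hz, hyz⟩ := exists_part h
  -- `y`, `z` in `E Q`
  have hyO := hHO hyH
  have hzO := hTO hz
  obtain ⟨ye, hye⟩ := e.surjective ⟨y, hyO⟩
  obtain ⟨ze, hze⟩ := e.surjective ⟨z, hzO⟩
  have hye' : (e ye : Cfsg.isometryGroup F (⇑Q)) = y := congrArg Subtype.val hye
  have hze' : (e ze : Cfsg.isometryGroup F (⇑Q)) = z := congrArg Subtype.val hze
  have hpowe : ∀ (x : ↥(E Q)) (n : ℕ), (e x : Cfsg.isometryGroup F (⇑Q)) ^ n = 1 → x ^ n = 1 := by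
    intro x n hx
    apply e.injective
    apply Subtype.ext
    rw [map_pow, map_one]
    exact hx
  refine om_b hna hp hC hI D h3 h12 (ψ := φ.comp e.toMonoidHom) (hφ.comp e.surjective) ?_ (H := HE) (T := TE) ?_ ?_ ?_ ?_
    ?_ ?_ (y := ye) (t := ze) ?_ ?_ ?_ ?_ ?_ excl
  · intro x hx
    have h1 := hker (e x) hx
    rw [Subgroup.mem_center_iff] at h1 ⊢
    intro w
    apply e.injective
    rw [map_mul, map_mul]
    exact h1 _
  · have h1 : Nat.card HE = Nat.card Y := by
      rw [← hHEmap, Subgroup.card_map_of_injective e.injective]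
    rw [h1]
    exact hY.1
  · rw [← Subgroup.map_map, hHEmap, hYP]
  · intro x hx
    exact hmemY _ (hTH hx)
  · intro x hx w hw
    rw [hTE, map_mul, map_mul, map_inv]
    have h1 : (e x : Cfsg.isometryGroup F (⇑Q)) ∈ H := ⟨e x, hx, rfl⟩
    exact (Subgroup.mem_normalizer_iff.mp (hs.le_norm h1) _).mp hw
  · intro x hx v hv
    rw [hact]
    exact (mem_Orth_CV h.toIsoG).mp hv _ hx
  · rintro x hx ⟨j, hj⟩ v hv
    rw [hact]
    refine pel h hp (u := (e x : Cfsg.isometryGroup F (⇑Q))) ?_ ⟨j, ?_⟩ v hv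
    · intro w hw
      obtain ⟨we, hwe⟩ := e.surjective ⟨w, hTO hw⟩
      have hwe' : (e we : Cfsg.isometryGroup F (⇑Q)) = w := congrArg Subtype.val hwe
      have h1 := hx we (by rw [hTE, hwe']; exact hw)
      have h2 : (e x : Cfsg.isometryGroup F (⇑Q)) * e we = e we * e x := by
        have := congrArg (fun a => ((e a : Cfsg.Omega F (⇑Q)) : Cfsg.isometryGroup F (⇑Q))) h1
        simpa only [map_mul, Subgroup.coe_mul] using this
      rw [← hwe', h2]
    · have := congrArg (fun a => ((e a : Cfsg.Omega F (⇑Q)) : Cfsg.isometryGroup F (⇑Q))) hj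
      simpa only [map_pow, map_one, SubmonoidClass.coe_pow, Subgroup.coe_one] using this
  · apply hmemY
    show (e ye : Cfsg.isometryGroup F (⇑Q)) ∈ H
    rw [hye']
    exact hyH
  · intro v hv
    rw [hact, hye']
    exact hy₀ v hv
  · rw [hTE, hze']
    exact hz
  · obtain ⟨j, hj⟩ := hs.closure_comm.2 ⟨z, hz⟩
    have hj' : z ^ t ^ j = 1 := congrArg Subtype.val hj
    have h1 : orderOf ye ∣ r ^ k := orderOf_dvd_of_pow_eq_one (hpowe ye _ (by rw [hye']; exact hyr))
    have h2 : orderOf ze ∣ t ^ j := orderOf_dvd_of_pow_eq_one (hpowe ze _ (by rw [hze']; exact hj'))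
    have h4 : Nat.Coprime (r ^ k) (t ^ j) :=
      Nat.Coprime.pow _ _ ((Nat.coprime_primes h.rp h.tp).mpr (Nat.ne_of_lt h.rt))
    exact Nat.Coprime.coprime_dvd_left h1 (Nat.Coprime.coprime_dvd_right h2 h4)
  · intro hcon
    apply hyz
    have := congrArg (fun a => ((e a : Cfsg.Omega F (⇑Q)) : Cfsg.isometryGroup F (⇑Q))) hcon
    simp only [map_mul, Subgroup.coe_mul] at this
    rwa [hye', hze'] at this

seal _root_.Finset.sum _root_.dotProduct in
/-- **Row for one quadratic form**, modulo the frame and the dimension of `[V, T]` -/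
theorem row_of {S : Type u} [Group S] [Finite S] [IsSimpleGroup S] {p : ℕ} (hp : p.Prime) [CharP F p]
    (hG : Good Q) (hQ : OmRow.GoodQ Q) (e : S ≃* Cfsg.POmega F (⇑Q))
    (hOB : OBS S (Nat.card F) (Fintype.card ι))
    (hfr : 2 ∉ π → ∀ H : Subgroup (Cfsg.isometryGroup F (⇑Q)), IsPiHall π H → ¬ Group.IsNilpotent H →
      ∃ r t : ℕ, Frame (rep (OmRow.inc' (⇑Q))) (QuadraticMap.polarBilin Q) (⇑Q) π H r t)
    (hdim : ∀ (H : Subgroup (Cfsg.isometryGroup F (⇑Q))) (r t : ℕ),
      Frame (rep (OmRow.inc' (⇑Q))) (QuadraticMap.polarBilin Q) (⇑Q) π H r t →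
      3 ≤ finrank F (Orth (QuadraticMap.polarBilin Q) (WB (rep (OmRow.inc' (⇑Q))) t H)) →
      12 ≤ finrank F (WB (rep (OmRow.inc' (⇑Q))) t H))
    (hexc : 2 ∉ π → ∀ (X : Type u) [Group X] [Finite X] [IsSimpleGroup X], ¬ IsMulCommutative X →
      IsLieTypeChar p X → Cls π X → (∀ P : Subgroup X, IsPiHall π P → Group.IsNilpotent P) ∨
      Nonempty (X ≃* Matrix.ProjectiveSpecialLinearGroup (Fin 3) (ZMod 2)) ∨
      Nonempty (X ≃* Matrix.ProjectiveSpecialLinearGroup (Fin 5) (ZMod 2))) : Row π S := by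
  classical
  intro P K B hC hIH
  exfalso
  have hna : ¬ IsMulCommutative S := by
    intro hc
    apply hC.nnil
    have h1 : ∀ a b : P, a * b = b * a := fun a b => Subtype.ext (hc.is_comm.comm (a : S) b)
    exact @CommGroup.isNilpotent P { (inferInstance : Group P) with mul_comm := h1 }
  have hfin : Finite (Cfsg.isometryGroup F (⇑Q)) := inferInstance
  let φ : Cfsg.Omega F (⇑Q) →* S :=
    ((e.symm : Cfsg.POmega F (⇑Q) →* S).comp
      (QuotientGroup.mk' (Subgroup.center (Cfsg.Omega F (⇑Q)))) :)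
  have hφ : Function.Surjective φ :=
    e.symm.surjective.comp (QuotientGroup.mk'_surjective _)
  have hker : ∀ k, φ k = 1 → k ∈ center (Cfsg.Omega F (⇑Q)) := by
    intro k h
    have h1 : (QuotientGroup.mk' (Subgroup.center (Cfsg.Omega F (⇑Q)))) k = 1 :=
      e.symm.injective (h.trans (map_one e.symm).symm)
    rwa [QuotientGroup.mk'_apply, QuotientGroup.eq_one_iff] at h1
  have hker2 : ∀ k, φ k = 1 → k * k = 1 ∧ ∀ x, k * x = x * k := fun k hk =>
    ⟨center_sq hG (p := p) (hker k hk), fun x => (Subgroup.mem_center_iff.mp (hker k hk) x).symm⟩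
  obtain ⟨Y, hY, hYP⟩ := Cfsg.Agent.H462.DPK.exists_hall_over φ hφ (fun k hk => (hker2 k hk).2) hC.two hC.hall
  have hYn : ¬ Group.IsNilpotent Y := by
    intro hn
    apply hC.nnil
    rw [← hYP]
    exact Group.nilpotent_of_surjective (φ.subgroupMap Y) (φ.subgroupMap_surjective Y)
  have hH := isPiHall_up hY (index_omega hQ hC.two)
  have hHn : ¬ Group.IsNilpotent (Y.map (Cfsg.Omega F (⇑Q)).subtype) := by
    intro hn
    apply hYn
    let eY := Y.equivMapOfInjective _ (Cfsg.Omega F (⇑Q)).subtype_injective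
    exact Group.nilpotent_of_mulEquiv eY.symm
  obtain ⟨r, t, h⟩ := hfr hC.two _ hH hHn
  by_cases h3 : 3 ≤ finrank F (Orth (QuadraticMap.polarBilin Q)
      (WB (rep (OmRow.inc' (⇑Q))) t (Y.map (Cfsg.Omega F (⇑Q)).subtype)))
  · exact caseB hna hp hG φ hφ hker hC hIH hY hYP h h3 (hdim _ r t h h3) (hexc hC.two)
  · obtain ⟨J, hJ, hJ3, hJb⟩ := Cfsg.Agent.H22.DPi.exists_class h (fun v => QuadraticMap.map_neg Q v)
    exact caseC hna φ hφ hker2 hC hY hYP h (by omega) ⟨J, hJ, hJ3, hJb⟩ hOB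

end Cfsg.Agent.H602.DPO
end

section
prune_inst 0xeeacf8abb831dedfff7e7fa7d0cffc3b901fffe6dff9437fe0ebff0b9f030009c52ba509e010fe0ed6601410b87843f9ffeeffe263dc7ffffd5ff41ffbee1ff5f6b50851d488340f3c2fff03f0778e7f000000000000000000000000000000000200000000

-- part: H22/DPU/NilTwo
section
set_option linter.all false
open scoped Cfsg.Agent.FastGrp

/-!
# `π`-groups of linear transformations of dimension at most two are nilpotent (`2, p ∉ π`) (helper22)
-/

set_option autoImplicit false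

namespace Cfsg.Agent.H22.DPU

open Module Cfsg Cfsg.Agent.H167.OP Cfsg.Agent.H170.HL Cfsg.Agent.H988.CPi Cfsg.Agent.H560.HallKey
  Cfsg.Agent.H553.OddHall Cfsg.Agent.H572.RV

/-- `CenH t` for all primes implies nilpotency -/
theorem nil_of_cenH {K : Type*} [Group K] [Finite K] (hsol : ∀ L : Subgroup K, Group.IsSolvable L)
    (h : ∀ t : ℕ, t.Prime → t ∣ Nat.card K → ∀ L : Subgroup K, CenH t L) : Group.IsNilpotent K := by
  classical
  have key : ∀ (t : ℕ) (_ : Fact t.Prime) (P : Sylow t K), (P : Subgroup K).Normal := by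
    intro t ht P
    by_cases htd : t ∣ Nat.card K
    · obtain ⟨L, hL⟩ : ∃ L : Subgroup K, L = Subgroup.closure {x : K | ∃ k : ℕ, x ^ t ^ k = 1} := ⟨_, rfl⟩
      have hgen : Subgroup.closure {x : L | ∃ k : ℕ, x ^ t ^ k = 1} = ⊤ := by
        subst hL
        rw [eq_top_iff, ← Subgroup.closure_closure_coe_preimage (k := {x : K | ∃ k : ℕ, x ^ t ^ k = 1})]
        apply Subgroup.closure_mono
        rintro ⟨w, hw⟩ ⟨k, hk⟩
        exact ⟨k, Subtype.ext hk⟩
      have h1 : IsPGroup t L := isPGroup_of_cenH (hsol L) (h t ht.out htd L) hgen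
      have h2 : (P : Subgroup K) ≤ L := by
        intro x hx
        obtain ⟨k, hk⟩ := P.isPGroup' ⟨x, hx⟩
        rw [hL]
        exact Subgroup.subset_closure ⟨k, congrArg Subtype.val hk⟩
      have h3 : L = (P : Subgroup K) := P.is_maximal' h1 h2
      rw [← h3, hL]
      refine ⟨fun n hn g => ?_⟩
      have h4 : (Subgroup.closure {x : K | ∃ k : ℕ, x ^ t ^ k = 1}).map (MulAut.conj g).toMonoidHom ≤
          Subgroup.closure {x : K | ∃ k : ℕ, x ^ t ^ k = 1} := by
        rw [MonoidHom.map_closure, Subgroup.closure_le]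
        rintro _ ⟨x, ⟨k, hk⟩, rfl⟩
        refine Subgroup.subset_closure ⟨k, ?_⟩
        rw [← map_pow, hk, map_one]
      exact h4 ⟨n, hn, rfl⟩
    · have h1 : (P : Subgroup K) = ⊥ := by
        rw [← Subgroup.card_eq_one]
        obtain ⟨n, hn⟩ := IsPGroup.iff_card.mp P.isPGroup'
        rcases Nat.eq_zero_or_pos n with h0 | h0
        · rw [hn, h0, pow_zero]
        · exfalso
          apply htd
          exact (dvd_pow_self t h0.ne').trans (hn ▸ Subgroup.card_subgroup_dvd_card (P : Subgroup K))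
      rw [h1]
      infer_instance
  exact ((Group.isNilpotent_of_finite_tfae (G := K)).out 0 3).mpr key

variable {F : Type*} [Field F] {V : Type*} [AddCommGroup V] [Module F V] [FiniteDimensional F V]
  {K : Type*} [Group K] [Finite K] {t : ℕ} {ρ : Representation F K V}

/-- `t`-elements centralise the `r`-subgroups which they normalise -/
theorem cenH_two (hinj : Function.Injective ρ) (hd : finrank F V ≤ 2) (ht : t.Prime) (hto : Odd t)
    {L : Subgroup K} (hL : PiN (Pi0 F) (Nat.card L)) : CenH t L := by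
  classical
  intro y hy r hrp hrt R hR hn
  by_contra hc
  have hrf : Fact r.Prime := ⟨hrp⟩
  let B : Subgroup K := R.map L.subtype
  have hB : ∀ d ∈ B, ∃ k : ℕ, d ^ r ^ k = 1 := by
    rintro _ ⟨x, hx, rfl⟩
    obtain ⟨k, hk⟩ := hR ⟨x, hx⟩
    exact ⟨k, congrArg (fun z : R => ((z : L) : K)) hk⟩
  have hy' : ∃ k : ℕ, (y : K) ^ t ^ k = 1 := by
    obtain ⟨k, hk⟩ := hy
    exact ⟨k, congrArg Subtype.val hk⟩
  have hn' : Nrm (y : K) B := by
    rintro _ ⟨x, hx, rfl⟩
    exact ⟨_, hn x hx, rfl⟩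
  have hc' : ¬ Cen (y : K) B := by
    intro h
    apply hc
    intro d hd
    exact Subtype.ext (h d ⟨d, hd, rfl⟩)
  obtain ⟨D, hDB, hD⟩ := exists_minD hrp ht hrt hB hy' hn' hc'
  have hDL : D ≤ L := hDB.trans (Subgroup.map_subtype_le _)
  have hDb : finrank F (CV ρ D) ≤ 2 := (Submodule.finrank_le _).trans hd
  have ht2 := ht.two_le
  have ht3 : 3 ≤ t := by
    rcases hto with ⟨k, rfl⟩
    omega
  have hDπ : PiN (Pi0 F) (Nat.card D) := hL.of_dvd (Subgroup.card_dvd_of_le hDL)
  have hDo := piN_Pi0 Nat.card_pos.ne' hDπ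
  have hDr : r ∈ Pi0 F := by
    refine hDπ r hrp ?_
    have h1 : IsPGroup r D := hD.isPGroup
    obtain ⟨n, hn⟩ := IsPGroup.iff_card.mp h1
    rw [hn]
    refine dvd_pow_self r ?_
    rintro rfl
    rw [pow_zero, Subgroup.card_eq_one] at hn
    apply hD.ncen
    intro d hd
    rw [hn, Subgroup.mem_bot] at hd
    rw [hd, mul_one, one_mul]
  by_cases hab : ∀ a ∈ D, ∀ b ∈ D, a * b = b * a
  · obtain ⟨d, hd, hne⟩ : ∃ d ∈ D, (y : K) * d ≠ d * y := by
      by_contra hcon
      push Not at hcon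
      exact hD.ncen hcon
    have h1 := weights ρ ht hy' hDo.2 hab hD.nrm ⟨d, hd, fun h0 => hne (hinj h0)⟩
    omega
  · push Not at hab
    have h1 : r ≠ 2 := by
      rintro rfl
      exact absurd hDr.1 (by decide)
    have h2 : t ≠ 2 := by
      rintro rfl
      exact absurd hto (by decide)
    have := Cfsg.Agent.H167.OP.beta ρ hinj hD h1 h2 hDr.2 hab
    change 2 * t - 1 ≤ finrank F (CV ρ D) at this
    omega

/-- **`π`-groups in dimension at most two are nilpotent.** -/
theorem nil_two (hinj : Function.Injective ρ) (hd : finrank F V ≤ 2) (hK : PiN (Pi0 F) (Nat.card K)) :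
    Group.IsNilpotent K := by
  refine nil_of_cenH (fun L => solvable_of_pi two_notMem_Pi0 (hK.of_dvd (Subgroup.card_subgroup_dvd_card L))) ?_
  intro t ht htd L
  exact cenH_two hinj hd ht (hK t ht htd).1 (hK.of_dvd (Subgroup.card_subgroup_dvd_card L))

end Cfsg.Agent.H22.DPU
end

-- part: H491/DP/Num
section
set_option linter.all false
open scoped Cfsg.Agent.FastGrp

/-!
# S4247, row PSp, piece N: the numbers (helper491)
-/

set_option autoImplicit false

namespace Cfsg.Agent.H491.DP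

theorem geo {q n : ℕ} (hq : 2 ≤ q) (hn : 1 ≤ n) : q ^ (2 * n - 1) < (q ^ (2 * n) - 1) / (q - 1) := by
  obtain ⟨a, rfl⟩ : ∃ a, q = a + 1 := ⟨q - 1, by omega⟩
  obtain ⟨b, rfl⟩ : ∃ b, n = b + 1 := ⟨n - 1, by omega⟩
  rw [show 2 * (b + 1) - 1 = 2 * b + 1 by omega, show 2 * (b + 1) = 2 * b + 1 + 1 by ring, Nat.add_sub_cancel]
  rw [← Nat.succ_le_iff, Nat.le_div_iff_mul_le (by omega)]
  have h1 : a + 1 ≤ (a + 1) ^ (2 * b + 1) := Nat.le_self_pow (by omega) _
  have h2 : (a + 1) ^ (2 * b + 1 + 1) = (a + 1) ^ (2 * b + 1) * a + (a + 1) ^ (2 * b + 1) := by ring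
  rw [h2]
  have h3 : ((a + 1) ^ (2 * b + 1)).succ * a = (a + 1) ^ (2 * b + 1) * a + a := by rw [Nat.succ_mul]
  rw [h3]
  omega

theorem pow1 {q m : ℕ} (hm : 1 ≤ m) : q ^ m + 1 ≤ (q + 1) ^ m := by
  induction m, hm using Nat.le_induction with
  | base => simp
  | succ m hm ih =>
    calc q ^ (m + 1) + 1 ≤ (q ^ m + 1) * (q + 1) := by
          rw [pow_succ]
          linarith only [Nat.zero_le (q ^ m)]
      _ ≤ (q + 1) ^ m * (q + 1) := Nat.mul_le_mul_right _ ih
      _ = (q + 1) ^ (m + 1) := (pow_succ _ _).symm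

theorem pow2 {q m : ℕ} (hm : 2 ≤ m) : (q ^ m + 1) ^ 2 ≤ (q ^ 2 + 1) ^ m := by
  induction m, hm using Nat.le_induction with
  | base => exact le_rfl
  | succ m hm ih =>
    calc (q ^ (m + 1) + 1) ^ 2 ≤ (q ^ m + 1) ^ 2 * (q ^ 2 + 1) := by
          rw [pow_succ q m]
          generalize q ^ m = x
          have h1 : (x * q + 1) ^ 2 = x * x * (q * q) + 2 * (x * q) + 1 := by ring
          have h2 : (x + 1) ^ 2 * (q ^ 2 + 1) = x * x * (q * q) + 2 * (x * (q * q)) + q * q + (x + 1) ^ 2 := by ring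
          have h3 : x * q ≤ x * (q * q) := Nat.mul_le_mul_left _ (Nat.le_mul_self q)
          have h4 : 1 ≤ (x + 1) ^ 2 := Nat.one_le_pow _ _ (by omega)
          omega
      _ ≤ (q ^ 2 + 1) ^ m * (q ^ 2 + 1) := Nat.mul_le_mul_right _ ih
      _ = (q ^ 2 + 1) ^ (m + 1) := (pow_succ _ _).symm

theorem prod1 {q : ℕ} : ∀ l : List ℕ, (∀ m ∈ l, 1 ≤ m) → (l.map fun m => q ^ m + 1).prod ≤ (q + 1) ^ l.sum
  | [], _ => by simp
  | a :: l, h => by
    rw [List.map_cons, List.prod_cons, List.sum_cons, pow_add]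
    exact Nat.mul_le_mul (pow1 (h a (by simp))) (prod1 l fun m hm => h m (List.mem_cons_of_mem _ hm))

theorem prod2 {q : ℕ} : ∀ l : List ℕ, (∀ m ∈ l, 2 ≤ m) → (l.map fun m => q ^ m + 1).prod ^ 2 ≤ (q ^ 2 + 1) ^ l.sum
  | [], _ => by simp
  | a :: l, h => by
    rw [List.map_cons, List.prod_cons, List.sum_cons, pow_add, mul_pow]
    exact Nat.mul_le_mul (pow2 (h a (by simp))) (prod2 l fun m hm => h m (List.mem_cons_of_mem _ hm))

theorem sq_le_three {r : ℕ} (hr : 3 ≤ r) : r ^ 2 ≤ 3 ^ (r - 1) := by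
  induction r, hr using Nat.le_induction with
  | base => decide
  | succ r hr ih =>
    obtain ⟨s, rfl⟩ : ∃ s, r = s + 1 := ⟨r - 1, by omega⟩
    rw [Nat.add_sub_cancel] at ih ⊢
    rw [pow_succ 3 s]
    nlinarith

theorem fact_bound {r w k : ℕ} (hr : r.Prime) (hr3 : 3 ≤ r) (hw : r ^ w ∣ k.factorial) : (r ^ w) ^ 2 ≤ 3 ^ (k - 1) := by
  have := Fact.mk hr
  have h1 : w ≤ padicValNat r k.factorial := (padicValNat_dvd_iff_le (Nat.factorial_ne_zero k)).1 hw
  have h2 := sub_one_mul_padicValNat_factorial (p := r) k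
  have h3 : (r - 1) * w ≤ k - 1 := by
    have h4 : (r - 1) * w ≤ (r - 1) * padicValNat r k.factorial := Nat.mul_le_mul_left _ h1
    rcases Nat.eq_zero_or_pos k with rfl | hk
    · simp only [Nat.factorial_zero, Nat.digits_zero, List.sum_nil] at h2 h4
      omega
    · have h5 : 1 ≤ (r.digits k).sum := by
        by_contra h0
        have h6 : (r.digits k).sum = 0 := by omega
        have h7 : ∀ d ∈ r.digits k, d = 0 := fun d hd => by
          have := List.single_le_sum (fun _ _ => Nat.zero_le _) d hd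
          omega
        have h8 := Nat.getLast_digit_ne_zero r (show k ≠ 0 by omega)
        exact h8 (h7 _ (List.getLast_mem _))
      omega
  calc (r ^ w) ^ 2 = (r ^ 2) ^ w := by rw [← pow_mul, ← pow_mul, mul_comm]
    _ ≤ (3 ^ (r - 1)) ^ w := Nat.pow_le_pow_left (sq_le_three hr3) _
    _ = 3 ^ ((r - 1) * w) := (pow_mul _ _ _).symm
    _ ≤ 3 ^ (k - 1) := Nat.pow_le_pow_right (by norm_num) h3

theorem two_mul_gcd {q p e : ℕ} (hq : q = p ^ e) (hp : p.Prime) (he : 1 ≤ e) (hq4 : 4 ≤ q) : 2 * (Nat.gcd 2 (q - 1) * e) ≤ q := by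
  rcases hp.eq_two_or_odd' with rfl | hodd
  · have hg : Nat.gcd 2 (q - 1) = 1 := by
      have h1 : Odd (q - 1) := by
        have : Even q := by rw [hq]; exact (Nat.even_pow.2 ⟨even_two, by omega⟩)
        exact Nat.Even.sub_odd (by omega) this odd_one
      exact (Nat.coprime_two_left.2 h1)
    rw [hg, one_mul, hq]
    have h2 : ∀ e : ℕ, 1 ≤ e → 2 * e ≤ 2 ^ e := by
      intro e he
      induction e, he using Nat.le_induction with
      | base => norm_num
      | succ e he ih => rw [pow_succ]; omega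
    exact h2 e he
  · have hg : Nat.gcd 2 (q - 1) ≤ 2 := Nat.gcd_le_left _ (by norm_num)
    have h3 : 3 ≤ p := by
      have := hp.two_le
      rcases hodd with ⟨c, hc⟩
      omega
    have h4 : 4 * e ≤ q := by
      rcases Nat.lt_or_ge e 2 with h | h
      · have : e = 1 := by omega
        rw [this]
        omega
      · rw [hq]
        refine le_trans ?_ (Nat.pow_le_pow_left h3 e)
        clear hq hg
        induction e, h using Nat.le_induction with
        | base => norm_num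
        | succ e he' ih => rw [pow_succ]; have := ih (by omega); omega
    calc 2 * (Nat.gcd 2 (q - 1) * e) ≤ 2 * (2 * e) := Nat.mul_le_mul_left _ (Nat.mul_le_mul_right _ hg)
      _ = 4 * e := by ring
      _ ≤ q := h4

/-- `q ≥ 4` -/
theorem big {q n : ℕ} (hq : 4 ≤ q) (hn : 3 ≤ n) : (q + 1) ^ (2 * n) * 3 ^ (n - 1) * q ^ 2 ≤ 4 * (q ^ (2 * n - 1)) ^ 2 := by
  induction n, hn using Nat.le_induction with
  | base =>
    have h1 : 4 * (q + 1) ≤ 5 * q := by omega
    have h2 : (4 * (q + 1)) ^ 6 ≤ (5 * q) ^ 6 := Nat.pow_le_pow_left h1 6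
    have h3 : 9 * (5 * q) ^ 6 ≤ 4 ^ 6 * (4 * q ^ 8) := by
      have h4 : (16 : ℕ) ≤ q ^ 2 := by nlinarith only [hq]
      calc 9 * (5 * q) ^ 6 = 140625 * q ^ 6 := by ring
        _ ≤ 4 ^ 6 * (4 * (16 * q ^ 6)) := by linarith only [Nat.zero_le (q ^ 6)]
        _ ≤ 4 ^ 6 * (4 * (q ^ 2 * q ^ 6)) := by
          exact Nat.mul_le_mul_left _ (Nat.mul_le_mul_left _ (Nat.mul_le_mul_right _ h4))
        _ = 4 ^ 6 * (4 * q ^ 8) := by ring
    have h5 : 9 * (q + 1) ^ 6 ≤ 4 * q ^ 8 := by
      have h6 : 4 ^ 6 * (9 * (q + 1) ^ 6) ≤ 4 ^ 6 * (4 * q ^ 8) := by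
        calc 4 ^ 6 * (9 * (q + 1) ^ 6) = 9 * (4 * (q + 1)) ^ 6 := by ring
          _ ≤ 9 * (5 * q) ^ 6 := Nat.mul_le_mul_left _ h2
          _ ≤ _ := h3
      exact Nat.le_of_mul_le_mul_left h6 (by norm_num)
    calc (q + 1) ^ (2 * 3) * 3 ^ (3 - 1) * q ^ 2 = 9 * (q + 1) ^ 6 * q ^ 2 := by
          rw [show 2 * 3 = 6 by rfl, show 3 ^ (3 - 1) = 9 by rfl]; ring
      _ ≤ 4 * q ^ 8 * q ^ 2 := Nat.mul_le_mul_right _ h5
      _ = 4 * (q ^ (2 * 3 - 1)) ^ 2 := by rw [show 2 * 3 - 1 = 5 by rfl]; ring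
  | succ n hn ih =>
    obtain ⟨b, rfl⟩ : ∃ b, n = b + 1 := ⟨n - 1, by omega⟩
    have h1 : 3 * (q + 1) ^ 2 ≤ q ^ 4 := by
      have h2 : q + 1 ≤ 2 * q := by omega
      have h3 : (q + 1) ^ 2 ≤ (2 * q) ^ 2 := Nat.pow_le_pow_left h2 2
      have h4 : 12 ≤ q ^ 2 := by nlinarith only [hq]
      calc 3 * (q + 1) ^ 2 ≤ 3 * (2 * q) ^ 2 := Nat.mul_le_mul_left _ h3
        _ = 12 * q ^ 2 := by ring
        _ ≤ q ^ 2 * q ^ 2 := Nat.mul_le_mul_right _ h4
        _ = q ^ 4 := by ring
    rw [show b + 1 + 1 - 1 = b + 1 by omega, show 2 * (b + 1 + 1) - 1 = 2 * b + 3 by omega]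
    rw [show b + 1 - 1 = b by omega, show 2 * (b + 1) - 1 = 2 * b + 1 by omega] at ih
    calc (q + 1) ^ (2 * (b + 1 + 1)) * 3 ^ (b + 1) * q ^ 2 = (q + 1) ^ (2 * (b + 1)) * 3 ^ b * q ^ 2 * (3 * (q + 1) ^ 2) := by ring
      _ ≤ 4 * (q ^ (2 * b + 1)) ^ 2 * q ^ 4 := Nat.mul_le_mul ih h1
      _ = 4 * (q ^ (2 * b + 3)) ^ 2 := by ring

/-- `q = 3` -/
theorem three {n : ℕ} (hn : 3 ≤ n) : 10 ^ n * 3 ^ (n - 1) * 4 ≤ (3 ^ (2 * n - 1)) ^ 2 := by
  induction n, hn using Nat.le_induction with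
  | base => norm_num
  | succ n hn ih =>
    obtain ⟨b, rfl⟩ : ∃ b, n = b + 1 := ⟨n - 1, by omega⟩
    rw [show b + 1 + 1 - 1 = b + 1 by omega, show 2 * (b + 1 + 1) - 1 = 2 * b + 3 by omega]
    rw [show b + 1 - 1 = b by omega, show 2 * (b + 1) - 1 = 2 * b + 1 by omega] at ih
    calc 10 ^ (b + 1 + 1) * 3 ^ (b + 1) * 4 = 10 ^ (b + 1) * 3 ^ b * 4 * 30 := by ring
      _ ≤ (3 ^ (2 * b + 1)) ^ 2 * 81 := Nat.mul_le_mul ih (by norm_num)
      _ = (3 ^ (2 * b + 3)) ^ 2 := by ring

/-- `q = 2`, `n ≥ 6` -/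
theorem two {n : ℕ} (hn : 6 ≤ n) : 5 ^ n * 3 ^ (n - 1) < (2 ^ (n - 1) * (2 ^ n - 1)) ^ 2 := by
  induction n, hn using Nat.le_induction with
  | base => norm_num
  | succ n hn ih =>
    obtain ⟨b, rfl⟩ : ∃ b, n = b + 1 := ⟨n - 1, by omega⟩
    rw [show b + 1 + 1 - 1 = b + 1 by omega]
    rw [show b + 1 - 1 = b by omega] at ih
    have h1 : 1 ≤ 2 ^ (b + 1) := Nat.one_le_two_pow
    have h2 : 2 * (2 ^ (b + 1) - 1) ≤ 2 ^ (b + 1 + 1) - 1 := by
      rw [pow_succ 2 (b + 1)]
      omega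
    calc 5 ^ (b + 1 + 1) * 3 ^ (b + 1) = 5 ^ (b + 1) * 3 ^ b * 15 := by ring
      _ < (2 ^ b * (2 ^ (b + 1) - 1)) ^ 2 * 16 := Nat.mul_lt_mul_of_lt_of_le ih (by norm_num) (by norm_num)
      _ = (2 ^ (b + 1) * (2 * (2 ^ (b + 1) - 1))) ^ 2 := by rw [pow_succ 2 b]; ring
      _ ≤ (2 ^ (b + 1) * (2 ^ (b + 1 + 1) - 1)) ^ 2 := Nat.pow_le_pow_left (Nat.mul_le_mul_left _ h2) 2

/-- Task N -/
theorem num {q p e n r w k : ℕ} {l : List ℕ} (hq : q = p ^ e) (hp : p.Prime) (he : 1 ≤ e) (hn : 3 ≤ n)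
    (hl : l.sum = n) (hl1 : ∀ m ∈ l, 1 ≤ m) (hl2 : q ≤ 3 → ∀ m ∈ l, 2 ≤ m) (hr : r.Prime) (hr3 : 3 ≤ r)
    (hk : k ≤ n) (hw : r ^ w ∣ k.factorial) :
    (3 ≤ q → (l.map fun m => q ^ m + 1).prod * r ^ w * (Nat.gcd 2 (q - 1) * e) < (q ^ (2 * n) - 1) / (q - 1)) ∧
      (q = 2 → (l.map fun m => q ^ m + 1).prod * r ^ w < 2 ^ (n - 1) * (2 ^ n - 1)) := by
  have hrw : (r ^ w) ^ 2 ≤ 3 ^ (n - 1) := (fact_bound hr hr3 hw).trans (Nat.pow_le_pow_right (by norm_num) (by omega))
  constructor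
  · intro hq3
    refine lt_of_le_of_lt ?_ (geo (by omega) (by omega))
    rcases Nat.lt_or_ge q 4 with h | h
    · have h3 : q = 3 := by omega
      have he1 : e = 1 := by
        have hpe : p ^ e = 3 := hq.symm.trans h3
        have h4 : p ∣ 3 := hpe ▸ dvd_pow_self p (by omega)
        have h5 : p = 3 := (Nat.prime_dvd_prime_iff_eq hp Nat.prime_three).1 h4
        rw [h5] at hpe
        exact Nat.pow_right_injective (show 2 ≤ 3 by norm_num) (hpe.trans (pow_one 3).symm)
      have hP := prod2 (q := q) l (hl2 (by omega))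
      rw [hl] at hP
      subst h3
      rw [he1]
      have h6 := three hn
      refine (Nat.pow_le_pow_iff_left (n := 2) two_ne_zero).1 ?_
      calc ((l.map fun m => 3 ^ m + 1).prod * r ^ w * (Nat.gcd 2 (3 - 1) * 1)) ^ 2
          = (l.map fun m => 3 ^ m + 1).prod ^ 2 * (r ^ w) ^ 2 * 4 := by norm_num; ring
        _ ≤ (3 ^ 2 + 1) ^ n * 3 ^ (n - 1) * 4 := Nat.mul_le_mul_right _ (Nat.mul_le_mul hP hrw)
        _ = 10 ^ n * 3 ^ (n - 1) * 4 := by norm_num
        _ ≤ (3 ^ (2 * n - 1)) ^ 2 := h6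
    · have hP := prod1 (q := q) l hl1
      rw [hl] at hP
      have hg := two_mul_gcd hq hp he h
      have h6 := big h hn
      set g := Nat.gcd 2 (q - 1) * e
      refine (Nat.pow_le_pow_iff_left (n := 2) two_ne_zero).1 ?_
      refine Nat.le_of_mul_le_mul_left ?_ (show 0 < 4 by norm_num)
      calc 4 * ((l.map fun m => q ^ m + 1).prod * r ^ w * g) ^ 2
          = (l.map fun m => q ^ m + 1).prod ^ 2 * (r ^ w) ^ 2 * (2 * g) ^ 2 := by ring
        _ ≤ ((q + 1) ^ n) ^ 2 * 3 ^ (n - 1) * q ^ 2 :=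
          Nat.mul_le_mul (Nat.mul_le_mul (Nat.pow_le_pow_left hP 2) hrw) (Nat.pow_le_pow_left hg 2)
        _ = (q + 1) ^ (2 * n) * 3 ^ (n - 1) * q ^ 2 := by rw [← pow_mul, mul_comm n 2]
        _ ≤ _ := h6
  · intro h2
    have hP := prod2 (q := q) l (hl2 (by omega))
    rw [hl] at hP
    subst h2
    have hodd : ¬ 2 ∣ r ^ w := by
      intro h
      have := (Nat.prime_dvd_prime_iff_eq Nat.prime_two hr).1 (Nat.prime_two.dvd_of_dvd_pow h)
      omega
    rcases Nat.lt_or_ge n 6 with h | h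
    · interval_cases n
      · -- `n = 3`
        have hrw3 : r ^ w ≤ 3 := by
          have : (r ^ w) ^ 2 ≤ 3 ^ 2 := hrw
          exact (Nat.pow_le_pow_iff_left (n := 2) two_ne_zero).1 this
        have hl3 : l = [3] := by
          rcases l with _ | ⟨a, _ | ⟨b, t⟩⟩
          · simp at hl
          · simp only [List.sum_cons, List.sum_nil, add_zero] at hl
            rw [hl]
          · have h1 := hl2 (by norm_num) a (by simp)
            have h2 := hl2 (by norm_num) b (by simp)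
            simp only [List.sum_cons] at hl
            omega
        rw [hl3]
        norm_num
        omega
      · have hP' : (l.map fun m => 2 ^ m + 1).prod ≤ 25 := by
          refine (Nat.pow_le_pow_iff_left (n := 2) two_ne_zero).1 (hP.trans ?_)
          norm_num
        have h5 : r ^ w ≤ 5 := by
          by_contra h5
          have h6 : 6 ^ 2 ≤ (r ^ w) ^ 2 := Nat.pow_le_pow_left (by omega) 2
          norm_num at h6 hrw
          omega
        have h24 : r ^ w ∣ 24 := hw.trans (Nat.factorial_dvd_factorial hk)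
        have h3 : r ^ w ≤ 3 := by
          generalize r ^ w = x at *
          interval_cases x <;> omega
        calc (l.map fun m => 2 ^ m + 1).prod * r ^ w ≤ 25 * 3 := Nat.mul_le_mul hP' h3
          _ < _ := by norm_num
      · have hP' : (l.map fun m => 2 ^ m + 1).prod ≤ 55 := by
          by_contra h5
          have h6 : 56 ^ 2 ≤ (l.map fun m => 2 ^ m + 1).prod ^ 2 := Nat.pow_le_pow_left (by omega) 2
          norm_num at h6 hP
          omega
        have h5 : r ^ w ≤ 9 := by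
          refine (Nat.pow_le_pow_iff_left (n := 2) two_ne_zero).1 (hrw.trans ?_)
          norm_num
        calc (l.map fun m => 2 ^ m + 1).prod * r ^ w ≤ 55 * 9 := Nat.mul_le_mul hP' h5
          _ < _ := by norm_num
    · refine (Nat.pow_lt_pow_iff_left (n := 2) two_ne_zero).1 ?_
      calc ((l.map fun m => 2 ^ m + 1).prod * r ^ w) ^ 2
          = (l.map fun m => 2 ^ m + 1).prod ^ 2 * (r ^ w) ^ 2 := by ring
        _ ≤ (2 ^ 2 + 1) ^ n * 3 ^ (n - 1) := Nat.mul_le_mul hP hrw
        _ = 5 ^ n * 3 ^ (n - 1) := by norm_num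
        _ < _ := two h

end Cfsg.Agent.H491.DP
end

-- part: H602/DP/CaseC_mg
section
set_option linter.all false
open scoped Cfsg.Agent.FastGrp

-- part: H602/DP/CaseC
section
/-!
# S4247, row `PSp`, characteristic not in `π`: the case `C_V(T) = 0` (helper602)
-/

set_option autoImplicit false
set_option linter.unusedSectionVars false

namespace Cfsg.Agent.H602.DP

open Module Subgroup Cfsg Matrix Cfsg.Agent.H167.OP Cfsg.Agent.H170.HL Cfsg.Agent.H988.CPi Cfsg.Agent.H571.RV
  Cfsg.Agent.H572.RV Cfsg.Agent.H817.DPi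

universe u

theorem sum_half {l : List ℕ} (hl : ∀ d ∈ l, Even d) : (l.map fun d => d / 2).sum * 2 = l.sum := by
  induction l with
  | nil => rfl
  | cons a l ih =>
    rw [List.map_cons, List.sum_cons, List.sum_cons, add_mul, ih fun d hd => hl d (List.mem_cons_of_mem _ hd)]
    obtain ⟨b, hb⟩ := hl a List.mem_cons_self
    omega

/-- the standard form is alternating -/
theorem frm_alt {F : Type*} [Field F] {m : ℕ} (v : Fin m ⊕ Fin m → F) : SpRow.frm m F v v = 0 := by
  rw [SpRow.frm_apply]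
  have h1 : J (Fin m) F *ᵥ v = Sum.elim (fun i => - v (Sum.inr i)) (fun i => v (Sum.inl i)) := by
    funext i
    rcases i with i | i
    · simp only [J, Matrix.fromBlocks_mulVec, Sum.elim_inl, zero_mulVec, zero_add, neg_mulVec, one_mulVec]
      rfl
    · simp only [J, Matrix.fromBlocks_mulVec, Sum.elim_inr, zero_mulVec, add_zero, one_mulVec]
      rfl
  rw [h1, dotProduct, Fintype.sum_sum_type, ← Finset.sum_add_distrib]
  apply Finset.sum_eq_zero
  intro i _
  simp only [Sum.elim_inl, Sum.elim_inr]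
  ring

theorem even_of_nd {F : Type*} [Field F] {m : ℕ} {U : Submodule F (Fin m ⊕ Fin m → F)}
    (hU : ND (SpRow.frm m F) U) : Even (finrank F U) := by
  let B : LinearMap.BilinForm F U := (SpRow.frm m F).domRestrict₁₂ U U
  have hB : ∀ x y : U, B x y = SpRow.frm m F x y := fun x y => rfl
  have hA : B.IsAlt := fun x => frm_alt (x : Fin m ⊕ Fin m → F)
  obtain ⟨a, k, b, h1, h2, h3, h4⟩ := Cfsg.Agent.S0752.result B hA
  have hk : k = 0 := by
    by_contra hk
    have h5 := h4 ⟨0, Nat.pos_of_ne_zero hk⟩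
    apply b.ne_zero (Sum.inr ⟨0, Nat.pos_of_ne_zero hk⟩)
    apply Subtype.ext
    apply hU _ (b (Sum.inr ⟨0, Nat.pos_of_ne_zero hk⟩)).2
    intro x hx
    have h6 := h5 ⟨x, hx⟩
    rw [hB] at h6
    rw [SpRow.frm_sym, h6, mul_zero]
  subst hk
  rw [Module.finrank_eq_card_basis b]
  simp only [_root_.Fintype.card_sum, _root_.Fintype.card_fin, _root_.Fintype.card_eq_zero, _root_.add_zero, _root_.Even.add_self]

theorem index_ge {S : Type*} [Group S] {F : Type*} [Field F] [Fintype F] {m : ℕ} (hm : 3 ≤ m) (e : S ≃* PSp m F)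
    {B : Subgroup S} (hB : B ≠ ⊤) :
    (3 ≤ Fintype.card F → (Fintype.card F ^ (2 * m) - 1) / (Fintype.card F - 1) ≤ B.index) ∧
      (Fintype.card F = 2 → 2 ^ (m - 1) * (2 ^ m - 1) ≤ B.index) := by
  have h1 : B.map e.toMonoidHom ≠ ⊤ := by
    intro h
    apply hB
    apply Subgroup.map_injective (f := e.toMonoidHom) e.injective
    show B.map e.toMonoidHom = Subgroup.map e.toMonoidHom ⊤
    rw [h, ← MonoidHom.range_eq_map, MonoidHom.range_eq_top.mpr e.surjective]
  have h2 : (B.map e.toMonoidHom).index = B.index :=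
    Subgroup.index_map_of_bijective (f := e.toMonoidHom) e.bijective B
  constructor
  · intro h
    have := (Cfsg.Agent.S2141.result (F := F) rfl m (by omega) h (by omega)).1 _ h1
    rwa [h2] at this
  · intro h
    have := (Cfsg.Agent.S2142.result (F := F) h m hm).1 _ h1
    rwa [h2] at this

theorem card_out {S : Type u} [Group S] [Finite S] [IsSimpleGroup S] (hna : ¬ IsMulCommutative S)
    {F : Type*} [Field F] [Fintype F] {m : ℕ} (hm : 3 ≤ m) (e : S ≃* PSp m F) {p f : ℕ} (hp : p.Prime) (hf : 1 ≤ f)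
    (hF : Fintype.card F = p ^ f) : Nat.card (Cfsg.Out S) = Nat.gcd 2 (Fintype.card F - 1) * f := by
  have := Fact.mk hp
  have h1 := Cfsg.Agent.S0814.result (F := F) p f hf hF m (by omega) (by omega)
  rw [if_neg (by omega), one_mul] at h1
  apply Cfsg.Agent.H934.OutB.card_out_of_aut hna
  rw [Nat.card_congr (MulAut.congr e).toEquiv, h1, hF, Nat.card_congr e.toEquiv]

/-- **case C** -/
theorem caseC {π : Set ℕ} {S : Type u} [Group S] [Finite S] [IsSimpleGroup S] (hna : ¬ IsMulCommutative S)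
    {F : Type} [Field F] [Fintype F] {m p : ℕ} [CharP F p] (e : S ≃* PSp m F)
    {P : Subgroup S} {K B : Subgroup (MulAut S)} (hC : Cfg π P K B)
    {H : Subgroup (symplecticGroup (Fin m) F)}
    {r t : ℕ} (hr : r.Prime) (hr3 : 3 ≤ r) (hrt : r < t) {T : Subgroup (symplecticGroup (Fin m) F)}
    (hTS : TS (rep (SpRow.inc m F)) (SpRow.frm m F) (fun _ => 0) t T)
    (hnc : ¬ H ≤ centralizer (T : Set (symplecticGroup (Fin m) F)))
    (hrel : ∀ s : ℕ, s.Prime → s ∣ (centralizer (T : Set (symplecticGroup (Fin m) F))).relIndex H → s = r)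
    {k : ℕ} (h2k : 2 * k ≤ finrank F (CV (rep (SpRow.inc m F)) T))
    (hkd : (centralizer (T : Set (symplecticGroup (Fin m) F))).relIndex H ∣ k.factorial)
    (h0 : Orth (SpRow.frm m F) (CV (rep (SpRow.inc m F)) T) = ⊥)
    -- `card_mul_le` (task M)
    (hM : ∀ K' : Subgroup S, PiN' π (Nat.card K') → (∀ x ∈ P, ∀ k ∈ K', x * k = k * x) →
      Nat.card P * Nat.card K' ≤ (centralizer (T : Set (symplecticGroup (Fin m) F))).relIndex H *
        Nat.card (centralizer (T : Set (symplecticGroup (Fin m) F))))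
    -- `exists_list` (task C)
    (hl : Inv (rep (SpRow.inc m F)) T ⊤ → ND (SpRow.frm m F) ⊤ →
      (∀ u ∈ (⊤ : Submodule F (Fin m ⊕ Fin m → F)), (∀ z ∈ T, rep (SpRow.inc m F) z u = u) → u = 0) →
      ∃ l : List ℕ, l.sum = finrank F (⊤ : Submodule F (Fin m ⊕ Fin m → F)) ∧
      (∀ d ∈ l, ∃ U' ≤ (⊤ : Submodule F (Fin m ⊕ Fin m → F)), Mn (rep (SpRow.inc m F)) (SpRow.frm m F) T U' ∧
        finrank F U' = d ∧ t ∣ Nat.card F ^ d - 1) ∧
      cnt (rep (SpRow.inc m F)) T ⊤ ≤ (l.map fun d => Nat.card F ^ (d / 2) + 1).prod) : False := by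
  classical
  set ρ := rep (SpRow.inc m F) with hρ
  set C := centralizer (T : Set (symplecticGroup (Fin m) F)) with hCd
  have hfr : finrank F (Fin m ⊕ Fin m → F) = 2 * m := by
    rw [Module.finrank_fintype_fun_eq_card, Fintype.card_sum, Fintype.card_fin]; ring
  have hkm : k ≤ m := by
    have := (CV ρ T).finrank_le
    rw [hfr] at this
    omega
  -- the index is a power of `r`
  have hrel0 : C.relIndex H ≠ 0 := ne_zero_of_dvd_ne_zero Nat.card_pos.ne' (Subgroup.relIndex_dvd_card C H)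
  have hrw := Nat.eq_prime_pow_of_unique_prime_dvd hrel0 (fun {d} hd hdv => hrel d hd hdv)
  set w := (C.relIndex H).primeFactorsList.length
  have hw : r ^ w ∣ k.factorial := by rw [← hrw]; exact hkd
  have hrel1 : C.relIndex H ≠ 1 := by
    intro h
    exact hnc (Subgroup.relIndex_eq_one.mp h)
  have hrk : r ≤ k := by
    have hw0 : w ≠ 0 := by
      intro h
      rw [h, pow_zero] at hrw
      exact hrel1 hrw
    exact (hr.dvd_factorial).mp ((dvd_pow_self r hw0).trans hw)
  have hm3 : 3 ≤ m := by omega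
  -- the list
  obtain ⟨l, hl1, hl2, hl3⟩ := hl (fun _ _ _ _ => trivial)
    (fun u _ hx => SpRow.frm_nondeg u fun y => hx y trivial) (fun u _ hz => by
      have h1 : u ∈ Orth (SpRow.frm m F) (CV ρ T) := (mem_Orth_CV hTS.toIsoG).mpr hz
      rw [h0] at h1
      exact (Submodule.mem_bot F).mp h1)
  rw [finrank_top, hfr] at hl1
  have hev : ∀ d ∈ l, Even d := by
    intro d hd
    obtain ⟨U', -, hU', rfl, -⟩ := hl2 d hd
    exact even_of_nd hU'.nd
  have hpos : ∀ d ∈ l, d ≠ 0 := by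
    intro d hd h
    obtain ⟨U', -, hU', hfd, -⟩ := hl2 d hd
    rw [h] at hfd
    obtain ⟨z, -, x, hx, hne⟩ := hU'.act
    have h1 : U' = ⊥ := Submodule.finrank_eq_zero.mp hfd
    rw [h1, Submodule.mem_bot] at hx
    rw [hx, map_zero] at hne
    exact hne rfl
  have ht5 : 5 ≤ t := by
    have h1 := hTS.hto
    obtain ⟨a, rfl⟩ := h1
    omega
  have hFc : Nat.card F = Fintype.card F := Nat.card_eq_fintype_card
  have h4 : Fintype.card F ≤ 3 → ∀ d ∈ l, d ≠ 2 := by
    intro hq d hd h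
    obtain ⟨U', -, -, -, hdv⟩ := hl2 d hd
    rw [h, hFc] at hdv
    have hq2 : 2 ≤ Fintype.card F := Fintype.one_lt_card
    rcases (show Fintype.card F = 2 ∨ Fintype.card F = 3 by omega) with h1 | h1
    · rw [h1] at hdv
      have := Nat.le_of_dvd (by norm_num) hdv
      omega
    · rw [h1] at hdv
      have h2 : t ∣ 2 ^ 3 := hdv
      have := (Nat.prime_dvd_prime_iff_eq hTS.ht Nat.prime_two).mp (hTS.ht.dvd_of_dvd_pow h2)
      omega
  set l' := l.map fun d => d / 2 with hl'
  have hsum : l'.sum = m := by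
    have := sum_half hev
    rw [hl1] at this
    rw [hl']
    omega
  have hprod : (l'.map fun a => Fintype.card F ^ a + 1).prod = (l.map fun d => Nat.card F ^ (d / 2) + 1).prod := by
    rw [hl', List.map_map, hFc]
    rfl
  have hl'1 : ∀ a ∈ l', 1 ≤ a := by
    intro a ha
    rw [hl', List.mem_map] at ha
    obtain ⟨d, hd, rfl⟩ := ha
    obtain ⟨b, hb⟩ := hev d hd
    have := hpos d hd
    omega
  have hl'2 : Fintype.card F ≤ 3 → ∀ a ∈ l', 2 ≤ a := by
    intro hq a ha
    rw [hl', List.mem_map] at ha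
    obtain ⟨d, hd, rfl⟩ := ha
    obtain ⟨b, hb⟩ := hev d hd
    have := hpos d hd
    have := h4 hq d hd
    omega
  -- the order of the centraliser
  have hCc : Nat.card C ≤ cnt ρ T ⊤ := by
    have hinj : Function.Injective fun u : C => (ρ (u : symplecticGroup (Fin m) F)).domRestrict
        (⊤ : Submodule F (Fin m ⊕ Fin m → F)) := by
      intro a b hab
      apply Subtype.ext
      apply hTS.inj
      apply LinearMap.ext
      intro v
      exact congrArg (fun g : (⊤ : Submodule F (Fin m ⊕ Fin m → F)) →ₗ[F] (Fin m ⊕ Fin m → F) => g ⟨v, trivial⟩) hab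
    rw [cnt, Nat.card_congr (Equiv.ofInjective _ hinj)]
  obtain ⟨f, hpp, hf⟩ := FiniteField.card F p
  obtain ⟨B', K', hB', hidx, hPK, hK'⟩ := Cfsg.Agent.H462.DPK.cfg_bound hna hC
  have hnum := Cfsg.Agent.H491.DP.num (q := Fintype.card F) (p := p) (e := f) (n := m) (r := r) (w := w) (k := k)
    (l := l') hf hpp f.pos hm3 hsum hl'1 hl'2 hr hr3 hkm hw
  have hge := index_ge hm3 e hB'
  have hout := card_out hna hm3 e hpp f.pos hf
  have hPK' := hM K' hK' hPK
  have hbound : Nat.card P * Nat.card K' ≤ (l'.map fun a => Fintype.card F ^ a + 1).prod * r ^ w := by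
    rw [hprod, ← hrw]
    refine hPK'.trans ?_
    rw [mul_comm (C.relIndex H)]
    exact Nat.mul_le_mul_right _ (hCc.trans hl3)
  rw [hout] at hidx
  have hidx' := hidx.trans (Nat.mul_le_mul_right _ hbound)
  have hq2 : 2 ≤ Fintype.card F := Fintype.one_lt_card
  rcases hq2.eq_or_lt with h | h
  · have h1 := hnum.2 h.symm
    have h2 := hge.2 h.symm
    have hp2 : (p : ℕ) ^ (f : ℕ) = 2 := by rw [← hf]; exact h.symm
    have hf1 : (f : ℕ) = 1 := by
      by_contra hne
      have hf2 : 2 ≤ (f : ℕ) := by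
        have := f.pos
        omega
      have h3 : 2 ^ 2 ≤ p ^ (f : ℕ) :=
        (Nat.pow_le_pow_left hpp.two_le 2).trans (Nat.pow_le_pow_right hpp.pos hf2)
      omega
    rw [← h, hf1] at hidx'
    have h5 : Nat.gcd 2 (2 - 1) * 1 = 1 := by decide
    rw [h5, mul_one, h] at hidx'
    omega
  · have h1 := hnum.1 h
    have h2 := hge.1 h
    omega

end Cfsg.Agent.H602.DP
end

-- part: H680/DP/ExTS
section
/-!
# S4247 [Sp-R]: the abelian Sylow `t`-subgroup of a non-nilpotent Hall subgroup (helper680)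
-/

set_option autoImplicit false
set_option linter.unusedSectionVars false

namespace Cfsg.Agent.H680.DP

open Module Subgroup Cfsg Cfsg.Agent.H167.OP Cfsg.Agent.H170.HL Cfsg.Agent.H988.CPi Cfsg.Agent.H560.HallKey
  Cfsg.Agent.H553.OddHall Cfsg.Agent.H571.RV Cfsg.Agent.H572.RV Cfsg.Agent.H602.DP

section grp

variable {G : Type*} [Group G]

/-- the `t`-elements of an abelian subgroup -/
def TT (t : ℕ) (A : Subgroup G) (hab : ∀ a ∈ A, ∀ b ∈ A, a * b = b * a) : Subgroup G where
  carrier := {a | a ∈ A ∧ ∃ k : ℕ, a ^ t ^ k = 1}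
  mul_mem' := by
    rintro a b ⟨ha, k, hk⟩ ⟨hb, l, hl⟩
    refine ⟨A.mul_mem ha hb, k + l, ?_⟩
    have hc : Commute a b := hab a ha b hb
    rw [hc.mul_pow, pow_add, pow_mul, hk, one_pow, one_mul, mul_comm, pow_mul, hl, one_pow]
  one_mem' := ⟨A.one_mem, 0, one_pow _⟩
  inv_mem' := by
    rintro a ⟨ha, k, hk⟩
    exact ⟨A.inv_mem ha, k, by rw [inv_pow, hk, inv_one]⟩

theorem mem_TT {t : ℕ} {A : Subgroup G} {hab : ∀ a ∈ A, ∀ b ∈ A, a * b = b * a} {a : G} :
    a ∈ TT t A hab ↔ a ∈ A ∧ ∃ k : ℕ, a ^ t ^ k = 1 := Iff.rfl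

theorem TT_le {t : ℕ} {A : Subgroup G} {hab : ∀ a ∈ A, ∀ b ∈ A, a * b = b * a} : TT t A hab ≤ A := fun _ h => h.1

/-- `TT t A` contains a Sylow `t`-subgroup of `A` -/
theorem not_dvd_of_TT_le [Finite G] {t : ℕ} (ht : t.Prime) {A : Subgroup G}
    {hab : ∀ a ∈ A, ∀ b ∈ A, a * b = b * a} {D : Subgroup G} (hD : TT t A hab ≤ D) : ¬ t ∣ D.relIndex A := by
  have htf := Fact.mk ht
  obtain ⟨P⟩ : Nonempty (Sylow t A) := inferInstance
  intro hd
  have h1 : (P : Subgroup A) ≤ D.subgroupOf A := by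
    intro x hx
    obtain ⟨k, hk⟩ := P.2 ⟨x, hx⟩
    refine hD (mem_TT.2 ⟨x.2, k, ?_⟩)
    exact congrArg (fun y : (P : Subgroup A) => ((y : A) : G)) hk
  exact P.not_dvd_index (hd.trans (Subgroup.index_dvd_of_le h1))

/-- an abelian normal subgroup which is not central, with nilpotent quotient -/
theorem exists_TT [Finite G] {r : ℕ} (hr : r.Prime) {A H : Subgroup G} (hAH : A ≤ H)
    (hn : H ≤ Subgroup.normalizer (A : Set G)) (hab : ∀ a ∈ A, ∀ b ∈ A, a * b = b * a)
    (hidx : ∀ p : ℕ, p.Prime → p ∣ A.relIndex H → p = r) (hnn : ¬ Group.IsNilpotent H) :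
    ∃ t : ℕ, t.Prime ∧ ¬ H ≤ Subgroup.centralizer (TT t A hab : Set G) := by
  classical
  by_contra hcon
  push Not at hcon
  apply hnn
  have hc : A ≤ Subgroup.centralizer (H : Set G) := by
    have h1 : (Subgroup.centralizer (H : Set G)).relIndex A = 1 := by
      by_contra hne
      obtain ⟨t, ht, hd⟩ := Nat.exists_prime_and_dvd hne
      refine not_dvd_of_TT_le ht (hab := hab) ?_ hd
      intro a ha
      rw [Subgroup.mem_centralizer_iff]
      intro g hg
      exact (Subgroup.mem_centralizer_iff.1 (hcon t ht hg) a ha).symm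
    exact Subgroup.relIndex_eq_one.1 h1
  have hN : (A.subgroupOf H).Normal := (Subgroup.normal_subgroupOf_iff_le_normalizer hAH).mpr hn
  have hrf := Fact.mk hr
  have hq : IsPGroup r (H ⧸ A.subgroupOf H) := by
    have h2 : ∃ n : ℕ, Nat.card (H ⧸ A.subgroupOf H) = r ^ n := by
      have h3 : A.relIndex H ≠ 0 := Nat.ne_of_gt (Nat.pos_of_ne_zero Subgroup.index_ne_zero_of_finite)
      refine ⟨_, Nat.eq_prime_pow_of_unique_prime_dvd h3 ?_⟩
      intro d hd hdd
      exact hidx d hd hdd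
    obtain ⟨n, hn'⟩ := h2
    exact IsPGroup.of_card hn'
  have hqn : Group.IsNilpotent (H ⧸ A.subgroupOf H) := hq.isNilpotent
  refine Subgroup.isNilpotent_of_ker_le_center (QuotientGroup.mk' (A.subgroupOf H)) ?_
  rw [QuotientGroup.ker_mk']
  rintro ⟨a, haH⟩ ha
  rw [Subgroup.mem_center_iff]
  rintro ⟨g, hg⟩
  apply Subtype.ext
  exact (Subgroup.mem_centralizer_iff.1 (hc ha) g hg)

end grp

variable {F : Type*} [Field F] [Finite F] {V : Type*} [AddCommGroup V] [Module F V] [Finite V]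
  [FiniteDimensional F V] {G : Type*} [Group G] [Finite G]
  {ρ : Representation F G V} {f : V →ₗ[F] V →ₗ[F] F} {Q : V → F}

/-- **Task R** -/
theorem exists_TS (h : IsoG ρ f Q) {π : Set ℕ} (h2 : 2 ∉ π) (hp : ∀ r ∈ π, r.Prime → (r : F) ≠ 0)
    {H : Subgroup G} (hH : IsPiHall π H) (hnn : ¬ Group.IsNilpotent H) :
    ∃ (r t : ℕ) (T : Subgroup G), r.Prime ∧ 3 ≤ r ∧ r < t ∧ t ∈ π ∧ TS ρ f Q t T ∧ T ≤ H ∧
      H ≤ normalizer (T : Set G) ∧ ¬ H ≤ centralizer (T : Set G) ∧
      ∀ s : ℕ, s.Prime → s ∣ (centralizer (T : Set G)).relIndex H → s = r := by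
  classical
  obtain ⟨r, hr, A, hAH, hn, hab, hrA, hidx⟩ := h.fhall h2 hp hH
  obtain ⟨t, ht, hnc⟩ := exists_TT hr hAH hn hab hidx hnn
  set T := TT t A hab with hTdef
  have htf := Fact.mk ht
  have hrf := Fact.mk hr
  have hTA : T ≤ A := TT_le
  have hTH : T ≤ H := hTA.trans hAH
  -- a nontrivial element of `T`
  obtain ⟨x, hx, hx1⟩ : ∃ x ∈ T, x ≠ 1 := by
    by_contra hcon
    push Not at hcon
    apply hnc
    intro g _
    rw [Subgroup.mem_centralizer_iff]
    intro a ha
    rw [hcon a ha, one_mul, mul_one]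
  have htA : t ∣ Nat.card A := by
    obtain ⟨hxA, k, hk⟩ := hx
    have h3 : orderOf x ∣ t ^ k := orderOf_dvd_of_pow_eq_one hk
    obtain ⟨j, -, hj⟩ := (Nat.dvd_prime_pow ht).1 h3
    have hj0 : j ≠ 0 := by
      rintro rfl
      rw [pow_zero, orderOf_eq_one_iff] at hj
      exact hx1 hj
    have h4 : t ∣ orderOf x := by
      rw [hj]
      exact dvd_pow_self t hj0
    exact h4.trans (Subgroup.orderOf_dvd_natCard A hxA)
  have htr : t ≠ r := by
    rintro rfl
    exact hrA htA
  have htπ : t ∈ π := hH.1 t ht (htA.trans (Subgroup.card_dvd_of_le hAH))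
  -- `T` is normal in `H`
  have hTn' : ∀ g ∈ H, ∀ a ∈ T, g * a * g⁻¹ ∈ T := by
    rintro g hg a ⟨haA, k, hk⟩
    refine ⟨(Subgroup.mem_normalizer_iff.1 (hn hg) a).1 haA, k, ?_⟩
    rw [conj_pow, hk, mul_one, mul_inv_cancel]
  have hTn : H ≤ normalizer (T : Set G) := by
    intro g hg
    rw [Subgroup.mem_normalizer_iff]
    intro a
    refine ⟨hTn' g hg a, fun ha => ?_⟩
    have := hTn' g⁻¹ (H.inv_mem hg) _ ha
    simpa [mul_assoc] using this
  -- the index of `T` is prime to `t`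
  have hTi : ¬ t ∣ T.index := by
    intro hd
    rw [← Subgroup.relIndex_mul_index hTH, ht.dvd_mul] at hd
    rcases hd with hd | hd
    · rw [← Subgroup.relIndex_mul_relIndex T A H hTA hAH, ht.dvd_mul] at hd
      rcases hd with hd | hd
      · exact not_dvd_of_TT_le ht le_rfl hd
      · exact htr (hidx t ht hd)
    · exact hH.2 t ht htπ hd
  have hTp : IsPGroup t T := by
    rintro ⟨a, ha, k, hk⟩
    exact ⟨k, Subtype.ext hk⟩
  have hmx : ∀ y : G, (∃ k : ℕ, y ^ t ^ k = 1) → (∀ z ∈ T, z * y = y * z) → y ∈ T := by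
    rintro y ⟨k, hk⟩ hy
    have hyp : IsPGroup t (Subgroup.zpowers y) := by
      rintro ⟨a, j, rfl⟩
      refine ⟨k, Subtype.ext ?_⟩
      show (y ^ j) ^ t ^ k = 1
      rw [← zpow_natCast, ← zpow_mul, mul_comm, zpow_mul, zpow_natCast, hk, one_zpow]
    have hyn : Subgroup.zpowers y ≤ Subgroup.normalizer (T : Set G) := by
      rw [Subgroup.zpowers_le, Subgroup.mem_normalizer_iff]
      intro a
      constructor
      · intro ha
        rwa [← hy a ha, mul_inv_cancel_right]
      · intro ha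
        have h3 := hy _ ha
        have h4 : y * a * y⁻¹ = a := by
          have : y * (y * a * y⁻¹) = y * a := by rw [← h3]; group
          exact mul_left_cancel this
        rwa [h4] at ha
    have h3 : IsPGroup t (Subgroup.zpowers y ⊔ T : Subgroup G) := hyp.to_sup_of_normal_right' hTp hyn
    have h4 : T.relIndex (Subgroup.zpowers y ⊔ T) = 1 := by
      by_contra hne
      obtain ⟨s, hs, hd⟩ := Nat.exists_prime_and_dvd hne
      obtain ⟨n, hn'⟩ := IsPGroup.iff_card.1 h3
      have h5 : s ∣ t ^ n := by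
        rw [← hn']
        exact hd.trans (Subgroup.relIndex_dvd_card _ _)
      have h6 : s = t := (Nat.prime_dvd_prime_iff_eq hs ht).1 (hs.dvd_of_dvd_pow h5)
      subst h6
      exact hTi (hd.trans (Subgroup.relIndex_dvd_index_of_le le_sup_right))
    exact (le_sup_left.trans (Subgroup.relIndex_eq_one.1 h4)) (Subgroup.mem_zpowers y)
  have hAc : A ≤ centralizer (T : Set G) := by
    intro a ha
    rw [Subgroup.mem_centralizer_iff]
    exact fun z hz => hab z (hTA hz) a ha
  have hs : ∀ s : ℕ, s.Prime → s ∣ (centralizer (T : Set G)).relIndex H → s = r := fun s hs hd =>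
    hidx s hs (hd.trans (Subgroup.relIndex_dvd_of_le_left H hAc))
  have hrπ : r ∈ π := by
    have h3 : (centralizer (T : Set G)).relIndex H ≠ 1 := fun e => hnc (Subgroup.relIndex_eq_one.1 e)
    obtain ⟨s, hs', hd⟩ := Nat.exists_prime_and_dvd h3
    have h4 := hs s hs' hd
    subst h4
    exact hH.1 s hs' (hd.trans (Subgroup.relIndex_dvd_card _ _))
  have hr3 : 3 ≤ r := by
    have h3 := hr.two_le
    rcases Nat.lt_or_ge r 3 with h4 | h4
    · have : r = 2 := by omega
      rw [this] at hrπ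
      exact absurd hrπ h2
    · exact h4
  refine ⟨r, t, T, hr, hr3, ?_, htπ, ?_, hTH, hTn, hnc, hs⟩
  · -- `r < t`
    by_contra hlt
    have htr' : t < r := lt_of_le_of_ne (not_lt.1 hlt) htr
    obtain ⟨T₀, S, hS⟩ := exists_sylow_map (t := r) hrπ hH
    have hT : SylT ρ f Q r H (S : Subgroup G) :=
      { toStd := h.std h2 hp hH hr hrπ
        hT := S.isPGroup'
        hTH := by rw [hS]; exact Subgroup.map_subtype_le _
        hmax := fun R hR hle => S.is_maximal' hR hle }
    have hfix : ∀ x ∈ (S : Subgroup G), ∀ U ∈ Bl ρ r H, U.map (ρ x) = U := by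
      by_contra hcon
      push Not at hcon
      exact hT.perm hH h2 hrπ hcon ht htπ htr'
    have hSB := hT.le_closure hfix
    set B := Subgroup.closure (Zs ρ r H) with hB
    have hBn : H ≤ Subgroup.normalizer (B : Set G) := hT.toStd.le_norm
    have hBp : IsPGroup r B := hT.toStd.closure_comm.2
    have hBH : B ≤ H := closure_le_H
    have hdis : A ⊓ B = ⊥ := by
      rw [Subgroup.eq_bot_iff_forall]
      rintro y ⟨hyA, hyB⟩
      obtain ⟨k, hk⟩ := hBp ⟨y, hyB⟩
      have hk' : y ^ r ^ k = 1 := congrArg Subtype.val hk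
      obtain ⟨j, -, hj⟩ := (Nat.dvd_prime_pow hr).1 (orderOf_dvd_of_pow_eq_one hk')
      by_contra hy1
      have hj0 : j ≠ 0 := by
        rintro rfl
        rw [pow_zero, orderOf_eq_one_iff] at hj
        exact hy1 hj
      apply hrA
      refine dvd_trans ?_ (Subgroup.orderOf_dvd_natCard A hyA)
      rw [hj]
      exact dvd_pow_self r hj0
    have hcomm : ∀ a ∈ A, ∀ b ∈ B, a * b = b * a := by
      intro a ha b hb
      have h1 : a * b * a⁻¹ * b⁻¹ ∈ B :=
        B.mul_mem ((Subgroup.mem_normalizer_iff.mp (hBn (hAH ha)) b).mp hb) (B.inv_mem hb)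
      have h3 : a * b * a⁻¹ * b⁻¹ ∈ A := by
        have h4 := (Subgroup.mem_normalizer_iff.mp (hn (hBH hb)) a⁻¹).mp (A.inv_mem ha)
        have h5 := A.mul_mem ha h4
        convert h5 using 1
        group
      have h5 : a * b * a⁻¹ * b⁻¹ = 1 := by
        have : a * b * a⁻¹ * b⁻¹ ∈ A ⊓ B := ⟨h3, h1⟩
        rwa [hdis, Subgroup.mem_bot] at this
      calc a * b = (a * b * a⁻¹ * b⁻¹) * (b * a) := by group
        _ = b * a := by rw [h5, one_mul]
    have hle : H ≤ A ⊔ B := by
      rw [← Subgroup.relIndex_eq_one]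
      by_contra hne
      obtain ⟨s, hs', hd⟩ := Nat.exists_prime_and_dvd hne
      have h4 : s = r := hidx s hs' (hd.trans (Subgroup.relIndex_dvd_of_le_left H le_sup_left))
      subst h4
      have h5 : (A ⊔ B).relIndex H ∣ (S : Subgroup G).relIndex H :=
        Subgroup.relIndex_dvd_of_le_left H (hSB.trans le_sup_right)
      exact S.not_dvd_index ((hd.trans h5).trans (Subgroup.relIndex_dvd_index_of_le hT.hTH))
    apply hnc
    refine hle.trans (sup_le hAc ?_)
    intro b hb
    rw [Subgroup.mem_centralizer_iff]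
    exact fun z hz => hcomm z (hTA hz) b hb
  · exact { toIsoG := h, ht := ht, hto := odd_of h2 ht htπ, htF := hp t htπ ht, hT := hTp,
            ab := fun a ha b hb => hab a (hTA ha) b (hTA hb), mx := hmx }

end Cfsg.Agent.H680.DP
end

private theorem dce_6b89e2c3969b : _root_.True := by
  try have : _root_.True := by simp only [_root_.Cfsg.Agent.H602.DP.cnt.eq_1]
  try have : _root_.True := by simp only [_root_.Cfsg.Agent.H680.DP.TT.congr_simp]
  exact _root_.True.intro
end

-- part: H572/DP/Hall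
section
set_option linter.all false
open scoped Cfsg.Agent.FastGrp

/-!
# Hall subgroups and parts on an invariant nondegenerate subspace (helper572)

`hall_inf` : the intersection of a Hall subgroup with a subgroup which it normalises is a Hall subgroup.

`part_mem` : the parts of the elements of a Hall subgroup `H` on an `H`-invariant nondegenerate subspace belong to `H`.
-/

set_option autoImplicit false
set_option linter.unusedSectionVars false

namespace Cfsg.Agent.H572.DP

open Module Subgroup Cfsg Cfsg.Agent.H167.OP Cfsg.Agent.H170.HL Cfsg.Agent.H988.CPi Cfsg.Agent.H571.RV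
  Cfsg.Agent.H572.RV

section abs

variable {G : Type*} [Group G] [Finite G] {π : Set ℕ} {H N R : Subgroup G}

/-- a `π`-group normalised by a Hall `π`-subgroup `H` is contained in `H` -/
theorem le_of_hall (hH : IsPiHall π H) (hR : PiN π (Nat.card R)) (hn : H ≤ normalizer (R : Set G)) : R ≤ H := by
  have h1 := card_sup hn
  have h2 : PiN π (Nat.card (H ⊔ R : Subgroup G)) := by
    rw [h1]
    exact PiN.mul hR (PiN.of_dvd hH.1 (Subgroup.relIndex_dvd_card _ _))
  have h3 : H.relIndex (H ⊔ R) = 1 := by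
    by_contra hne
    obtain ⟨p, hp, hd⟩ := Nat.exists_prime_and_dvd hne
    have hpπ := h2 p hp (hd.trans (Subgroup.relIndex_dvd_card _ _))
    exact hH.2 p hp hpπ (hd.trans (Subgroup.relIndex_dvd_index_of_le le_sup_left))
  exact le_sup_right.trans (Subgroup.relIndex_eq_one.mp h3)

/-- the intersection with a normalised subgroup is a Hall subgroup -/
theorem hall_inf (hH : IsPiHall π H) (hn : H ≤ normalizer (N : Set G)) : IsPiHall π (H.subgroupOf N) := by
  have h1 := card_sup hn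
  have h2 : Nat.card N = Nat.card (H.subgroupOf N) * (H.subgroupOf N).index := (Subgroup.card_mul_index _).symm
  have h3 : Nat.card (N.subgroupOf H) * N.relIndex H = Nat.card H := Subgroup.card_mul_index _
  have h4 : Nat.card (N.subgroupOf H) = Nat.card (H.subgroupOf N) := by
    rw [← Subgroup.card_map_of_injective H.subtype_injective, ← Subgroup.card_map_of_injective N.subtype_injective,
      Subgroup.subgroupOf_map_subtype, Subgroup.subgroupOf_map_subtype, inf_comm]
  have h5 : Nat.card H * H.relIndex (H ⊔ N) = Nat.card (H ⊔ N : Subgroup G) := by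
    rw [← Nat.card_congr (Subgroup.subgroupOfEquivOfLe (le_sup_left : H ≤ H ⊔ N)).toEquiv]
    exact Subgroup.card_mul_index _
  have h6 : (H.subgroupOf N).index = H.relIndex (H ⊔ N) := by
    have hp1 : 0 < Nat.card (H.subgroupOf N) := Nat.card_pos
    have hp2 : 0 < N.relIndex H := Nat.pos_of_ne_zero
      (ne_zero_of_dvd_ne_zero Nat.card_pos.ne' (Subgroup.relIndex_dvd_card N H))
    have h7 : (Nat.card (H.subgroupOf N) * N.relIndex H) * (H.subgroupOf N).index =
        (Nat.card (H.subgroupOf N) * N.relIndex H) * H.relIndex (H ⊔ N) := by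
      rw [← h4, h3, h5, h1, h2, ← h3, h4]
      ring
    exact Nat.eq_of_mul_eq_mul_left (Nat.mul_pos hp1 hp2) h7
  refine ⟨?_, ?_⟩
  · intro p hp hd
    rw [← Subgroup.card_map_of_injective N.subtype_injective, Subgroup.subgroupOf_map_subtype] at hd
    exact hH.1 p hp (hd.trans (Subgroup.card_dvd_of_le inf_le_left))
  · intro p hp hpπ hd
    rw [h6] at hd
    exact hH.2 p hp hpπ (hd.trans (Subgroup.relIndex_dvd_index_of_le le_sup_left))

end abs

variable {F : Type*} [Field F] [Finite F] {V : Type*} [AddCommGroup V] [Module F V] [Finite V]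
  [FiniteDimensional F V] {K : Type*} [Group K] [Finite K]
  {ρ : Representation F K V} {f : V →ₗ[F] V →ₗ[F] F} {Q : V → F} {U : Submodule F V} {H : Subgroup K} {π : Set ℕ}

/-- the group of the parts of the elements of `H` -/
def Pt (_h : IsoG ρ f Q) (_hU : ND f U) (hHU : ∀ g ∈ H, U.map (ρ g) = U) : Subgroup K where
  carrier := {k | ∃ x ∈ H, IsPart ρ f U x k}
  mul_mem' := by
    rintro a b ⟨x, hx, hxa⟩ ⟨y, hy, hyb⟩
    exact ⟨x * y, H.mul_mem hx hy, hxa.mul hyb fun u hu => mem_of_map (hHU y hy) hu⟩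
  one_mem' := ⟨1, H.one_mem, IsPart.one⟩
  inv_mem' := by
    rintro a ⟨x, hx, hxa⟩
    exact ⟨x⁻¹, H.inv_mem hx, hxa.inv (hHU x hx)⟩

theorem pt_card_dvd (h : IsoG ρ f Q) (hU : ND f U) (hHU : ∀ g ∈ H, U.map (ρ g) = U) :
    Nat.card (Pt h hU hHU) ∣ Nat.card H := by
  classical
  have hex : ∀ x : H, ∃ k, IsPart ρ f U (x : K) k := fun x =>
    h.exists_part hU fun u hu => mem_of_map (hHU x x.2) hu
  choose p hp using hex
  let φ : H →* Pt h hU hHU := MonoidHom.mk' (fun x => ⟨p x, x, x.2, hp x⟩) (by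
    intro x y
    apply Subtype.ext
    show p (x * y) = p x * p y
    have h1 : IsPart ρ f U ((x : K) * (y : K)) (p x * p y) := (hp x).mul (hp y) fun u hu => mem_of_map (hHU y y.2) hu
    exact (hp (x * y)).unique h.inj hU h1)
  have hφ : Function.Surjective φ := by
    rintro ⟨k, x, hx, hk⟩
    exact ⟨⟨x, hx⟩, Subtype.ext ((hp ⟨x, hx⟩).unique h.inj hU hk)⟩
  exact Subgroup.card_dvd_of_surjective φ hφ

theorem pt_norm (h : IsoG ρ f Q) (hU : ND f U) (hHU : ∀ g ∈ H, U.map (ρ g) = U) :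
    H ≤ normalizer (Pt h hU hHU : Set K) := by
  have key : ∀ g ∈ H, ∀ k ∈ Pt h hU hHU, g * k * g⁻¹ ∈ Pt h hU hHU := by
    rintro g hg k ⟨x, hx, hk⟩
    have h1 := hk.conj h g
    rw [hHU g hg] at h1
    exact ⟨g * x * g⁻¹, H.mul_mem (H.mul_mem hg hx) (H.inv_mem hg), h1⟩
  intro g hg
  rw [Subgroup.mem_normalizer_iff]
  intro k
  refine ⟨key g hg k, fun hk => ?_⟩
  have h1 := key g⁻¹ (H.inv_mem hg) _ hk
  have h2 : g⁻¹ * (g * k * g⁻¹) * g⁻¹⁻¹ = k := by group
  rwa [h2] at h1

/-- **parts of elements of a Hall subgroup** -/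
theorem part_mem (h : IsoG ρ f Q) (hU : ND f U) (hHU : ∀ g ∈ H, U.map (ρ g) = U) (hH : IsPiHall π H)
    {x k : K} (hx : x ∈ H) (hk : IsPart ρ f U x k) : k ∈ H := by
  have h1 : Pt h hU hHU ≤ H :=
    le_of_hall hH (PiN.of_dvd hH.1 (pt_card_dvd h hU hHU)) (pt_norm h hU hHU)
  exact h1 ⟨x, hx, hk⟩

end Cfsg.Agent.H572.DP
end

-- part: H602/DP/Row
section
prune_inst 0x1510350400e0000000180582c1001c428200000000488000800001020480cc602d002861b8201712183008440030006001000000420000000a000000011c00800000000201000008000000000080000000000000000000000000000000000000000000000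
set_option linter.all false
open scoped Cfsg.Agent.FastGrp

-- part: H199/DP/GVIso
section
/-!
# S4247, row `PSp`: the isometries trivial on the orthogonal space of `U` (helper199)

`GV_iso` : for a nondegenerate subspace `U` the group `GV U` is isomorphic to a symplectic group.
-/

set_option autoImplicit false
set_option linter.unusedSectionVars false

namespace Cfsg.Agent.H199.DP

open Module Subgroup Cfsg Matrix Cfsg.Agent.H167.OP Cfsg.Agent.H170.HL Cfsg.Agent.H572.RV Cfsg.Agent.H602.DP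

variable {F : Type*} [Field F] [Finite F] {m : ℕ} {U : Submodule F (Fin m ⊕ Fin m → F)}

theorem frm_self (u : Fin m ⊕ Fin m → F) : SpRow.frm m F u u = 0 := by
  rw [SpRow.frm_apply]
  have h1 : J (Fin m) F *ᵥ u = Sum.elim (-(u ∘ Sum.inr)) (u ∘ Sum.inl) := by
    conv_lhs => rw [← Sum.elim_comp_inl_inr u]
    rw [J, fromBlocks_mulVec]
    simp [neg_mulVec]
  rw [h1]
  conv_lhs => rw [← Sum.elim_comp_inl_inr u]
  rw [sumElim_dotProduct_sumElim, dotProduct_neg, dotProduct_comm]
  simp only [_root_.Sum.elim_comp_inl_inr, _root_.neg_add_cancel]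

theorem frm_eq_zero_comm {x y : Fin m ⊕ Fin m → F} (h : SpRow.frm m F x y = 0) : SpRow.frm m F y x = 0 := by
  rw [SpRow.frm_sym, h, mul_zero]

theorem orth_nd (hU : ND (SpRow.frm m F) U) : ND (SpRow.frm m F) (Orth (SpRow.frm m F) U) := by
  intro w hw h
  apply SpRow.frm_nondeg
  intro y
  obtain ⟨u, hu, w', hw', rfl⟩ := decomp hU y
  rw [map_add, LinearMap.add_apply, hw u hu, h w' hw', add_zero]

/-- `GV U` preserves `U` -/
theorem map_mem (hU : ND (SpRow.frm m F) U) {g : symplecticGroup (Fin m) F} (hg : g ∈ GV U)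
    {u : Fin m ⊕ Fin m → F} (hu : u ∈ U) : rep (SpRow.inc m F) g u ∈ U := by
  obtain ⟨u', hu', w', hw', he⟩ := decomp hU (rep (SpRow.inc m F) g u)
  have h1 : w' = 0 := by
    apply orth_nd hU w' hw'
    intro w hw
    apply frm_eq_zero_comm
    have h2 : SpRow.frm m F (rep (SpRow.inc m F) g u) (rep (SpRow.inc m F) g w) = 0 := by
      rw [SpRow.frm_iso]; exact hw u hu
    rw [hg w hw, he, map_add, LinearMap.add_apply, hw u' hu', zero_add] at h2
    exact h2
  rw [he, h1, add_zero]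
  exact hu'

/-- the action on `U` -/
noncomputable def act (hU : ND (SpRow.frm m F) U) : GV U →* (U ≃ₗ[F] U) where
  toFun g := LinearEquiv.ofLinearMap
    ((rep (SpRow.inc m F) (g : symplecticGroup (Fin m) F)).restrict (fun _ hu => map_mem hU g.2 hu))
    ((rep (SpRow.inc m F) ((g⁻¹ : GV U) : symplecticGroup (Fin m) F)).restrict
      (fun _ hu => map_mem hU (g⁻¹).2 hu))
    (by
      ext u : 2
      change rep (SpRow.inc m F) (g : symplecticGroup (Fin m) F)
        ((rep (SpRow.inc m F) (g : symplecticGroup (Fin m) F)⁻¹ (u : Fin m ⊕ Fin m → F) :)) = u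
      exact ap_inv _ _ _)
    (by
      ext u : 2
      change rep (SpRow.inc m F) (g : symplecticGroup (Fin m) F)⁻¹
        ((rep (SpRow.inc m F) (g : symplecticGroup (Fin m) F) (u : Fin m ⊕ Fin m → F) :)) = u
      exact inv_ap _ _ _)
  map_one' := by
    ext u : 2
    change rep (SpRow.inc m F) 1 (u : Fin m ⊕ Fin m → F) = u
    exact one_ap _ _
  map_mul' g h := by
    ext u : 2
    change rep (SpRow.inc m F) ((g : symplecticGroup (Fin m) F) * h) (u : Fin m ⊕ Fin m → F) = _
    exact mul_ap _ _ _ _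

theorem act_apply (hU : ND (SpRow.frm m F) U) (g : GV U) (u : U) :
    ((act hU g u : U) : Fin m ⊕ Fin m → F) = rep (SpRow.inc m F) (g : symplecticGroup (Fin m) F) u := rfl

theorem GV_iso (U : Submodule F (Fin m ⊕ Fin m → F)) (hU : ND (SpRow.frm m F) U) :
    ∃ k : ℕ, finrank F U = 2 * k ∧ Nonempty (GV (m := m) U ≃* symplecticGroup (Fin k) F) := by
  classical
  have : Fintype F := Fintype.ofFinite F
  have hc := isCompl_Orth (SpRow.frm m F) U hU
  refine H667.HerFin.exists_sp (act hU) ?_ ((SpRow.frm m F).domRestrict₁₂ U U) ?_ ?_ ?_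
  · intro g h hgh
    apply Subtype.ext
    refine eq_of_parts ((by exact rep_injective SpRow.inc_injective)) hU (fun u hu => ?_) (fun w hw => ?_)
    · have h1 := (congrArg (fun e : U ≃ₗ[F] U => ((e ⟨u, hu⟩ : U) : Fin m ⊕ Fin m → F)) hgh :)
      exact h1
    · rw [g.2 w hw, h.2 w hw]
  · intro u
    exact frm_self _
  · constructor
    · intro u hu
      apply Subtype.ext
      refine hU u u.2 fun x hx => ?_
      exact frm_eq_zero_comm (hu ⟨x, hx⟩)
    · intro u hu
      apply Subtype.ext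
      exact hU u u.2 fun x hx => hu ⟨x, hx⟩
  · intro g
    constructor
    · intro hg
      let A : Module.End F (Fin m ⊕ Fin m → F) :=
        LinearMap.ofIsCompl hc (U.subtype ∘ₗ (g : U →ₗ[F] U)) (Orth (SpRow.frm m F) U).subtype
      have hA1 : ∀ u : U, A u = (g u : U) := fun u => LinearMap.ofIsCompl_apply_left hc u
      have hA2 : ∀ w ∈ Orth (SpRow.frm m F) U, A w = w := fun w hw => LinearMap.ofIsCompl_apply_right hc ⟨w, hw⟩
      have hAf : ∀ u v, SpRow.frm m F (A u) (A v) = SpRow.frm m F u v := by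
        intro x y
        obtain ⟨a, ha, b, hb, rfl⟩ := decomp hU x
        obtain ⟨a', ha', b', hb', rfl⟩ := decomp hU y
        have e1 := hA1 ⟨a, ha⟩
        have e2 := hA1 ⟨a', ha'⟩
        have e3 := hg ⟨a, ha⟩ ⟨a', ha'⟩
        change SpRow.frm m F ((g ⟨a, ha⟩ : U) : Fin m ⊕ Fin m → F) ((g ⟨a', ha'⟩ : U) : Fin m ⊕ Fin m → F) =
          SpRow.frm m F a a' at e3
        simp only at e1 e2
        simp only [map_add, LinearMap.add_apply]
        rw [e1, e2, hA2 b hb, hA2 b' hb', e3, hb' _ (g ⟨a, ha⟩).2, hb' a ha,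
          frm_eq_zero_comm (hb _ (g ⟨a', ha'⟩).2), frm_eq_zero_comm (hb a' ha')]
      obtain ⟨k, hk⟩ := SpRow.exists_of_iso A hAf
      refine ⟨⟨k, fun w hw => ?_⟩, ?_⟩
      · rw [hk, hA2 w hw]
      · ext u : 2
        rw [act_apply]
        change rep (SpRow.inc m F) k u = _
        rw [hk, hA1]
    · rintro ⟨x, rfl⟩ u v
      change SpRow.frm m F (rep (SpRow.inc m F) (x : symplecticGroup (Fin m) F) u)
        (rep (SpRow.inc m F) (x : symplecticGroup (Fin m) F) v) = SpRow.frm m F u v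
      exact SpRow.frm_iso _ _ _

end Cfsg.Agent.H199.DP
end

-- part: H640/DP/CentYS
section
/-!
# S4247, row `PSp`, lemma E1 (helper640, statement of helper602)

The centralizer in `Sp_2m(F) / {±1}` of the `p`-elements which centralise `T`: it is the image of the group of the isometries
which are trivial on the fixed space of `T`.
-/

set_option autoImplicit false

namespace Cfsg.Agent.H640.DP

open Module Subgroup Cfsg Matrix Cfsg.Agent.H167.OP Cfsg.Agent.H170.HL Cfsg.Agent.H572.RV Cfsg.Agent.H602.DP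

set_option linter.unusedSectionVars false

variable {F : Type*} [Field F] [Fintype F] {m p : ℕ}

theorem cen_sq {c : symplecticGroup (Fin m) F} (hc : c ∈ center (symplecticGroup (Fin m) F)) : c * c = 1 := by
  apply Subtype.ext
  show (c : Matrix (Fin m ⊕ Fin m) (Fin m ⊕ Fin m) F) * (c : Matrix (Fin m ⊕ Fin m) (Fin m ⊕ Fin m) F) = 1
  rcases Cfsg.Agent.ClassicalGeometry.SympInvolutions.center_eq hc with h | h
  · rw [h, one_mul]
  · rw [h, neg_mul_neg, one_mul]

theorem cen_two [CharP F 2] {c : symplecticGroup (Fin m) F} (hc : c ∈ center (symplecticGroup (Fin m) F)) :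
    c = 1 := by
  apply Subtype.ext
  show (c : Matrix (Fin m ⊕ Fin m) (Fin m ⊕ Fin m) F) = 1
  rcases Cfsg.Agent.ClassicalGeometry.SympInvolutions.center_eq hc with h | h
  · exact h
  · rw [h]
    ext i j
    rw [Matrix.neg_apply, CharTwo.neg_eq]

theorem pow_odd {K : Type*} [Group K] {c : K} (hc : c * c = 1) {n : ℕ} (hn : Odd n) : c ^ n = c := by
  obtain ⟨k, rfl⟩ := hn
  rw [pow_succ, pow_mul, pow_two, hc, one_pow, one_mul]

/-- `c ^ (p ^ j) = c` for central `c` -/
theorem cen_pow (hp : p.Prime) [CharP F p] {c : symplecticGroup (Fin m) F}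
    (hc : c ∈ center (symplecticGroup (Fin m) F)) (j : ℕ) : c ^ p ^ j = c := by
  rcases hp.eq_two_or_odd' with rfl | h
  · rw [cen_two hc, one_pow]
  · exact pow_odd (cen_sq hc) h.pow

theorem cen_eq_one (hp : p.Prime) [CharP F p] {c a : symplecticGroup (Fin m) F}
    (hc : c ∈ center (symplecticGroup (Fin m) F)) {j : ℕ} (ha : a ^ p ^ j = 1) (hca : (c * a) ^ p ^ j = 1) :
    c = 1 := by
  have h1 : Commute c a := (mem_center_iff.mp hc a).symm
  rwa [h1.mul_pow, ha, mul_one, cen_pow hp hc] at hca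

theorem frm_self (v : Fin m ⊕ Fin m → F) : SpRow.frm m F v v = 0 := by
  rw [SpRow.frm_apply, J]
  simp only [dotProduct, mulVec, Fintype.sum_sum_type, fromBlocks_apply₁₁, fromBlocks_apply₁₂,
    fromBlocks_apply₂₁, fromBlocks_apply₂₂, Matrix.zero_apply, zero_mul, Finset.sum_const_zero, zero_add, add_zero,
    Matrix.neg_apply, Matrix.one_apply, neg_mul, ite_mul, one_mul, Finset.sum_neg_distrib, Finset.sum_ite_eq,
    Finset.mem_univ, if_true, mul_neg]
  rw [neg_add_eq_zero]
  exact Finset.sum_congr rfl fun i _ => mul_comm _ _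

/-- the transvections -/
theorem exists_trv (v : Fin m ⊕ Fin m → F) : ∃ A : symplecticGroup (Fin m) F,
    ∀ x, rep (SpRow.inc m F) A x = x + SpRow.frm m F x v • v := by
  have hvv : SpRow.frm m F v v = 0 := frm_self v
  let z : Module.End F (Fin m ⊕ Fin m → F) :=
    { toFun := fun x => x + SpRow.frm m F x v • v
      map_add' := fun a b => by
        rw [map_add, LinearMap.add_apply, add_smul]
        abel
      map_smul' := fun c a => by
        rw [map_smul, LinearMap.smul_apply, smul_eq_mul, mul_smul, RingHom.id_apply, smul_add] }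
  obtain ⟨A, hA⟩ := SpRow.exists_of_iso z (fun a b => by
    show SpRow.frm m F (a + SpRow.frm m F a v • v) (b + SpRow.frm m F b v • v) = SpRow.frm m F a b
    simp only [map_add, LinearMap.add_apply, map_smul, LinearMap.smul_apply, smul_eq_mul, hvv]
    rw [SpRow.frm_sym v b]
    ring)
  exact ⟨A, fun x => by rw [hA]; rfl⟩

/-- the powers of a transvection -/
theorem trv_pow {v : Fin m ⊕ Fin m → F} {A : symplecticGroup (Fin m) F}
    (hA : ∀ x, rep (SpRow.inc m F) A x = x + SpRow.frm m F x v • v) (k : ℕ) (x : Fin m ⊕ Fin m → F) :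
    rep (SpRow.inc m F) (A ^ k) x = x + ((k : F) * SpRow.frm m F x v) • v := by
  induction k with
  | zero => rw [pow_zero, one_ap, Nat.cast_zero, zero_mul, zero_smul, add_zero]
  | succ k ih =>
    rw [pow_succ', mul_ap, ih, hA]
    simp only [map_add, LinearMap.add_apply, map_smul, LinearMap.smul_apply, smul_eq_mul, frm_self]
    rw [mul_zero, add_zero, Nat.cast_succ, add_assoc, ← add_smul]
    ring_nf

theorem trv_pow_p [CharP F p] {v : Fin m ⊕ Fin m → F} {A : symplecticGroup (Fin m) F}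
    (hA : ∀ x, rep (SpRow.inc m F) A x = x + SpRow.frm m F x v • v) : A ^ p ^ 1 = 1 := by
  apply rep_injective SpRow.inc_injective
  apply LinearMap.ext
  intro x
  rw [trv_pow hA, one_ap, pow_one, CharP.cast_eq_zero, zero_mul, zero_smul, add_zero]

theorem exists_frm_ne {v : Fin m ⊕ Fin m → F} (hv : v ≠ 0) : ∃ x, SpRow.frm m F x v ≠ 0 := by
  by_contra h
  push Not at h
  exact hv (SpRow.frm_nondeg v h)

/-- if `g` commutes with a transvection then `g v = ± v` -/
theorem eigen_trv {v : Fin m ⊕ Fin m → F} (hv : v ≠ 0) {A g : symplecticGroup (Fin m) F}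
    (hA : ∀ x, rep (SpRow.inc m F) A x = x + SpRow.frm m F x v • v) (hg : g * A = A * g) :
    rep (SpRow.inc m F) g v = v ∨ rep (SpRow.inc m F) g v = -v := by
  set ρ := rep (SpRow.inc m F) with hρ
  -- `g A g⁻¹`
  have h1 : ∀ x, SpRow.frm m F x v • ρ g v = SpRow.frm m F (ρ g x) v • v := by
    intro x
    have h2 : ρ (g * A) x = ρ (A * g) x := by rw [hg]
    rw [mul_ap, mul_ap, hA, hA, map_add, map_smul] at h2
    exact add_left_cancel h2
  obtain ⟨x, hx⟩ := exists_frm_ne hv
  set c : F := (SpRow.frm m F x v)⁻¹ * SpRow.frm m F (ρ g x) v with hc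
  have h3 : ρ g v = c • v := by
    have h2 := congrArg (fun w => (SpRow.frm m F x v)⁻¹ • w) (h1 x)
    simp only [smul_smul] at h2
    rw [inv_mul_cancel₀ hx, one_smul] at h2
    exact h2
  have h4 : c * c = 1 := by
    have h5 : SpRow.frm m F (ρ g x) (ρ g v) = SpRow.frm m F x v := SpRow.frm_iso g x v
    rw [h3, map_smul, smul_eq_mul] at h5
    have h6 : SpRow.frm m F (ρ g x) v = c * SpRow.frm m F x v := by
      rw [hc]
      field_simp
    rw [h6, ← mul_assoc] at h5
    exact mul_right_cancel₀ hx (h5.trans (one_mul _).symm)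
  rcases mul_self_eq_one_iff.mp h4 with h5 | h5
  · left; rw [h3, h5, one_smul]
  · right; rw [h3, h5, neg_smul, one_smul]

/-- `± 1` on every vector of a subspace -/
theorem all_or (W : Submodule F (Fin m ⊕ Fin m → F)) (g : Module.End F (Fin m ⊕ Fin m → F))
    (h : ∀ v ∈ W, g v = v ∨ g v = -v) : (∀ v ∈ W, g v = v) ∨ ∀ v ∈ W, g v = -v := by
  by_cases h1 : ∀ v ∈ W, g v = v
  · exact Or.inl h1
  · right
    push Not at h1
    obtain ⟨v₀, hv₀, hne⟩ := h1
    have h2 : g v₀ = -v₀ := (h v₀ hv₀).resolve_left hne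
    intro v hv
    rcases h v hv with h3 | h3
    · rcases h (v + v₀) (W.add_mem hv hv₀) with h4 | h4
      · rw [map_add, h3, h2] at h4
        have h5 : -v₀ = v₀ := add_left_cancel h4
        exact absurd (h2.trans h5) hne
      · rw [map_add, h3, h2, neg_add] at h4
        have h5 : v = -v := add_right_cancel h4
        rw [h3]
        exact h5
    · exact h3

theorem exists_neg : ∃ n : symplecticGroup (Fin m) F, n ∈ center (symplecticGroup (Fin m) F) ∧
    ∀ x, rep (SpRow.inc m F) n x = -x := by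
  obtain ⟨n, hn⟩ := SpRow.exists_of_iso (F := F) (m := m) (-1) (fun u v => by
    simp only [LinearMap.neg_apply, Module.End.one_apply, map_neg, LinearMap.neg_apply, neg_neg])
  have h1 : ∀ x, rep (SpRow.inc m F) n x = -x := fun x => by rw [hn]; rfl
  refine ⟨n, mem_center_iff.mpr fun g => ?_, h1⟩
  apply rep_injective SpRow.inc_injective
  apply LinearMap.ext
  intro x
  rw [mul_ap, mul_ap, h1, h1, map_neg]

/-- **Task E1** of helper602 -/
theorem cent_YS {S : Type*} [Group S] (φ : symplecticGroup (Fin m) F →* S) (hφ : Function.Surjective φ)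
    (hker : ∀ k, φ k = 1 ↔ k ∈ center (symplecticGroup (Fin m) F)) (_hm : 2 ≤ m) (hp : p.Prime) [CharP F p]
    {T : Subgroup (symplecticGroup (Fin m) F)} (hTo : Odd (Nat.card T))
    (hpel : ∀ u : symplecticGroup (Fin m) F, (∃ j : ℕ, u ^ p ^ j = 1) → (∀ z ∈ T, z * u = u * z) →
      ∀ x ∈ CV (rep (SpRow.inc m F)) T, rep (SpRow.inc m F) u x = x)
    (hnd : ND (SpRow.frm m F) (CV (rep (SpRow.inc m F)) T))
    (h0 : Orth (SpRow.frm m F) (CV (rep (SpRow.inc m F)) T) ≠ ⊥) :
    centralizer (YS φ p T : Set S) = (GV (CV (rep (SpRow.inc m F)) T)).map φ ∧ ∃ y ∈ YS φ p T, y ≠ 1 := by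
  have hfin : Finite (symplecticGroup (Fin m) F) := inferInstance
  set ρ := rep (SpRow.inc m F) with hρ
  set f := SpRow.frm m F with hf
  have hIso := isoG_sp (F := F) m
  have hinj : Function.Injective ρ := hIso.inj
  have hcomm : ∀ a b : symplecticGroup (Fin m) F, φ a * φ b = φ b * φ a →
      ∃ c ∈ center (symplecticGroup (Fin m) F), a * b = c * (b * a) := by
    intro a b h
    refine ⟨a * b * (b * a)⁻¹, ?_, by group⟩
    rw [← hker, map_mul, map_inv, map_mul, map_mul, h, mul_inv_cancel]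
  -- the transvections of the fixed space
  have htrv : ∀ v ∈ Orth f (CV ρ T), ∃ A : symplecticGroup (Fin m) F,
      (∀ x, ρ A x = x + f x v • v) ∧ A ^ p ^ 1 = 1 ∧ φ A ∈ YS φ p T := by
    intro v hv
    obtain ⟨A, hA⟩ := exists_trv (F := F) v
    refine ⟨A, hA, trv_pow_p hA, subset_closure ⟨⟨1, by rw [← map_pow, trv_pow_p hA, map_one]⟩, ?_⟩⟩
    intro z hz
    rw [← map_mul, ← map_mul]
    congr 1
    have h1 : ρ z v = v := (mem_Orth_CV hIso).mp hv z hz
    apply hinj
    apply LinearMap.ext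
    intro x
    have h2 : f (ρ z x) v = f x v := by
      have := SpRow.frm_iso z x v
      rw [← hρ, ← hf] at this
      rwa [h1] at this
    rw [mul_ap, mul_ap, hA, hA, map_add, map_smul, h1, h2]
  refine ⟨le_antisymm ?_ ?_, ?_⟩
  · -- `≤`
    intro s hs
    obtain ⟨g, rfl⟩ := hφ s
    rw [mem_centralizer_iff] at hs
    have h1 : ∀ v ∈ Orth f (CV ρ T), ρ g v = v ∨ ρ g v = -v := by
      intro v hv
      rcases eq_or_ne v 0 with rfl | hv0
      · left; rw [map_zero]
      obtain ⟨A, hA, hAp, hAY⟩ := htrv v hv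
      obtain ⟨c, hc, hcA⟩ := hcomm g A (hs _ hAY).symm
      have hc1 : c = 1 := by
        refine cen_eq_one hp hc hAp (j := 1) ?_
        have h2 : c * A = g * A * g⁻¹ := by rw [hcA]; group
        rw [h2, conj_pow, hAp]
        group
      rw [hc1, one_mul] at hcA
      exact eigen_trv hv0 hA hcA
    rcases all_or _ (ρ g) h1 with h2 | h2
    · exact ⟨g, h2, rfl⟩
    · obtain ⟨n, hn, hnx⟩ := exists_neg (F := F) (m := m)
      refine ⟨n * g, fun w hw => ?_, ?_⟩
      · show ρ (n * g) w = w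
        rw [mul_ap, hnx, h2 w hw, neg_neg]
      · rw [map_mul, (hker n).mpr hn, one_mul]
  · -- `≥`
    rintro _ ⟨g, hg, rfl⟩
    have hgV : ∀ w ∈ Orth f (CV ρ T), ρ g w = w := hg
    -- `g` preserves `V₁`
    have hg1 : ∀ x ∈ CV ρ T, ρ g x ∈ CV ρ T := by
      intro x hx
      obtain ⟨a, ha, b, hb, hab⟩ := decomp hnd (ρ g x)
      have hb0 : b = 0 := by
        apply hIso.nd
        intro y
        obtain ⟨a', ha', b', hb', rfl⟩ := decomp hnd y
        rw [map_add, LinearMap.add_apply, hb a' ha', zero_add]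
        have h1 : f b' (ρ g x) = 0 := by
          have h2 := SpRow.frm_iso g b' x
          rw [← hρ, ← hf, hgV b' hb'] at h2
          rw [h2]
          exact hIso.refl _ _ (hb' x hx)
        rw [hab, map_add, hIso.refl _ _ (hb' a ha), zero_add] at h1
        exact h1
      rw [hab, hb0, add_zero]
      exact ha
    rw [mem_centralizer_iff]
    have h3 : YS φ p T ≤ centralizer {φ g} := by
      rw [YS, closure_le]
      rintro y ⟨⟨j, hj⟩, hy⟩
      obtain ⟨k, rfl⟩ := hφ y
      obtain ⟨c, hc⟩ : ∃ c, c = k ^ p ^ j := ⟨_, rfl⟩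
      have hcc : c ∈ center (symplecticGroup (Fin m) F) := by
        rw [← hker, hc, map_pow, hj]
      obtain ⟨u, hu⟩ : ∃ u, u = c * k := ⟨_, rfl⟩
      have hφu : φ u = φ k := by rw [hu, map_mul, (hker c).mpr hcc, one_mul]
      have hup : u ^ p ^ j = 1 := by
        have h1 : Commute c k := (mem_center_iff.mp hcc k).symm
        rw [hu, h1.mul_pow, cen_pow hp hcc, ← hc, cen_sq hcc]
      have huT : ∀ z ∈ T, z * u = u * z := by
        intro z hz
        have h1 := hy z hz
        rw [← hφu] at h1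
        obtain ⟨e, he, hez⟩ := hcomm z u h1
        have hzo : z ^ Nat.card T = 1 := by
          have h4 : (⟨z, hz⟩ : T) ^ Nat.card T = 1 := pow_card_eq_one'
          exact congrArg Subtype.val h4
        have h2 : e * z = u⁻¹ * z * u := by
          have h4 : e * (u * z) = u * (e * z) := by
            rw [← mul_assoc, ← mul_assoc, mem_center_iff.mp he u]
          rw [mul_assoc, hez, h4, inv_mul_cancel_left]
        have h3 : (e * z) ^ Nat.card T = 1 := by
          have h5 : u⁻¹ * z * u = u⁻¹ * z * u⁻¹⁻¹ := by rw [inv_inv]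
          rw [h2, h5, conj_pow, hzo]
          group
        have h6 : Commute e z := (mem_center_iff.mp he z).symm
        rw [h6.mul_pow, hzo, mul_one, pow_odd (cen_sq he) hTo] at h3
        rw [hez, h3, one_mul]
      have hu1 := hpel u ⟨j, hup⟩ huT
      have hu2 : ∀ w ∈ Orth f (CV ρ T), ρ u w ∈ Orth f (CV ρ T) := by
        intro w hw x hx
        have h2 := SpRow.frm_iso u x w
        rw [← hρ, ← hf, hu1 x hx] at h2
        rw [h2]
        exact hw x hx
      have hgu : g * u = u * g := by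
        apply hinj
        apply LinearMap.ext
        intro v
        obtain ⟨a, ha, b, hb, rfl⟩ := decomp hnd v
        rw [mul_ap, mul_ap, map_add, map_add, map_add, map_add, hu1 a ha, hu1 _ (hg1 a ha), hgV _ (hu2 b hb),
          hgV b hb]
      rw [SetLike.mem_coe, mem_centralizer_singleton_iff, ← hφu, ← map_mul, ← map_mul, hgu]
    intro y hy
    exact (mem_centralizer_singleton_iff.mp (h3 hy))
  · -- a nontrivial element
    obtain ⟨v, hv, hv0⟩ := (Submodule.ne_bot_iff _).mp h0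
    obtain ⟨A, hA, hAp, hAY⟩ := htrv v hv
    refine ⟨φ A, hAY, fun h => ?_⟩
    have hAc := (hker A).mp h
    have hA1 : A = 1 := by
      rw [cen_pow hp hAc] at hAp
      exact hAp
    obtain ⟨x, hx⟩ := exists_frm_ne hv0
    have h1 := hA x
    rw [hA1, one_ap, left_eq_add, smul_eq_zero] at h1
    exact h1.elim hx hv0

end Cfsg.Agent.H640.DP
end

-- part: H572/DP/CaseB
section
/-!
# S4247, row `PSp`, characteristic not in `π`: the case `C_V(T) ≠ 0` (helper572, statement of helper602)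
-/

set_option autoImplicit false
set_option linter.unusedSectionVars false

namespace Cfsg.Agent.H572.DP

open Module Subgroup Cfsg Matrix Cfsg.Agent.H167.OP Cfsg.Agent.H170.HL Cfsg.Agent.H988.CPi Cfsg.Agent.H571.RV
  Cfsg.Agent.H572.RV Cfsg.Agent.H817.DPi Cfsg.Agent.H602.DP

universe u

section abs

theorem mem_of_coprime_pow {G : Type*} [Group G] {C : Subgroup G} {h : G} {a b : ℕ} (hab : Nat.Coprime a b)
    (ha : h ^ a ∈ C) (hb : h ^ b ∈ C) : h ∈ C := by
  have h1 : h = (h ^ a) ^ (Nat.gcdA a b) * (h ^ b) ^ (Nat.gcdB a b) := by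
    have h2 := Nat.gcd_eq_gcd_ab a b
    rw [hab] at h2
    rw [← zpow_natCast h a, ← zpow_natCast h b, ← _root_.zpow_mul, ← _root_.zpow_mul, ← _root_.zpow_add, ← h2, Nat.cast_one, zpow_one]
  rw [h1]
  exact C.mul_mem (C.zpow_mem ha _) (C.zpow_mem hb _)

/-- an `r`-element outside a normal subgroup of `r`-power index -/
theorem exists_relement {G : Type*} [Group G] [Finite G] {H C : Subgroup G} {r : ℕ} (hr : r.Prime)
    (hn : ∀ h ∈ H, ∀ c ∈ C, h * c * h⁻¹ ∈ C) (hrel : ∀ s : ℕ, s.Prime → s ∣ C.relIndex H → s = r)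
    (hnc : ¬ H ≤ C) : ∃ x ∈ H, x ∉ C ∧ ∃ j : ℕ, x ^ r ^ j = 1 := by
  have hN : (C.subgroupOf H).Normal := by
    refine ⟨fun n hn' g => ?_⟩
    exact hn g g.2 n hn'
  have hrel0 : C.relIndex H ≠ 0 := ne_zero_of_dvd_ne_zero Nat.card_pos.ne' (Subgroup.relIndex_dvd_card C H)
  have hrw := Nat.eq_prime_pow_of_unique_prime_dvd hrel0 (fun {d} hd hdv => hrel d hd hdv)
  set w := (C.relIndex H).primeFactorsList.length
  obtain ⟨h, hhH, hhC⟩ := SetLike.not_le_iff_exists.mp hnc
  obtain ⟨a, b, hb, hab⟩ := Nat.exists_eq_pow_mul_and_not_dvd (orderOf_pos h).ne' r hr.ne_one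
  refine ⟨h ^ b, H.pow_mem hhH b, fun hC => ?_, a, ?_⟩
  · have h1 : h ^ r ^ w ∈ C := by
      have h2 := Subgroup.pow_index_mem (C.subgroupOf H) (⟨h, hhH⟩ : H)
      rw [← hrw]
      exact h2
    exact hhC (mem_of_coprime_pow (((Nat.Prime.coprime_iff_not_dvd hr).mpr hb).symm.pow_right w) hC h1)
  · rw [← pow_mul, mul_comm, ← hab, pow_orderOf_eq_one]

/-- a homomorphism from the image of a subgroup -/
theorem exists_surj {G S X : Type*} [Group G] [Group S] [Group X] (φ : G →* S) (N : Subgroup G) (ψ : N →* X)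
    (hψ : Function.Surjective ψ) (hk : ∀ g : N, φ g = 1 → ψ g = 1) :
    ∃ f : N.map φ →* X, Function.Surjective f := by
  have hs : Function.Surjective (φ.subgroupMap N) := φ.subgroupMap_surjective N
  have hle : (φ.subgroupMap N).ker ≤ ψ.ker := by
    intro g hg
    exact hk g (congrArg Subtype.val (MonoidHom.mem_ker.mp hg))
  refine ⟨(φ.subgroupMap N).liftOfSurjective hs ⟨ψ, hle⟩, fun x => ?_⟩
  obtain ⟨g, rfl⟩ := hψ x
  exact ⟨φ.subgroupMap N g, MonoidHom.liftOfRightInverse_comp_apply _ _ _ _ g⟩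

theorem center_bot {S : Type u} [Group S] [IsSimpleGroup S] (hna : ¬ IsMulCommutative S) : center S = ⊥ := by
  rcases (inferInstance : (center S).Normal).eq_bot_or_eq_top with h | h
  · exact h
  · exfalso
    apply hna
    refine ⟨⟨fun a b => ?_⟩⟩
    have : a ∈ center S := by rw [h]; trivial
    exact (Subgroup.mem_center_iff.mp this b).symm

end abs

/-- `PSp_2k(F)` is not commutative -/
theorem psp_nc {F : Type*} [Field F] [Fintype F] {k : ℕ} (hk : 3 ≤ k) : ¬ IsMulCommutative (PSp k F) := by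
  intro hc
  have hs : IsSimpleGroup (PSp k F) := Cfsg.Agent.S0270.result k (by omega) (fun h => by omega)
  have h1 := Cfsg.Agent.S0269.result (F := F) k (Or.inl hk)
  have h2 : _root_.commutator (symplecticGroup (Fin k) F) ≤ center (symplecticGroup (Fin k) F) := by
    rw [commutator_def, Subgroup.commutator_le]
    intro a _ b _
    rw [← QuotientGroup.eq_one_iff, ← QuotientGroup.mk'_apply, map_commutatorElement, commutatorElement_eq_one_iff_mul_comm]
    exact hc.is_comm.comm _ _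
  rw [h1] at h2
  obtain ⟨x, hx⟩ := exists_ne (1 : PSp k F)
  obtain ⟨y, rfl⟩ := QuotientGroup.mk_surjective x
  apply hx
  rw [QuotientGroup.eq_one_iff]
  exact h2 trivial

section YS

variable {S : Type*} [Group S] {F : Type*} [Field F] {m p : ℕ} {φ : symplecticGroup (Fin m) F →* S}
  {T : Subgroup (symplecticGroup (Fin m) F)}

/-- the automorphisms which stabilise `φ T` stabilise the centralizer of `YS φ p T` -/
theorem cent_le (α : MulAut S) (hα : ∀ z ∈ T, ∃ z' ∈ T, α (φ z) = φ z') {c : S}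
    (hc : c ∈ centralizer (YS φ p T : Set S)) : α c ∈ centralizer (YS φ p T : Set S) := by
  rw [YS, Subgroup.centralizer_closure, Subgroup.mem_centralizer_iff] at hc ⊢
  rintro y ⟨⟨j, hj⟩, hy⟩
  have h1 : α⁻¹ y ∈ {y : S | (∃ j : ℕ, y ^ p ^ j = 1) ∧ ∀ z ∈ T, φ z * y = y * φ z} := by
    refine ⟨⟨j, by rw [← map_pow, hj, map_one]⟩, fun z hz => ?_⟩
    apply α.injective
    obtain ⟨z', hz', h2⟩ := hα z hz
    rw [map_mul, map_mul, h2]
    have h3 : α (α⁻¹ y) = y := MulEquiv.apply_symm_apply α y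
    rw [h3, hy z' hz']
  have h2 := congrArg α (hc _ h1)
  have h3 : α (α⁻¹ y) = y := MulEquiv.apply_symm_apply α y
  rw [map_mul, map_mul, h3] at h2
  exact h2

end YS

/-- **caseB** -/
theorem caseB {π : Set ℕ} {S : Type u} [Group S] [Finite S] [IsSimpleGroup S] (hna : ¬ IsMulCommutative S)
    {F : Type} [Field F] [Fintype F] {m p : ℕ} [CharP F p] (hp : p.Prime) (hm : 2 ≤ m)
    (φ : symplecticGroup (Fin m) F →* S) (hφ : Function.Surjective φ)
    (hker : ∀ k, φ k = 1 ↔ k ∈ center (symplecticGroup (Fin m) F))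
    {P : Subgroup S} {K B : Subgroup (MulAut S)} (hC : Cfg π P K B) (hIH : IH π P K)
    {H : Subgroup (symplecticGroup (Fin m) F)} (hH : IsPiHall π H) (hHP : H.map φ = P)
    {r t : ℕ} (hr : r.Prime) (hrt : r < t) {T : Subgroup (symplecticGroup (Fin m) F)}
    (hTS : TS (rep (SpRow.inc m F)) (SpRow.frm m F) (fun _ => 0) t T) (hTH : T ≤ H)
    (hn : H ≤ normalizer (T : Set (symplecticGroup (Fin m) F)))
    (hnc : ¬ H ≤ centralizer (T : Set (symplecticGroup (Fin m) F)))
    (hrel : ∀ s : ℕ, s.Prime → s ∣ (centralizer (T : Set (symplecticGroup (Fin m) F))).relIndex H → s = r)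
    {k : ℕ} (hk : 3 ≤ k) (h2k : 2 * k ≤ finrank F (CV (rep (SpRow.inc m F)) T))
    (h0 : Orth (SpRow.frm m F) (CV (rep (SpRow.inc m F)) T) ≠ ⊥)
    -- `pel` (task D)
    (hpel : ∀ u : symplecticGroup (Fin m) F, (∃ j : ℕ, u ^ p ^ j = 1) → (∀ z ∈ T, z * u = u * z) →
      ∀ x ∈ CV (rep (SpRow.inc m F)) T, rep (SpRow.inc m F) u x = x)
    -- `excl` (task EXCL)
    (hex : ∀ (X : Type u) [Group X] [Finite X] [IsSimpleGroup X], ¬ IsMulCommutative X →
      IsLieTypeChar p X → Cls π X → (∀ P : Subgroup X, IsPiHall π P → Group.IsNilpotent P) ∨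
        Nonempty (X ≃* Matrix.ProjectiveSpecialLinearGroup (Fin 3) (ZMod 2)) ∨
        Nonempty (X ≃* Matrix.ProjectiveSpecialLinearGroup (Fin 5) (ZMod 2)))
    -- `psp_ne` (task X)
    (hne : ∀ k : ℕ, 3 ≤ k → ¬ Nonempty (PSp k F ≃* Matrix.ProjectiveSpecialLinearGroup (Fin 3) (ZMod 2)) ∧
      ¬ Nonempty (PSp k F ≃* Matrix.ProjectiveSpecialLinearGroup (Fin 5) (ZMod 2))) : False := by
  classical
  set ρ := rep (SpRow.inc m F) with hρ
  set V₁ := CV ρ T with hV₁
  have hG : IsoG ρ (SpRow.frm m F) (fun _ => 0) := hTS.toIsoG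
  have hnd : ND (SpRow.frm m F) V₁ := nd_CV hG hTS.card_ne
  have hHU : ∀ g ∈ H, V₁.map (ρ g) = V₁ := by
    intro g hg
    apply map_eq_of_le
    apply CV_conj_le
    intro d hd
    exact (Subgroup.mem_normalizer_iff.mp (hn hg) d).mp hd
  set N : Subgroup (symplecticGroup (Fin m) F) := GV V₁ with hN
  have hHN : H ≤ normalizer (N : Set (symplecticGroup (Fin m) F)) := by
    have key : ∀ g ∈ H, ∀ x ∈ N, g * x * g⁻¹ ∈ N := by
      intro g hg x hx w hw
      have h1 : ρ g⁻¹ w ∈ Orth (SpRow.frm m F) V₁ := by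
        rw [← Orth_map_of_map hG (map_inv_of_map (hHU g hg))]
        exact ⟨w, hw, rfl⟩
      show ρ (g * x * g⁻¹) w = w
      rw [mul_ap, mul_ap, hx _ h1, ap_inv]
    intro g hg
    rw [Subgroup.mem_normalizer_iff]
    intro x
    refine ⟨key g hg x, fun hx => ?_⟩
    have h1 := key g⁻¹ (H.inv_mem hg) _ hx
    have h2 : g⁻¹ * (g * x * g⁻¹) * g⁻¹⁻¹ = x := by group
    rwa [h2] at h1
  -- the Hall subgroup of `N`
  have hY := hall_inf hH hHN
  -- the centralizer of `YS φ p T`
  obtain ⟨hcent, y, hyY, hy1⟩ := Cfsg.Agent.H640.DP.cent_YS φ hφ hker hm hp hTS.card_odd hpel hnd h0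
  have htop : centralizer (YS φ p T : Set S) ≠ ⊤ := by
    intro h
    apply hy1
    have h1 : y ∈ center S := by
      rw [Subgroup.mem_center_iff]
      intro x
      have h2 : x ∈ centralizer (YS φ p T : Set S) := by rw [h]; trivial
      exact (Subgroup.mem_centralizer_iff.mp h2 y hyY).symm
    rwa [center_bot hna, Subgroup.mem_bot] at h1
  have hPn : P ≤ normalizer (centralizer (YS φ p T : Set S) : Set S) := by
    rw [← hHP]
    have key : ∀ g ∈ H, ∀ x ∈ centralizer (YS φ p T : Set S), φ g * x * (φ g)⁻¹ ∈ centralizer (YS φ p T : Set S) := by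
      intro g hg x hx
      refine cent_le (MulAut.conj (φ g)) (fun z hz => ⟨g * z * g⁻¹, ?_, ?_⟩) hx
      · exact (Subgroup.mem_normalizer_iff.mp (hn hg) z).mp hz
      · rw [MulAut.conj_apply, map_mul, map_mul, map_inv]
    rintro _ ⟨g, hg, rfl⟩
    rw [Subgroup.mem_normalizer_iff]
    intro x
    refine ⟨key g hg x, fun hx => ?_⟩
    have h1 := key g⁻¹ (H.inv_mem hg) _ hx
    rw [map_inv] at h1
    have h2 : (φ g)⁻¹ * (φ g * x * (φ g)⁻¹) * (φ g)⁻¹⁻¹ = x := by group
    rwa [h2] at h1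
  have hKs : K ≤ stab (centralizer (YS φ p T : Set S)) := by
    have key : ∀ κ ∈ K, ∀ x ∈ centralizer (YS φ p T : Set S), κ x ∈ centralizer (YS φ p T : Set S) := by
      intro κ hκ x hx
      refine cent_le κ (fun z hz => ⟨z, hz, ?_⟩) hx
      apply hC.fix κ hκ
      rw [← hHP]
      exact ⟨z, hTH hz, rfl⟩
    intro κ hκ
    rw [mem_stab]
    apply le_antisymm
    · rintro _ ⟨x, hx, rfl⟩
      exact key κ hκ x hx
    · intro x hx
      exact ⟨κ⁻¹ x, key κ⁻¹ (K.inv_mem hκ) x hx, MulEquiv.apply_symm_apply κ x⟩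
  -- the factor group
  obtain ⟨k', hk', ⟨e⟩⟩ := Cfsg.Agent.H199.DP.GV_iso V₁ hnd
  have hk3 : 3 ≤ k' := by omega
  have hsimple : IsSimpleGroup (PSp k' F) := Cfsg.Agent.S0270.result k' (by omega) (fun h => by omega)
  have hsimple' : IsSimpleGroup (ULift.{u} (PSp k' F)) :=
    (MulEquiv.isSimpleGroup_congr MulEquiv.ulift).2 hsimple
  let ψ : N →* ULift.{u} (PSp k' F) :=
    ((MulEquiv.ulift.symm : PSp k' F ≃* ULift.{u} (PSp k' F)) : PSp k' F →* ULift.{u} (PSp k' F)).comp
      ((QuotientGroup.mk' (center (symplecticGroup (Fin k') F))).comp (e : N →* symplecticGroup (Fin k') F))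
  have hψ : Function.Surjective ψ :=
    (MulEquiv.ulift.symm : PSp k' F ≃* ULift.{u} (PSp k' F)).surjective.comp
      ((QuotientGroup.mk'_surjective _).comp e.surjective)
  have hψk : ∀ g : N, ψ g = 1 ↔ e g ∈ center (symplecticGroup (Fin k') F) := by
    intro g
    rw [← QuotientGroup.eq_one_iff]
    constructor
    · intro h
      exact (MulEquiv.ulift.symm : PSp k' F ≃* ULift.{u} (PSp k' F)).injective (h.trans (map_one _).symm)
    · intro h
      show MulEquiv.ulift.symm ((e g : symplecticGroup (Fin k') F) : PSp k' F) = 1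
      rw [h, map_one]
  have hcl : Cls π (ULift.{u} (PSp k' F)) := by
    obtain ⟨f, hf⟩ := exists_surj φ N ψ hψ (fun g hg => by
      rw [hψk, Subgroup.mem_center_iff]
      intro x
      obtain ⟨x, rfl⟩ := e.surjective x
      rw [← map_mul, ← map_mul]
      congr 1
      apply Subtype.ext
      exact Subgroup.mem_center_iff.mp ((hker _).mp hg) x)
    have h1 := hIH _ htop hPn hKs (ULift.{u} (PSp k' F)) (by
      intro hc
      apply psp_nc (F := F) hk3
      refine ⟨⟨fun a b => ?_⟩⟩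
      exact congrArg ULift.down (hc.is_comm.comm (ULift.up a) (ULift.up b)))
    rw [hcent] at h1
    exact h1 f hf
  have hnil : ∀ P : Subgroup (ULift.{u} (PSp k' F)), IsPiHall π P → Group.IsNilpotent P := by
    rcases hex (ULift.{u} (PSp k' F)) (by
      intro hc
      apply psp_nc (F := F) hk3
      refine ⟨⟨fun a b => ?_⟩⟩
      exact congrArg ULift.down (hc.is_comm.comm (ULift.up a) (ULift.up b)))
      (Or.inr (Or.inl ⟨F, inferInstance, inferInstance, inferInstance, k', by omega, fun h => by omega,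
        ⟨MulEquiv.ulift⟩⟩)) hcl with h | ⟨⟨i⟩⟩ | ⟨⟨i⟩⟩
    · exact h
    · exact ((hne k' hk3).1 ⟨MulEquiv.ulift.symm.trans i⟩).elim
    · exact ((hne k' hk3).2 ⟨MulEquiv.ulift.symm.trans i⟩).elim
  have hYn : Group.IsNilpotent (H.subgroupOf N) := by
    have h1 := hnil _ (isPiHall_map hY ψ hψ)
    refine Subgroup.isNilpotent_of_ker_le_center (ψ.subgroupMap (H.subgroupOf N)) ?_
    intro a ha
    have h2 : ψ (a : N) = 1 := congrArg Subtype.val (MonoidHom.mem_ker.mp ha)
    rw [hψk, Subgroup.mem_center_iff] at h2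
    rw [Subgroup.mem_center_iff]
    intro b
    apply Subtype.ext
    apply e.injective
    have h3 := h2 (e (b : N))
    rw [← map_mul, ← map_mul] at h3
    exact h3
  -- the `r`-element
  obtain ⟨x, hx, hxC, j, hj⟩ := exists_relement (H := H)
    (C := centralizer (T : Set (symplecticGroup (Fin m) F))) hr (by
      intro h hh c hc
      rw [Subgroup.mem_centralizer_iff] at hc ⊢
      intro z hz
      have h1 : h⁻¹ * z * h ∈ T := by
        have := (Subgroup.mem_normalizer_iff.mp (hn (H.inv_mem hh)) z).mp hz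
        rwa [inv_inv] at this
      have h2 := hc _ h1
      calc z * (h * c * h⁻¹) = h * ((h⁻¹ * z * h) * c) * h⁻¹ := by group
        _ = h * (c * (h⁻¹ * z * h)) * h⁻¹ := by rw [h2]
        _ = h * c * h⁻¹ * z := by group) hrel hnc
  have hxU : ∀ u ∈ V₁, ρ x u ∈ V₁ := fun u hu => mem_of_map (hHU x hx) hu
  obtain ⟨x₁, hx₁⟩ := hG.exists_part hnd hxU
  have hx₁H : x₁ ∈ H := part_mem hG hnd hHU hH hx hx₁
  have hx₁j := hx₁.tel hG hnd hxU ⟨j, hj⟩
  obtain ⟨j', hj'⟩ := hx₁j
  apply hxC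
  rw [Subgroup.mem_centralizer_iff]
  intro z hz
  have hzN : z ∈ N := fun w hw => (mem_Orth_CV hG).mp hw z hz
  have hx₁N : x₁ ∈ N := hx₁.2
  obtain ⟨i, hi⟩ := hTS.hT ⟨z, hz⟩
  have hi' : z ^ t ^ i = 1 := congrArg Subtype.val hi
  have hcomm : x₁ * z = z * x₁ := by
    have h1 : Commute (⟨⟨x₁, hx₁N⟩, hx₁H⟩ : H.subgroupOf N) ⟨⟨z, hzN⟩, hTH hz⟩ := by
      apply Cfsg.Agent.OddOrderLocal.CNBasic.commute_of_coprime_orderOf
      have h2 : orderOf (⟨⟨x₁, hx₁N⟩, hx₁H⟩ : H.subgroupOf N) ∣ r ^ j' :=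
        orderOf_dvd_of_pow_eq_one (Subtype.ext (Subtype.ext hj'))
      have h3 : orderOf (⟨⟨z, hzN⟩, hTH hz⟩ : H.subgroupOf N) ∣ t ^ i :=
        orderOf_dvd_of_pow_eq_one (Subtype.ext (Subtype.ext hi'))
      exact Nat.Coprime.coprime_dvd_left h2 (Nat.Coprime.coprime_dvd_right h3
        (((Nat.coprime_primes hr hTS.ht).mpr hrt.ne).pow _ _))
    exact congrArg (fun a : H.subgroupOf N => ((a : N) : symplecticGroup (Fin m) F)) h1
  have hzU : ∀ u ∈ V₁, ρ z u ∈ V₁ := fun u hu => mem_of_map (hHU z (hTH hz)) hu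
  refine eq_of_parts hG.inj hnd (fun u hu => ?_) (fun w hw => ?_)
  · rw [mul_ap, mul_ap, ← hx₁.1 u hu, ← hx₁.1 _ (hzU u hu), ← mul_ap, ← mul_ap, hcomm]
  · have h1 : ρ x w ∈ Orth (SpRow.frm m F) V₁ := mem_of_map (Orth_map_of_map hG (hHU x hx)) hw
    have h2 := hzN w hw
    have h3 := hzN _ h1
    show ρ (z * x) w = ρ (x * z) w
    rw [mul_ap, mul_ap]
    exact h3.trans (congrArg (ρ x) h2).symm

end Cfsg.Agent.H572.DP
end

-- part: H990/DP/WPerm
section
/-!
# S4247, row PSp, task W: the weights of an abelian subgroup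

`weights_perm`: `D` abelian of odd order prime to the characteristic, normalised by `H` of odd order, in a group of isometries:
`|H : C_H(D)|` divides `k!` for some `k` with `2 k ≤ dim [V, D]`.
-/

set_option autoImplicit false
set_option linter.unusedSectionVars false

namespace Cfsg.Agent.H990.DP

open Module Cfsg.Agent.H167.OP Cfsg.Agent.H170.HL Cfsg.Agent.H572.RV

section closed

variable {L : Type*} [Field L] {V : Type*} [AddCommGroup V] [Module L V] {G : Type*} [Group G] [Finite G]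

/-- the nontrivial weights -/
def Om (ρ : Representation L G V) (D : Subgroup G) : Type _ :=
  {χ : D → L // χ ≠ 1 ∧ ∃ v ∈ Wt ρ D χ, v ≠ 0}

theorem finite_Om [FiniteDimensional L V] (ρ : Representation L G V) {D : Subgroup G}
    (hD : (Nat.card D : L) ≠ 0) (hab : ∀ a ∈ D, ∀ b ∈ D, a * b = b * a) : Finite (Om ρ D) := by
  have h1 : Set.Finite {χ : D → L | Wt ρ D χ ≠ ⊥} :=
    WellFoundedGT.finite_ne_bot_of_iSupIndep (indep_Wt ρ hD hab)
  have h2 : Set.Finite {χ : D → L | χ ≠ 1 ∧ ∃ v ∈ Wt ρ D χ, v ≠ 0} := by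
    refine h1.subset ?_
    rintro χ ⟨-, v, hv, hv0⟩ h
    apply hv0
    rw [h] at hv
    exact (Submodule.mem_bot L).1 hv
  exact h2.to_subtype

theorem card_Om_le [FiniteDimensional L V] (ρ : Representation L G V) {D : Subgroup G}
    (hD : (Nat.card D : L) ≠ 0) (hab : ∀ a ∈ D, ∀ b ∈ D, a * b = b * a) :
    Nat.card (Om ρ D) ≤ finrank L (CV ρ D) := by
  have := finite_Om ρ hD hab
  have := Fintype.ofFinite (Om ρ D)
  rw [Nat.card_eq_fintype_card]
  exact card_le_finrank ρ hD hab (fun i : Om ρ D => i.1) Subtype.val_injective (fun i => i.2.1)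
    (fun i => i.2.2)

theorem nrm_of {D H : Subgroup G} (hn : H ≤ Subgroup.normalizer (D : Set G)) (y : H) : Nrm (y : G) D :=
  fun d hd => (Subgroup.mem_normalizer_iff.1 (hn y.2) d).1 hd

theorem tw_ne_one {y : G} {D : Subgroup G} (hn : Nrm y D) {χ : D → L} (h : χ ≠ 1) : tw hn χ ≠ 1 := by
  intro h1
  apply h
  funext d
  have h2 := congrFun h1 ⟨y * d * y⁻¹, hn d d.2⟩
  have h3 : tw hn χ ⟨y * d * y⁻¹, hn d d.2⟩ = χ d := by
    unfold tw
    congr 1
    apply Subtype.ext
    show y⁻¹ * (y * (d : G) * y⁻¹) * y = d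
    group
  rw [h3] at h2
  exact h2

/-- the action on the weights -/
def actOm (ρ : Representation L G V) {D H : Subgroup G} (hn : H ≤ Subgroup.normalizer (D : Set G)) :
    MulAction H (Om ρ D) where
  smul y χ := ⟨tw (nrm_of hn y) χ.1, tw_ne_one _ χ.2.1, by
    obtain ⟨v, hv, hv0⟩ := χ.2.2
    exact ⟨ρ y v, tw_mem ρ (nrm_of hn y) hv, ap_ne_zero ρ hv0 _⟩⟩
  one_smul χ := by
    apply Subtype.ext
    funext d
    refine congrArg χ.1 (a₁ := ⟨((1 : H) : G)⁻¹ * (d : G) * ((1 : H) : G), _⟩) (a₂ := d)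
      (Subtype.ext ?_)
    simp
  mul_smul x y χ := by
    apply Subtype.ext
    funext d
    refine congrArg χ.1 (a₁ := ⟨((x * y : H) : G)⁻¹ * (d : G) * ((x * y : H) : G), _⟩)
      (a₂ := ⟨(y : G)⁻¹ * ((x : G)⁻¹ * (d : G) * (x : G)) * (y : G), _⟩) (Subtype.ext ?_)
    show ((x : G) * (y : G))⁻¹ * (d : G) * ((x : G) * (y : G)) =
      (y : G)⁻¹ * ((x : G)⁻¹ * (d : G) * (x : G)) * (y : G)
    group

/-- pairs of inverse weights -/
def prs (ρ : Representation L G V) (D : Subgroup G) : Setoid (Om ρ D) where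
  r χ ψ := ψ.1 = χ.1 ∨ ψ.1 = χ.1⁻¹
  iseqv := by
    refine ⟨fun χ => Or.inl rfl, ?_, ?_⟩
    · rintro χ ψ (h | h)
      · exact Or.inl h.symm
      · right
        rw [h, inv_inv]
    · rintro χ ψ φ (h | h) (h' | h')
      · exact Or.inl (h'.trans h)
      · right
        rw [h', h]
      · right
        rw [h', h]
      · left
        rw [h', h, inv_inv]

/-- the action on the pairs -/
def actP (ρ : Representation L G V) {D H : Subgroup G} (hn : H ≤ Subgroup.normalizer (D : Set G)) :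
    MulAction H (Quotient (prs ρ D)) :=
  letI := actOm ρ hn
  { smul := fun y => Quotient.map (fun χ => y • χ) (by
      rintro χ ψ (h | h)
      · left
        show tw (nrm_of hn y) ψ.1 = tw (nrm_of hn y) χ.1
        rw [h]
      · right
        show tw (nrm_of hn y) ψ.1 = (tw (nrm_of hn y) χ.1)⁻¹
        rw [h]
        rfl)
    one_smul := by
      intro q
      induction q using Quotient.ind with
      | _ χ =>
        show Quotient.mk _ ((1 : H) • χ) = _
        rw [one_smul]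
    mul_smul := by
      intro x y q
      induction q using Quotient.ind with
      | _ χ =>
        show Quotient.mk _ ((x * y) • χ) = Quotient.mk _ (x • (y • χ))
        rw [mul_smul] }

theorem odd_pow_mem {H : Subgroup G} (hHo : Odd (Nat.card H)) {y : G} (hy : y ∈ H) {C : Subgroup G}
    (h2 : y ^ 2 ∈ C) : y ∈ C := by
  obtain ⟨j, hj⟩ := hHo
  have h1 : y ^ Nat.card H = 1 := by
    have := pow_card_eq_one' (x := (⟨y, hy⟩ : H))
    exact congrArg Subtype.val this
  have h3 : y = (y ^ 2) ^ (j + 1) := by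
    rw [← pow_mul, show 2 * (j + 1) = Nat.card H + 1 by omega, pow_succ, h1, one_mul]
  rw [h3]
  exact C.pow_mem h2 _

theorem weights_perm_closed [FiniteDimensional L V] [IsAlgClosed L] (ρ : Representation L G V)
    {D H : Subgroup G} (hDo : Odd (Nat.card D)) (hD : (Nat.card D : L) ≠ 0)
    (hab : ∀ a ∈ D, ∀ b ∈ D, a * b = b * a) (hHo : Odd (Nat.card H))
    (hn : H ≤ Subgroup.normalizer (D : Set G))
    (hinj : ∀ y : G, (∀ d ∈ D, ρ (y * d) = ρ (d * y)) → y ∈ Subgroup.centralizer (D : Set G))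
    (f : V →ₗ[L] V →ₗ[L] L)
    (hf : ∀ g u v, f (ρ g u) (ρ g v) = f u v) (hnd : ∀ x, (∀ y, f y x = 0) → x = 0) :
    ∃ k : ℕ, 2 * k ≤ finrank L (CV ρ D) ∧ (Subgroup.centralizer (D : Set G)).relIndex H ∣ k.factorial := by
  classical
  have hfin := finite_Om ρ hD hab
  letI A1 := actOm ρ hn
  letI A2 := actP ρ hn
  refine ⟨Nat.card (Quotient (prs ρ D)), ?_, ?_⟩
  · refine le_trans ?_ (card_Om_le ρ hD hab)
    -- the inverse weight
    have hiv : ∀ χ : Om ρ D, ∃ ψ : Om ρ D, ψ.1 = χ.1⁻¹ := by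
      intro χ
      obtain ⟨v, hv, hv0⟩ := χ.2.2
      obtain ⟨w, hw, hw0⟩ := inv_weight ρ hD hab f hf hnd hv hv0
      exact ⟨⟨χ.1⁻¹, fun h => χ.2.1 (inv_eq_one.1 h), w, hw, hw0⟩, rfl⟩
    choose iv hiv using hiv
    have hne : ∀ χ : Om ρ D, iv χ ≠ χ := by
      intro χ h
      have h1 : χ.1 = χ.1⁻¹ := by
        conv_lhs => rw [← h]
        exact hiv χ
      obtain ⟨v, hv, hv0⟩ := χ.2.2
      apply χ.2.1
      funext d
      have h9 := congrFun h1 d
      rw [Pi.inv_apply] at h9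
      have h10 := pow_card_eq hv hv0 d
      have h0 : χ.1 d ≠ 0 := by
        intro h0
        rw [h0, zero_pow Nat.card_pos.ne'] at h10
        exact zero_ne_one h10
      refine eq_one_of_sq hDo h10 ?_
      nth_rewrite 2 [h9]
      exact mul_inv_cancel₀ h0
    have hmk : ∀ χ : Om ρ D, (Quotient.mk (prs ρ D) (iv χ)) = Quotient.mk (prs ρ D) χ := by
      intro χ
      refine Quotient.sound ?_
      right
      rw [hiv χ, inv_inv]
    have h1 : Nat.card (Quotient (prs ρ D) × Bool) ≤ Nat.card (Om ρ D) := by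
      refine Nat.card_le_card_of_injective
        (fun x : Quotient (prs ρ D) × Bool => if x.2 then x.1.out else iv x.1.out) ?_
      rintro ⟨q, b⟩ ⟨q', b'⟩ h
      have hq : ∀ x : Quotient (prs ρ D) × Bool,
          Quotient.mk (prs ρ D) (if x.2 then x.1.out else iv x.1.out) = x.1 := by
        rintro ⟨q, b⟩
        cases b
        · show Quotient.mk (prs ρ D) (iv q.out) = q
          rw [hmk]
          exact Quotient.out_eq q
        · exact Quotient.out_eq q
      have h2 : q = q' := by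
        have h3 := hq ⟨q, b⟩
        have h4 := hq ⟨q', b'⟩
        have h' : (if (q, b).2 then (q, b).1.out else iv (q, b).1.out) =
          (if (q', b').2 then (q', b').1.out else iv (q', b').1.out) := h
        rw [h', h4] at h3
        exact h3.symm
      subst h2
      cases b <;> cases b'
      · rfl
      · exact absurd h (hne _)
      · exact absurd h.symm (hne _)
      · rfl
    rw [Nat.card_prod, Nat.card_eq_fintype_card (α := Bool), Fintype.card_bool] at h1
    omega
  · set φ : H →* Equiv.Perm (Quotient (prs ρ D)) := MulAction.toPermHom H (Quotient (prs ρ D)) with hφ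
    have hker : φ.ker ≤ (Subgroup.centralizer (D : Set G)).subgroupOf H := by
      intro y hy
      rw [Subgroup.mem_subgroupOf]
      refine odd_pow_mem hHo y.2 (hinj _ ?_)
      by_contra hcon
      push Not at hcon
      have hn2 : Nrm ((y : G) ^ 2) D := nrm_pow (nrm_of hn y) 2
      obtain ⟨χ, hχ, v, hv, hv0⟩ := exists_moved ρ hD hab hn2 hcon
      apply hχ
      have hχ1 : χ ≠ 1 := by
        rintro rfl
        apply hχ
        rfl
      have h1 := (MonoidHom.mem_ker).1 hy
      let χ' : Om ρ D := ⟨χ, hχ1, v, hv, hv0⟩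
      have h2 : φ y (Quotient.mk (prs ρ D) χ') = Quotient.mk (prs ρ D) χ' := by
        rw [h1]
        rfl
      have h3 : Quotient.mk (prs ρ D) (y • χ') = Quotient.mk (prs ρ D) χ' := h2
      have h5 : tw hn2 χ = tw (nrm_of hn y) (tw (nrm_of hn y) χ) := by
        funext d
        show χ ⟨((y : G) ^ 2)⁻¹ * (d : G) * (y : G) ^ 2, _⟩ =
          χ ⟨(y : G)⁻¹ * ((y : G)⁻¹ * (d : G) * (y : G)) * (y : G), _⟩
        congr 1
        apply Subtype.ext
        show ((y : G) ^ 2)⁻¹ * (d : G) * (y : G) ^ 2 =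
          (y : G)⁻¹ * ((y : G)⁻¹ * (d : G) * (y : G)) * (y : G)
        rw [pow_two]
        group
      rw [h5]
      rcases Quotient.exact h3 with h4 | h4
      · have h4' : χ = tw (nrm_of hn y) χ := h4
        rw [← h4', ← h4']
      · have h4' : χ = (tw (nrm_of hn y) χ)⁻¹ := h4
        have h6 : tw (nrm_of hn y) χ = χ⁻¹ := by
          conv_rhs => rw [h4', inv_inv]
        rw [h6]
        have h7 : tw (nrm_of hn y) χ⁻¹ = (tw (nrm_of hn y) χ)⁻¹ := rfl
        rw [h7, h6, inv_inv]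
    have h1 : (Subgroup.centralizer (D : Set G)).relIndex H ∣ φ.ker.index :=
      Subgroup.index_dvd_of_le hker
    refine h1.trans ?_
    rw [Subgroup.index_ker, ← Nat.card_perm]
    exact Subgroup.card_subgroup_dvd_card _

end closed

section gen

variable {F : Type*} [Field F] [Finite F] {V : Type*} [AddCommGroup V] [Module F V] [Finite V]
  [FiniteDimensional F V] {G : Type*} [Group G] [Finite G]
  {ρ : Representation F G V} {f : V →ₗ[F] V →ₗ[F] F}

/-- **Task W** -/
theorem weights_perm (h : FRep ρ f) {D H : Subgroup G} (hDo : Odd (Nat.card D)) (hD : (Nat.card D : F) ≠ 0)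
    (hab : ∀ a ∈ D, ∀ b ∈ D, a * b = b * a) (hHo : Odd (Nat.card H)) (hn : H ≤ Subgroup.normalizer (D : Set G)) :
    ∃ k : ℕ, 2 * k ≤ finrank F (CV ρ D) ∧ (Subgroup.centralizer (D : Set G)).relIndex H ∣ k.factorial := by
  obtain ⟨f', hf', hnd'⟩ := exists_form_bc (AlgebraicClosure F) ρ f h.iso h.nd
  obtain ⟨k, hk, hd⟩ := weights_perm_closed (bc (AlgebraicClosure F) ρ) hDo (card_cast_bc _ hD) hab
    hHo hn (fun y hy => by
      rw [Subgroup.mem_centralizer_iff]
      intro d hd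
      have h1 := hy d hd
      by_contra hne
      refine bc_ne (AlgebraicClosure F) ρ (g := y * d) (h := d * y) (fun h2 => hne ?_) h1
      exact (h.inj h2).symm) f' hf' hnd'
  exact ⟨k, hk.trans (finrank_CV_bc _ ρ D), hd⟩

end gen

end Cfsg.Agent.H990.DP
end

-- part: H602/DP/Row
section
/-!
# S4247, row `PSp` in characteristic `p ∉ π` (helper602)
-/

set_option autoImplicit false
set_option linter.unusedSectionVars false

namespace Cfsg.Agent.H602.DP

open Module Subgroup Cfsg Matrix Cfsg.Agent.H167.OP Cfsg.Agent.H170.HL Cfsg.Agent.H988.CPi Cfsg.Agent.H571.RV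
  Cfsg.Agent.H572.RV Cfsg.Agent.H817.DPi

universe u

/-- **Row `PSp`** modulo `excl` and `psp_ne` -/
theorem row_psp_of {π : Set ℕ} {S : Type u} [Group S] [Finite S] [IsSimpleGroup S] {p : ℕ} (hp : p.Prime) (hpπ : p ∉ π)
    (hexc : 2 ∉ π → ∀ (X : Type u) [Group X] [Finite X] [IsSimpleGroup X], ¬ IsMulCommutative X →
      IsLieTypeChar p X → Cls π X → (∀ P : Subgroup X, IsPiHall π P → Group.IsNilpotent P) ∨
      Nonempty (X ≃* Matrix.ProjectiveSpecialLinearGroup (Fin 3) (ZMod 2)) ∨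
      Nonempty (X ≃* Matrix.ProjectiveSpecialLinearGroup (Fin 5) (ZMod 2)))
    (hne : ∀ (F : Type) [Field F] [Fintype F] (k : ℕ), 3 ≤ k →
      ¬ Nonempty (PSp k F ≃* Matrix.ProjectiveSpecialLinearGroup (Fin 3) (ZMod 2)) ∧
      ¬ Nonempty (PSp k F ≃* Matrix.ProjectiveSpecialLinearGroup (Fin 5) (ZMod 2)))
    (h : IsPSpChar p S) : Row π S := by
  classical
  intro P K B hC hIH
  exfalso
  have hna : ¬ IsMulCommutative S := by
    intro hc
    apply hC.nnil
    have h1 : ∀ a b : P, a * b = b * a := fun a b => Subtype.ext (hc.is_comm.comm (a : S) b)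
    exact @CommGroup.isNilpotent P { (inferInstance : Group P) with mul_comm := h1 }
  have hex := hexc hC.two
  obtain ⟨F, _, _, hchar, m, hm, hm2, ⟨e⟩⟩ := h
  have : Finite (symplecticGroup (Fin m) F) := inferInstance
  let φ : symplecticGroup (Fin m) F →* S :=
    (e.symm : Cfsg.PSp m F →* S).comp
      (QuotientGroup.mk' (Subgroup.center (symplecticGroup (Fin m) F)))
  have hφ : Function.Surjective φ :=
    e.symm.surjective.comp (QuotientGroup.mk'_surjective _)
  have hker : ∀ k, φ k = 1 ↔ k ∈ center (symplecticGroup (Fin m) F) := by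
    intro k
    rw [← QuotientGroup.eq_one_iff]
    constructor
    · intro h
      exact e.symm.injective (h.trans (map_one e.symm).symm)
    · intro h
      show e.symm (QuotientGroup.mk' _ k) = 1
      rw [QuotientGroup.mk'_apply, h, map_one]
  have hker2 : ∀ k, φ k = 1 → k * k = 1 ∧ ∀ x, k * x = x * k := by
    intro k hk
    have h1 := (hker k).mp hk
    refine ⟨?_, fun x => (Subgroup.mem_center_iff.mp h1 x).symm⟩
    apply Subtype.ext
    show (k : Matrix (Fin m ⊕ Fin m) (Fin m ⊕ Fin m) F) * (k : Matrix (Fin m ⊕ Fin m) (Fin m ⊕ Fin m) F) = 1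
    rcases Cfsg.Agent.ClassicalGeometry.SympInvolutions.center_eq h1 with h | h
    · rw [h, one_mul]
    · rw [h, neg_mul_neg, one_mul]
  obtain ⟨H, hH, hHP⟩ := Cfsg.Agent.H462.DPK.exists_hall_over φ hφ (fun k hk => (hker2 k hk).2) hC.two hC.hall
  have hnn : ¬ Group.IsNilpotent H := by
    intro hn
    apply hC.nnil
    rw [← hHP]
    exact Group.nilpotent_of_surjective (φ.subgroupMap H) (φ.subgroupMap_surjective H)
  obtain ⟨r, t, T, hr, hr3, hrt, -, hTS, hTH, hn, hnc, hrel⟩ :=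
    Cfsg.Agent.H680.DP.exists_TS (isoG_sp m) hC.two (cast_ne hp hpπ) hH hnn
  have hHo : Odd (Nat.card H) := by
    by_contra ho
    rw [Nat.not_odd_iff_even, even_iff_two_dvd] at ho
    exact hC.two (hH.1 2 Nat.prime_two ho)
  obtain ⟨k, h2k, hkd⟩ := Cfsg.Agent.H990.DP.weights_perm hTS.toIsoG.toFRep hTS.card_odd hTS.card_ne hTS.ab hHo hn
  by_cases h0 : Orth (SpRow.frm m F) (CV (rep (SpRow.inc m F)) T) = ⊥
  · refine caseC hna e hC hr hr3 hrt hTS hnc hrel h2k hkd h0 ?_ ?_
    · intro K' hK' hc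
      rw [← hHP] at hc ⊢
      exact Cfsg.Agent.H462.DPK.card_mul_le φ hφ hker2 hC.two hH.1 hTH hK' hc
    · intro h1 h2 h3
      exact Cfsg.Agent.H735.DP.exists_list_of hTS (fun U hU u hu hi c hc => eigen hTS hU hu hi hc)
        (fun U hU => Cfsg.Agent.H503.DP.cnt_le hTS hU) h1 h2 h3
  · have hk : 3 ≤ k := by
      obtain ⟨s, hs, hsd⟩ := Nat.exists_prime_and_dvd (n := (centralizer (T : Set (symplecticGroup (Fin m) F))).relIndex H)
        (fun h => hnc (Subgroup.relIndex_eq_one.mp h))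
      have h1 := hrel s hs hsd
      subst h1
      have := hs.dvd_factorial.mp (hsd.trans hkd)
      omega
    exact Cfsg.Agent.H572.DP.caseB hna hp hm φ hφ hker hC hIH hH hHP hr hrt hTS hTH hn hnc hrel hk h2k h0
      (fun u hup hu x hx => Cfsg.Agent.H735.DP.pel_of hTS (fun U hU u hu hi c hc => eigen hTS hU hu hi hc)
        (fun U hU u hu => map_mem hTS hU hu) hp hu hup x hx) hex (fun k hk => hne F k hk)

end Cfsg.Agent.H602.DP
end

private theorem dce_5024894b599a : _root_.True := by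
  try have : _root_.True := by simp only [_root_.Cfsg.Agent.H602.DP.YS.eq_1]
  exact _root_.True.intro
end

-- part: H602/DPO/RowO
section
prune_inst 0x1152051006cc0120000000502800000006c0000900040880000000b06020960228d00a8000a801102182200000001002000000090800000000000040000000000108010002140010820000e000000000000000000000000000000000000000000000000000
set_option linter.all false
open scoped Cfsg.Agent.FastGrp

-- part: H704/DPi/OB
section
/-!
# S4247, orthogonal groups: the count against the minimal index (helper704)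

`OB X q N` : for frame numbers `m i` (blocks of dimension `2 m i`, `N = 2 ∑ m i + δ`) the number
`h ∏ (q ^ (m i) + 1) c |Out X|` is smaller than the index of every proper subgroup of `X`.
`ob_odd`, `ob_plus`, `ob_minus` : for the groups `PΩ_N(q)`, `N ≥ 7`.
-/

set_option autoImplicit false

namespace Cfsg.Agent.H704.DPi

open Finset Subgroup

universe u

/-- the count -/
def OB (X : Type u) [Group X] (q N : ℕ) : Prop :=
  ∀ (ι : Type) [Fintype ι] (m : ι → ℕ) (_ : ∀ i, 4 ≤ q ^ m i) (J : Finset ι) (_ : 3 ≤ J.card)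
    (_ : ∀ i ∈ J, 16 ≤ q ^ m i) (_ : Odd q → ∀ i ∈ J, 29 ≤ q ^ m i) (h δ c : ℕ)
    (_ : h ^ 2 ≤ 3 ^ (Fintype.card ι - 1)) (_ : N = 2 * ∑ i, m i + δ) (_ : δ ≤ 2) (_ : δ = 0 → c ≤ 1)
    (_ : δ = 1 → c ≤ 2) (_ : δ = 2 → c ≤ 2 * (q + 1)) (H : Subgroup X), H ≠ ⊤ →
    h * (∏ i, (q ^ m i + 1)) * (c * Nat.card (Cfsg.Out X)) < H.index

theorem ob_of {X : Type u} [Group X] {p f q N : ℕ} (hp : p.Prime) (hf : 0 < f) (hq : q = p ^ f) (hN7 : 7 ≤ N)
    (ho : Nat.card (Cfsg.Out X) ≤ 24 * f) (ho2 : Even q → Nat.card (Cfsg.Out X) ≤ 6 * f)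
    (hidx : ∀ H : Subgroup X, H ≠ ⊤ → q ^ (N - 2) ≤ H.index) : OB X q N := by
  intro ι _ m h4 J hJ h16 h29 h δ c hh hN hδ hc0 hc1 hc2 H hH
  exact (num_o hp hf hq m h4 J hJ h16 h29 hh hN hδ hN7 hc0 hc1 hc2 ho ho2).trans_le (hidx H hH)

theorem ob_three {X : Type u} [Group X] {N : ℕ} (hN7 : 7 ≤ N)
    (ho : Nat.card (Cfsg.Out X) ≤ 24) (hidx : ∀ H : Subgroup X, H ≠ ⊤ → 3 ^ (N - 3) ≤ H.index) : OB X 3 N := by
  intro ι _ m h4 J hJ h16 h29 h δ c hh hN hδ hc0 hc1 hc2 H hH
  classical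
  refine lt_of_lt_of_le ?_ (hidx H hH)
  obtain ⟨J3, hJ3, hc3⟩ := Finset.exists_subset_card_eq hJ
  have h1 : h * (∏ i, (3 ^ m i + 1)) * (3 * (c * Nat.card (Cfsg.Out X))) < 3 ^ (N - 2) := by
    refine prod_step (by norm_num) m h4 J3 (by omega) (fun i hi => h16 i (hJ3 hi)) hh hN (by omega) ?_
    have hX : ∀ i ∈ J3, 81 ≤ 3 ^ m i := by
      intro i hi
      have h2 := h29 (by decide) i (hJ3 hi)
      have h3 : 4 ≤ m i := by
        by_contra hcon
        have : m i ≤ 3 := by omega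
        have h4 : 3 ^ m i ≤ 3 ^ 3 := Nat.pow_le_pow_right (by norm_num) this
        omega
      calc 81 = 3 ^ 4 := by norm_num
        _ ≤ 3 ^ m i := Nat.pow_le_pow_right (by norm_num) h3
    have hP : 81 ^ 3 ≤ ∏ i ∈ J3, 3 ^ m i := by
      have h5 : ∏ _i ∈ J3, 81 ≤ ∏ i ∈ J3, 3 ^ m i := Finset.prod_le_prod' hX
      rwa [Finset.prod_const, hc3] at h5
    have hc : c ≤ 8 := by
      have : δ = 0 ∨ δ = 1 ∨ δ = 2 := by omega
      rcases this with h0 | h0 | h0
      · exact (hc0 h0).trans (by norm_num)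
      · exact (hc1 h0).trans (by norm_num)
      · exact (hc2 h0).trans (by norm_num)
    have hw : 3 * (c * Nat.card (Cfsg.Out X)) ≤ 576 := by
      calc 3 * (c * Nat.card (Cfsg.Out X)) ≤ 3 * (8 * 24) := Nat.mul_le_mul_left _ (Nat.mul_le_mul hc ho)
        _ = 576 := by norm_num
    rw [hc3]
    calc 3 ^ 4 * 17 ^ 3 * (3 * (c * Nat.card (Cfsg.Out X))) ^ 2 ≤ 3 ^ 4 * 17 ^ 3 * 576 ^ 2 :=
          Nat.mul_le_mul_left _ (Nat.pow_le_pow_left hw 2)
      _ < 3 * 5 ^ 3 * (81 ^ 3) ^ 2 * 1 := by norm_num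
      _ ≤ 3 * 5 ^ 3 * (∏ i ∈ J3, 3 ^ m i) ^ 2 * 3 ^ (2 * δ) :=
          Nat.mul_le_mul (Nat.mul_le_mul_left _ (Nat.pow_le_pow_left hP 2)) (Nat.one_le_pow _ _ (by norm_num))
  have h2 : 3 ^ (N - 2) = 3 * 3 ^ (N - 3) := by
    rw [show N - 2 = (N - 3) + 1 by omega, pow_succ']
  rw [h2] at h1
  have h3 : h * (∏ i, (3 ^ m i + 1)) * (3 * (c * Nat.card (Cfsg.Out X))) =
      3 * (h * (∏ i, (3 ^ m i + 1)) * (c * Nat.card (Cfsg.Out X))) := by ring
  rw [h3] at h1
  exact Nat.lt_of_mul_lt_mul_left h1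

/-- the order of the outer automorphism group -/
theorem card_out {X : Type u} [Group X] [Finite X] (hZ : center X = ⊥) {k : ℕ}
    (h : Nat.card (MulAut X) = k * Nat.card X) : Nat.card (Cfsg.Out X) = k := by
  have hinj : Function.Injective (MulAut.conj : X →* MulAut X) := by
    rw [← MonoidHom.ker_eq_bot_iff, eq_bot_iff]
    intro a ha
    rw [← hZ, mem_center_iff]
    intro x
    have h1 : MulAut.conj a x = x := by
      rw [MonoidHom.mem_ker.1 ha]; rfl
    rw [MulAut.conj_apply, mul_inv_eq_iff_eq_mul] at h1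
    exact h1.symm
  have h1 : Nat.card X = Nat.card (Cfsg.Inn X) := Nat.card_congr (MonoidHom.ofInjective hinj).toEquiv
  have h2 : Nat.card (MulAut X) = Nat.card (Cfsg.Out X) * Nat.card (Cfsg.Inn X) :=
    Subgroup.card_eq_card_quotient_mul_card_subgroup (Cfsg.Inn X)
  rw [h, h1] at h2
  exact (Nat.eq_of_mul_eq_mul_right Nat.card_pos h2).symm

theorem even_pow {p f : ℕ} (hp : p.Prime) (h : Even (p ^ f)) : p = 2 := by
  by_contra hne
  have h1 : Odd p := hp.odd_of_ne_two hne
  exact (Nat.not_even_iff_odd.2 (h1.pow)) h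

/-- `PΩ_{2m+1}(q)` -/
theorem ob_odd {F : Type u} [Field F] [Fintype F] {p f : ℕ} (hp : p.Prime) (hf : 1 ≤ f) (hF : Fintype.card F = p ^ f)
    (hodd : Odd p) {m : ℕ} (hm : 3 ≤ m) (hZ : center (Cfsg.POmega F (Cfsg.quadFormOdd m F)) = ⊥) :
    OB (Cfsg.POmega F (Cfsg.quadFormOdd m F)) (p ^ f) (2 * m + 1) := by
  have := Fact.mk hp
  haveI : Finite (Cfsg.isometryGroup F (Cfsg.quadFormOdd m F)) := inferInstance
  haveI : Finite (Cfsg.POmega F (Cfsg.quadFormOdd m F)) := inferInstance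
  have hout := card_out hZ (S0816.result p f hf hF hodd m hm)
  have hqo : Odd (p ^ f) := hodd.pow
  refine ob_of hp hf rfl (by omega) (by rw [hout]; omega) (fun he => absurd he (Nat.not_even_iff_odd.2 hqo)) ?_
  intro H hH
  have hp3 : 3 ≤ p := by
    have := hp.two_le
    have h2 : p ≠ 2 := by rintro rfl; exact absurd hodd (by decide)
    omega
  have hq3 : 3 ≤ p ^ f := hp3.trans (Nat.le_self_pow (by omega) p)
  have e1 : 2 * m + 1 - 2 = 2 * m - 1 := by omega
  rw [e1]
  generalize p ^ f = q at *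
  rcases Nat.lt_or_ge q 5 with h5 | h5
  · have hq : q = 3 := by
      obtain ⟨r, hr⟩ := hqo
      omega
    subst hq
    have h1 := (S2144.result hF m hm).1 H hH
    refine le_trans ?_ h1
    rw [Nat.le_div_iff_mul_le (by norm_num)]
    obtain ⟨k, rfl⟩ : ∃ k, m = k + 1 := ⟨m - 1, by omega⟩
    have h2 : 3 ^ (2 * (k + 1) - 1) = 3 * (3 ^ k * 3 ^ k) := by
      rw [show 2 * (k + 1) - 1 = 1 + (k + k) by omega, pow_add, pow_add, pow_one]
    have h3 : 3 ^ (k + 1) = 3 * 3 ^ k := pow_succ' _ _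
    have h4 : 1 ≤ 3 ^ k := Nat.one_le_pow _ _ (by norm_num)
    rw [h2, h3]
    generalize 3 ^ k = x at *
    obtain ⟨y, rfl⟩ : ∃ y, x = y + 1 := ⟨x - 1, by omega⟩
    rw [show 3 * (y + 1) - 1 = 3 * y + 2 by omega]
    nlinarith only []
  · have h1 := (S2143.result hF hqo h5 m hm).1 H hH
    refine le_trans ?_ h1
    rw [Nat.le_div_iff_mul_le (by omega)]
    have h2 : q ^ (2 * m) = q ^ (2 * m - 1) * q := by rw [← pow_succ]; congr 1; omega
    have h3 : 1 ≤ q ^ (2 * m - 1) := Nat.one_le_pow _ _ (by omega)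
    rw [h2, Nat.mul_sub, mul_one]
    omega

/-- `PΩ⁺_{2m}(q)` -/
theorem ob_plus {F : Type u} [Field F] [Fintype F] {p f : ℕ} (hp : p.Prime) (hf : 1 ≤ f)
    (hF : Fintype.card F = p ^ f) {m : ℕ} (hm : 4 ≤ m) (hZ : center (Cfsg.POmega F (Cfsg.quadFormPlus m F)) = ⊥) :
    OB (Cfsg.POmega F (Cfsg.quadFormPlus m F)) (p ^ f) (2 * m) := by
  have := Fact.mk hp
  haveI : Finite (Cfsg.isometryGroup F (Cfsg.quadFormPlus m F)) := inferInstance
  haveI : Finite (Cfsg.POmega F (Cfsg.quadFormPlus m F)) := inferInstance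
  have hout := card_out hZ (S0817.result p f hf hF m hm)
  have ho : Nat.card (Cfsg.Out (Cfsg.POmega F (Cfsg.quadFormPlus m F))) ≤ 24 * f := by
    rw [hout]
    apply Nat.mul_le_mul_right
    split_ifs <;> norm_num
  have ho2 : Even (p ^ f) → Nat.card (Cfsg.Out (Cfsg.POmega F (Cfsg.quadFormPlus m F))) ≤ 6 * f := by
    intro he
    rw [hout, if_pos (even_pow hp he)]
    apply Nat.mul_le_mul_right
    split_ifs <;> norm_num
  have hq2 : 2 ≤ p ^ f := hp.two_le.trans (Nat.le_self_pow (by omega) p)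
  by_cases hq3 : p ^ f = 3
  · rw [hq3] at hF ⊢
    have hf1 : f = 1 := by
      by_contra hne
      have h1 : p ^ 2 ≤ p ^ f := Nat.pow_le_pow_right hp.pos (by omega)
      have h2 := hp.two_le
      rw [hq3] at h1
      nlinarith only [h1, h2]
    subst hf1
    refine ob_three (by omega) (by omega) ?_
    intro H hH
    obtain ⟨k, rfl⟩ : ∃ k, m = k + 1 := ⟨m - 1, by omega⟩
    refine le_trans ?_ (H500.AS.plus_three_index_ge hF (by omega) H hH)
    rw [Nat.le_div_iff_mul_le (by norm_num)]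
    obtain ⟨j, rfl⟩ : ∃ j, k = j + 1 := ⟨k - 1, by omega⟩
    have h2 : 3 ^ (2 * (j + 1 + 1) - 3) = 3 * (3 ^ j * 3 ^ j) := by
      rw [show 2 * (j + 1 + 1) - 3 = 1 + (j + j) by omega, pow_add, pow_add, pow_one]
    have h3 : 3 ^ (j + 1) = 3 * 3 ^ j := pow_succ' _ _
    have h4 : 1 ≤ 3 ^ j := Nat.one_le_pow _ _ (by norm_num)
    rw [h2, h3]
    generalize 3 ^ j = x at *
    obtain ⟨y, rfl⟩ : ∃ y, x = y + 1 := ⟨x - 1, by omega⟩
    rw [show 3 * (y + 1) - 1 = 3 * y + 2 by omega]
    nlinarith only []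
  · refine ob_of hp hf rfl (by omega) ho ho2 ?_
    intro H hH
    generalize p ^ f = q at *
    obtain ⟨k, rfl⟩ : ∃ k, m = k + 1 := ⟨m - 1, by omega⟩
    have e1 : 2 * (k + 1) - 2 = k + k := by omega
    rw [e1, pow_add]
    rcases Nat.lt_or_ge q 4 with h4 | h4
    · have hq : q = 2 := by omega
      subst hq
      refine le_trans ?_ ((S2146.result hF (k + 1) hm).1 H hH)
      rw [Nat.add_sub_cancel]
      apply Nat.mul_le_mul_left
      have h3 : 2 ^ (k + 1) = 2 * 2 ^ k := pow_succ' _ _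
      have h4 : 1 ≤ 2 ^ k := Nat.one_le_pow _ _ (by norm_num)
      omega
    · refine le_trans ?_ ((S2145.result hF h4 (k + 1) hm).1 H hH)
      rw [Nat.le_div_iff_mul_le (by omega), Nat.add_sub_cancel]
      have h3 : q ^ (k + 1) = q * q ^ k := pow_succ' _ _
      have h5 : 1 ≤ q ^ k := Nat.one_le_pow _ _ (by omega)
      rw [h3]
      generalize q ^ k = x at *
      obtain ⟨r, rfl⟩ : ∃ r, q = r + 1 := ⟨q - 1, by omega⟩
      obtain ⟨y, rfl⟩ : ∃ y, x = y + 1 := ⟨x - 1, by omega⟩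
      rw [Nat.add_sub_cancel, show (r + 1) * (y + 1) - 1 = r * y + r + y by
        rw [show (r + 1) * (y + 1) = r * y + r + y + 1 by ring]; omega]
      linarith only [Nat.zero_le (r * y), _root_.mul_self_nonneg (↑y : ℤ), _root_.Nat.cast_nonneg (α := ℤ) (y)]

/-- `PΩ⁻_{2m}(q)` -/
theorem ob_minus {F : Type u} [Field F] [Fintype F] {p f : ℕ} (hp : p.Prime) (hf : 1 ≤ f)
    (hF : Fintype.card F = p ^ f) {m : ℕ} (hm : 4 ≤ m) (a b : F)
    (hab : ∀ z₁ z₂ : F, z₁ ^ 2 + a * z₁ * z₂ + b * z₂ ^ 2 = 0 → z₁ = 0 ∧ z₂ = 0)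
    (hZ : center (Cfsg.POmega F (Cfsg.quadFormMinus (m - 1) F a b)) = ⊥) :
    OB (Cfsg.POmega F (Cfsg.quadFormMinus (m - 1) F a b)) (p ^ f) (2 * m) := by
  have := Fact.mk hp
  haveI : Finite (Cfsg.isometryGroup F (Cfsg.quadFormMinus (m - 1) F a b)) := inferInstance
  haveI : Finite (Cfsg.POmega F (Cfsg.quadFormMinus (m - 1) F a b)) := inferInstance
  have hout := card_out hZ (S0818.result p f hf hF m hm a b hab)
  have ho : Nat.card (Cfsg.Out (Cfsg.POmega F (Cfsg.quadFormMinus (m - 1) F a b))) ≤ 24 * f := by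
    rw [hout]
    apply Nat.mul_le_mul_right
    split_ifs <;> norm_num
  have ho2 : Even (p ^ f) → Nat.card (Cfsg.Out (Cfsg.POmega F (Cfsg.quadFormMinus (m - 1) F a b))) ≤ 6 * f := by
    intro he
    rw [hout, if_pos (even_pow hp he)]
    apply Nat.mul_le_mul_right
    norm_num
  have hq2 : 2 ≤ p ^ f := hp.two_le.trans (Nat.le_self_pow (by omega) p)
  refine ob_of hp hf rfl (by omega) ho ho2 ?_
  intro H hH
  refine le_trans ?_ ((S2147.result rfl m hm a b hab).1 H hH)
  rw [hF]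
  generalize p ^ f = q at *
  obtain ⟨k, rfl⟩ : ∃ k, m = k + 2 := ⟨m - 2, by omega⟩
  have e1 : 2 * (k + 2) - 2 = 1 + 1 + (k + k) := by omega
  rw [e1, pow_add, pow_add, pow_add, pow_one, Nat.le_div_iff_mul_le (by omega), show k + 2 - 1 = k + 1 by omega]
  have h3 : q ^ (k + 2) = q * q * q ^ k := by ring
  have h3' : q ^ (k + 1) = q * q ^ k := by ring
  have h6 : q ^ 2 ≤ q ^ k := Nat.pow_le_pow_right (by omega) (by omega)
  have h5 : 1 ≤ q ^ k := Nat.one_le_pow _ _ (by omega)
  rw [h3, h3']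
  generalize q ^ k = x at *
  obtain ⟨r, rfl⟩ : ∃ r, q = r + 1 := ⟨q - 1, by omega⟩
  obtain ⟨y, rfl⟩ : ∃ y, x = y + (r + 1) ^ 2 := ⟨x - (r + 1) ^ 2, by omega⟩
  rw [Nat.add_sub_cancel]
  have h7 : (r + 1) * (y + (r + 1) ^ 2) - 1 = (r + 1) * y + r ^ 3 + 3 * r ^ 2 + 3 * r := by
    rw [show (r + 1) * (y + (r + 1) ^ 2) = (r + 1) * y + r ^ 3 + 3 * r ^ 2 + 3 * r + 1 by ring]
    (clear * -; omega)
  rw [h7]
  have hr : 1 ≤ r := by omega
  obtain ⟨s, rfl⟩ : ∃ s, r = s + 1 := ⟨r - 1, by omega⟩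
  ring_nf
  omega

end Cfsg.Agent.H704.DPi
end

-- part: H572/DPO/Block
section
/-!
# `r`-elements on a block (helper572, S4247 [O])

`exists_conj_mem` : Sylow's theorem in a subgroup `M ⊴ N` normalised by the Hall subgroup.

`comm_of_block` : an `r`-element of `K` supported by a `t`-block and normalising `T` centralises `T`.
-/

set_option autoImplicit false
set_option linter.unusedSectionVars false

namespace Cfsg.Agent.H572.DPO

open Module Subgroup Cfsg Cfsg.Agent.H167.OP Cfsg.Agent.H560.HallKey Cfsg.Agent.H170.HL Cfsg.Agent.H988.CPi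
  Cfsg.Agent.H553.OddHall Cfsg.Agent.H571.RV Cfsg.Agent.H572.RV Cfsg.Agent.H969.DPi

section abs

variable {G : Type*} [Group G] [Finite G] {π : Set ℕ} {H N M : Subgroup G} {r : ℕ}

/-- a conjugate under `M` of an `r`-element of `M` lies in `H` -/
theorem exists_conj_mem (hH : IsPiHall π H) (hN : H ≤ normalizer (N : Set G)) (hMN : M ≤ N)
    (hNM : N ≤ normalizer (M : Set G)) (hr : r.Prime) (hrπ : r ∈ π) {z : G} (hz : z ∈ M)
    (hzr : ∃ k : ℕ, z ^ r ^ k = 1) : ∃ g ∈ M, g * z * g⁻¹ ∈ H := by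
  have hrf := Fact.mk hr
  have h1 := H572.DP.hall_inf hH hN
  have h2 : H.subgroupOf N ≤ normalizer ((M.subgroupOf N : Subgroup N) : Set N) := by
    have : (M.subgroupOf N).Normal := (Subgroup.normal_subgroupOf_iff_le_normalizer hMN).mpr hNM
    rw [Subgroup.normalizer_eq_top]
    exact le_top
  have h3 := H572.DP.hall_inf h1 h2
  obtain ⟨T, S, hS⟩ := exists_sylow_map (t := r) hrπ h3
  obtain ⟨z', hz'⟩ : ∃ z' : M.subgroupOf N, z' = ⟨⟨z, hMN hz⟩, hz⟩ := ⟨_, rfl⟩
  have hZ : IsPGroup r (Subgroup.zpowers z') := by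
    obtain ⟨k, hk⟩ := hzr
    have h4 : z' ^ r ^ k = 1 := by
      rw [hz']
      exact Subtype.ext (Subtype.ext hk)
    refine IsPGroup.of_card_dvd_pow (n := k) ?_
    rw [Nat.card_zpowers]
    exact orderOf_dvd_of_pow_eq_one h4
  obtain ⟨S', hS'⟩ := hZ.exists_le_sylow
  obtain ⟨g, hg⟩ := MulAction.exists_smul_eq (M.subgroupOf N) S' S
  have hgz : g * z' * g⁻¹ ∈ (S : Subgroup (M.subgroupOf N)) := by
    rw [← hg]
    exact ⟨z', hS' (Subgroup.mem_zpowers _), rfl⟩
  rw [hS] at hgz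
  obtain ⟨x, -, hxe⟩ := hgz
  refine ⟨g, g.2, ?_⟩
  have h5 : ((x : M.subgroupOf N) : N) ∈ H.subgroupOf N := x.2
  have h6 : (((x : M.subgroupOf N) : N) : G) = (g : G) * z * (g : G)⁻¹ := by
    have h7 := congrArg (fun a : M.subgroupOf N => ((a : N) : G)) hxe
    rw [hz'] at h7
    exact h7
  rw [← h6]
  exact h5

end abs

variable {F : Type*} [Field F] [Finite F] {V : Type*} [AddCommGroup V] [Module F V] [Finite V]
  [FiniteDimensional F V] {K : Type*} [Group K] [Finite K]
  {ρ : Representation F K V} {f : V →ₗ[F] V →ₗ[F] F} {Q : V → F} {π : Set ℕ} {U : Submodule F V}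
  {H : Subgroup K} {r t : ℕ}

theorem FB_le_norm : H ≤ normalizer (FB ρ t H : Set K) := by
  have key : ∀ g ∈ H, ∀ k ∈ FB ρ t H, g * k * g⁻¹ ∈ FB ρ t H := by
    intro g hg k hk U hU
    have h1 := hk _ (Bl_map (H.inv_mem hg) hU)
    rw [← RV.map_map, ← RV.map_map, h1, RV.map_map, mul_inv_cancel, map_one']
  intro g hg
  rw [Subgroup.mem_normalizer_iff]
  intro k
  refine ⟨key g hg k, fun hk => ?_⟩
  have h1 := key g⁻¹ (H.inv_mem hg) _ hk
  have h2 : g⁻¹ * (g * k * g⁻¹) * g⁻¹⁻¹ = k := by group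
  rwa [h2] at h1

/-- the elements which preserve `U` and are trivial on its orthogonal space -/
def IU (ρ : Representation F K V) (f : V →ₗ[F] V →ₗ[F] F) (U : Submodule F V) : Subgroup K where
  carrier := {g | U.map (ρ g) = U ∧ ∀ w ∈ Orth f U, ρ g w = w}
  mul_mem' := fun {a b} ha hb => ⟨by rw [← RV.map_map, hb.1, ha.1], fun w hw => by rw [mul_ap, hb.2 w hw, ha.2 w hw]⟩
  one_mem' := ⟨map_one' U, fun w _ => one_ap ρ w⟩
  inv_mem' := fun {a} ha => ⟨map_inv_of_map ha.1, fun w hw => by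
    nth_rewrite 1 [← ha.2 w hw]
    rw [inv_ap]⟩

theorem IU_le_FB (h : Std ρ f Q t H) (hU : U ∈ Bl ρ t H) : IU ρ f U ≤ FB ρ t H := by
  intro g hg U' hU'
  by_cases hne : U = U'
  · rw [← hne]; exact hg.1
  · have h1 : ∀ u ∈ U', ρ g u = u := fun u hu => hg.2 u (h.orth_of_bl hU hU' hne hu)
    ext v
    constructor
    · rintro ⟨u, hu, rfl⟩; rw [h1 u hu]; exact hu
    · intro hv; exact ⟨v, hv, h1 v hv⟩

theorem FB_le_norm_IU (h : Std ρ f Q t H) (hU : U ∈ Bl ρ t H) : FB ρ t H ≤ normalizer (IU ρ f U : Set K) := by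
  have key : ∀ g ∈ FB ρ t H, ∀ k ∈ IU ρ f U, g * k * g⁻¹ ∈ IU ρ f U := by
    intro g hg k hk
    have h1 : U.map (ρ g) = U := hg U hU
    have h2 := map_inv_of_map h1
    refine ⟨?_, fun w hw => ?_⟩
    · rw [← RV.map_map, ← RV.map_map, h2, hk.1, h1]
    · have h3 := mem_of_map (Orth_map_of_map h.toIsoG h2) hw
      rw [mul_ap, mul_ap, hk.2 _ h3, ap_inv]
  intro g hg
  rw [Subgroup.mem_normalizer_iff]
  intro k
  refine ⟨key g hg k, fun hk => ?_⟩
  have h1 := key g⁻¹ ((FB ρ t H).inv_mem hg) _ hk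
  have h2 : g⁻¹ * (g * k * g⁻¹) * g⁻¹⁻¹ = k := by group
  rwa [h2] at h1

theorem sp_le_of_IU (hU : ND f U) {y : K} (hy : y ∈ IU ρ f U) : sp ρ y ≤ U := by
  rintro _ ⟨v, rfl⟩
  obtain ⟨u, hu, w, hw, rfl⟩ := decomp hU v
  have h1 : (ρ y - 1) (u + w) = ρ y u - u := by
    show ρ y (u + w) - (u + w) = _
    rw [map_add, hy.2 w hw]
    abel
  rw [h1]
  exact U.sub_mem (mem_of_map hy.1 hu) hu

/-- `T = closure (Zs ρ t H)` as a Sylow subgroup -/
theorem sylT_of (h : Std ρ f Q t H) (hsyl : ¬ t ∣ (_root_.Subgroup.closure (Zs ρ t H)).index) :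
    SylT ρ f Q t H (_root_.Subgroup.closure (Zs ρ t H)) := by
  have htf := Fact.mk h.ht
  obtain ⟨-, hp⟩ := h.closure_comm
  refine { toStd := h, hT := hp, hTH := closure_le_H, hmax := fun R hR hle => ?_ }
  have h1 := (hp.toSylow hsyl).is_maximal' hR hle
  exact h1

/-- an `r`-small element of `H` on a `t`-block -/
theorem dim_le (h : IsoG ρ f Q) (h2 : 2 ∉ π) (hp : ∀ l ∈ π, l.Prime → (l : F) ≠ 0) (hH : IsPiHall π H)
    (ht : t.Prime) (htπ : t ∈ π) (hr : r.Prime) (hrπ : r ∈ π) (hsyl : ¬ t ∣ (_root_.Subgroup.closure (Zs ρ t H)).index)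
    (hU : U ∈ Bl ρ t H) {y : K} (hy : ∃ k : ℕ, y ^ r ^ k = 1) (hyU : y ∈ IU ρ f U) (hy1 : y ≠ 1) :
    finrank F U ≤ r - 1 := by
  classical
  have hrf := Fact.mk hr
  have hs := h.std h2 hp hH ht htπ
  have hrs := h.std h2 hp hH hr hrπ
  have hnd := hs.nd_bl hU
  have hro : Odd r := hrs.hto
  have hrF : (r : F) ≠ 0 := hrs.htF
  -- an element of order `r`
  obtain ⟨y', hy'U, hy't, hy'1⟩ : ∃ y' ∈ IU ρ f U, y' ^ r = 1 ∧ y' ≠ 1 := by
    have h1 := Nat.find_spec hy
    have h2 : Nat.find hy ≠ 0 := by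
      intro h0
      rw [h0, pow_zero, pow_one] at h1
      exact hy1 h1
    obtain ⟨n, hn⟩ := Nat.exists_eq_succ_of_ne_zero h2
    refine ⟨y ^ r ^ n, (IU ρ f U).pow_mem hyU _, ?_, ?_⟩
    · rw [← pow_mul, ← pow_succ]
      rw [hn] at h1
      exact h1
    · exact Nat.find_min hy (m := n) (by omega)
  -- a small element
  obtain ⟨z, hzt, hz1, hzr, hzU⟩ : ∃ z : K, z ^ r = 1 ∧ z ≠ 1 ∧ rk ρ z ≤ r - 1 ∧ z ∈ IU ρ f U := by
    have hyt' : (ρ y') ^ r = 1 := by rw [← map_pow, hy't, map_one]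
    have hy1' : ρ y' ≠ 1 := fun h0 => hy'1 (h.inj (by rw [h0, map_one]))
    obtain ⟨ε, hε, hsym⟩ := h.sym
    obtain ⟨v, hv, hvi⟩ := exists_vec f h.nd hε hsym hro hrF hyt' hy1' (h.iso y')
    obtain ⟨z, W, hz1, hz2, hz3, hz4, hWy, hzW, hzO, hdec⟩ :=
      exists_small f h.refl hr.pos hrF hyt' (h.iso y') hv hvi
    have hzQ : ∀ v, Q (z v) = Q v := by
      intro v
      obtain ⟨u, hu, w, hw, rfl⟩ := hdec v
      rw [map_add, hzW u hu, hzO w hw, h.addQ _ _ (hw _ (hWy u hu)), h.addQ _ _ (hw u hu), h.isoQ]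
    obtain ⟨k, hk⟩ := h.full z hz4 hzQ
    have hkU : sp ρ k ≤ U := by
      refine le_trans ?_ (sp_le_of_IU hnd hy'U)
      rintro _ ⟨v, rfl⟩
      obtain ⟨u, hu, w, hw, rfl⟩ := hdec v
      have e : (ρ k - 1) (u + w) = ρ y' u - u := by
        show ρ k (u + w) - (u + w) = _
        rw [hk, map_add, hzW u hu, hzO w hw]
        abel
      rw [e]
      exact mem_sp u
    refine ⟨k, h.inj (by rw [map_pow, hk, hz1, map_one]), ?_, by unfold rk; rw [hk]; exact hz3, ?_, ?_⟩
    · intro h0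
      rw [h0, map_one] at hk
      exact hz2 hk.symm
    · apply map_eq_of_le
      rintro _ ⟨u, hu, rfl⟩
      have h3 := U.add_mem (hkU (mem_sp u)) hu
      rwa [sub_add_cancel] at h3
    · intro w hw
      exact (mem_Orth_sp h).mp fun u hu => hw u (hkU hu)
  -- in `H`
  obtain ⟨g, hgU, hgz⟩ := exists_conj_mem hH FB_le_norm (IU_le_FB hs hU) (FB_le_norm_IU hs hU) hr hrπ hzU
    ⟨1, by rw [pow_one]; exact hzt⟩
  obtain ⟨z', hz'⟩ : ∃ z' : K, z' = g * z * g⁻¹ := ⟨_, rfl⟩
  rw [← hz'] at hgz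
  have hz'U : z' ∈ IU ρ f U := by
    rw [hz']
    exact (IU ρ f U).mul_mem ((IU ρ f U).mul_mem hgU hzU) ((IU ρ f U).inv_mem hgU)
  have hz's : _root_.Cfsg.Agent.H572.RV.Small ρ r z' := by
    rw [hz']
    exact Small.conj ⟨⟨1, by rw [pow_one]; exact hzt⟩, hzr⟩ _
  have hz'1 : z' ≠ 1 := by rw [hz', Ne, conj_eq_one_iff]; exact hz1
  have hT := sylT_of hs hsyl
  -- `z'` commutes with `T`
  have hc : ∀ d ∈ _root_.Subgroup.closure (Zs ρ t H), z' * d = d * z' := by
    have hpi := piN_Pi0 (F := F) Nat.card_pos.ne' (piN_of_pgroup (F := F) hs.ht hs.hto hs.htF hs.closure_comm.2)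
    have hr2 := hr.two_le
    have hr1 : r ≠ 1 := by omega
    refine comm_of_rk ρ h.inj hr hro hz's.1 ?_ hpi.1 hpi.2 hs.closure_comm.1 ?_ f h.iso h.nd
    · have := hz's.2
      omega
    · intro d hd
      exact (Subgroup.mem_normalizer_iff.mp (hs.le_norm hgz) d).mp hd
  -- the support of `z'`
  have hnd' : ND f (sp ρ z') := nd_sp h hrF hz's.1
  have hle : sp ρ z' ≤ U := sp_le_of_IU hnd hz'U
  have hTW : ∀ x ∈ _root_.Subgroup.closure (Zs ρ t H), (sp ρ z').map (ρ x) = sp ρ z' := fun x hx =>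
    map_sp_of_comm (hc x hx).symm
  obtain ⟨z₀, hz₀, hU0, hz₀1, hmin⟩ := hU
  have hz₀T : z₀ ∈ _root_.Subgroup.closure (Zs ρ t H) := _root_.Subgroup.subset_closure hz₀
  obtain ⟨k, hk⟩ := h.exists_part hnd' (x := z₀) (fun u hu => mem_of_map (hTW z₀ hz₀T) hu)
  have hkT := hT.part_mem hnd' hTW hz₀T hk
  have hkt : ∃ m : ℕ, k ^ t ^ m = 1 := hk.tel h hnd' (fun u hu => mem_of_map (hTW z₀ hz₀T) hu) hz₀.2.1
  have hkZ : k ∈ Zs ρ t H := ⟨closure_le_H hkT, small_of_sp_le hkt hz₀.2 (hk.sp_le' hnd')⟩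
  have hkW : sp ρ k ≤ sp ρ z' := hk.sp_le hnd' (fun u hu => mem_of_map (hTW z₀ hz₀T) hu)
  have hUW : U ≤ sp ρ z' := by
    by_cases hk1 : k = 1
    · exfalso
      apply hz'1
      rw [← sp_eq_bot h.inj, eq_bot_iff]
      intro u hu
      have h3 : ρ z₀ u = u := by rw [← hk.1 u hu, hk1, one_ap]
      have h4 : u ∈ Orth f U := by
        rw [hU0]
        exact (mem_Orth_sp h).mpr h3
      exact hnd u (hle hu) h4
    · have h3 := hmin k hkZ hk1 (hkW.trans hle)
      rw [← h3]
      exact hkW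
  have h3 : U = sp ρ z' := le_antisymm hUW hle
  rw [h3]
  exact hz's.2

/-- **an `r`-element on a `t`-block** -/
theorem comm_of_block (h : IsoG ρ f Q) (h2 : 2 ∉ π) (hp : ∀ l ∈ π, l.Prime → (l : F) ≠ 0) (hH : IsPiHall π H)
    (ht : t.Prime) (htπ : t ∈ π) (hr : r.Prime) (hrπ : r ∈ π) (hsyl : ¬ t ∣ (_root_.Subgroup.closure (Zs ρ t H)).index)
    (hU : U ∈ Bl ρ t H) {y : K} (hy : ∃ k : ℕ, y ^ r ^ k = 1) (hyU : y ∈ IU ρ f U)
    (hyn : Nrm y (_root_.Subgroup.closure (Zs ρ t H))) : ∀ d ∈ _root_.Subgroup.closure (Zs ρ t H), y * d = d * y := by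
  by_cases hy1 : y = 1
  · intro d _
    rw [hy1, one_mul, mul_one]
  have hs := h.std h2 hp hH ht htπ
  have hrs := h.std h2 hp hH hr hrπ
  have h1 := dim_le h h2 hp hH ht htπ hr hrπ hsyl hU hy hyU hy1
  have h3 : rk ρ y ≤ finrank F U := Submodule.finrank_mono (sp_le_of_IU (hs.nd_bl hU) hyU)
  have hpi := piN_Pi0 (F := F) Nat.card_pos.ne' (piN_of_pgroup (F := F) hs.ht hs.hto hs.htF hs.closure_comm.2)
  have hr2 := hr.two_le
  refine comm_of_rk ρ h.inj hr hrs.hto hy ?_ hpi.1 hpi.2 hs.closure_comm.1 hyn f h.iso h.nd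
  omega

end Cfsg.Agent.H572.DPO
end

-- part: H572/DPO/Frame
section
/-!
# Frames exist (helper572, S4247 [O])
-/

set_option autoImplicit false
set_option linter.unusedSectionVars false

namespace Cfsg.Agent.H572.DPO

open Module Subgroup Cfsg Cfsg.Agent.H167.OP Cfsg.Agent.H560.HallKey Cfsg.Agent.H170.HL Cfsg.Agent.H988.CPi
  Cfsg.Agent.H553.OddHall Cfsg.Agent.H571.RV Cfsg.Agent.H572.RV Cfsg.Agent.H969.DPi

variable {F : Type*} [Field F] [Finite F] {V : Type*} [AddCommGroup V] [Module F V] [Finite V]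
  [FiniteDimensional F V] {K : Type*} [Group K] [Finite K]
  {ρ : Representation F K V} {f : V →ₗ[F] V →ₗ[F] F} {Q : V → F} {π : Set ℕ} {U : Submodule F V}
  {H : Subgroup K} {r t : ℕ}

/-- the small elements for the primes different from `r` -/
def SA (ρ : Representation F K V) (π : Set ℕ) (r : ℕ) (H : Subgroup K) : Set K :=
  {z | ∃ t : ℕ, t.Prime ∧ t ∈ π ∧ t ≠ r ∧ z ∈ Zs ρ t H}

theorem SA_le : _root_.Subgroup.closure (SA ρ π r H) ≤ H := by
  rw [Subgroup.closure_le]
  rintro a ⟨t, -, -, -, ha⟩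
  exact ha.1

theorem SA_norm : H ≤ normalizer (closure (SA ρ π r H) : Set K) := by
  refine le_normalizer_closure H (SA ρ π r H) ?_
  rintro g hg a ⟨t, ht, htπ, htr, ha⟩
  exact ⟨t, ht, htπ, htr, Zs_conj hg ha⟩

theorem SA_comm (h : IsoG ρ f Q) (h2 : 2 ∉ π) (hp : ∀ l ∈ π, l.Prime → (l : F) ≠ 0) (hH : IsPiHall π H) :
    ∀ a ∈ _root_.Subgroup.closure (SA ρ π r H), ∀ b ∈ _root_.Subgroup.closure (SA ρ π r H), a * b = b * a := by
  have hcomm : ∀ a ∈ SA ρ π r H, ∀ b ∈ SA ρ π r H, a * b = b * a := by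
    rintro a ⟨t, ht, htπ, -, ha⟩ b ⟨s, hs, hsπ, -, hb⟩
    have htf := Fact.mk ht
    have hsf := Fact.mk hs
    have ht' := h.std h2 hp hH ht htπ
    have hs' := h.std h2 hp hH hs hsπ
    by_cases hst : t = s
    · subst hst
      exact ht'.comm_zs ha hb
    · set A := Subgroup.closure (Zs ρ t H) with hA
      set B := Subgroup.closure (Zs ρ s H) with hB
      have haA : a ∈ A := Subgroup.subset_closure ha
      have hbB : b ∈ B := Subgroup.subset_closure hb
      have hAn := ht'.le_norm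
      have hBn := hs'.le_norm
      have h1 : a * b * a⁻¹ * b⁻¹ ∈ B :=
        B.mul_mem ((Subgroup.mem_normalizer_iff.mp (hBn ha.1) b).mp hbB) (B.inv_mem hbB)
      have h3 : a * b * a⁻¹ * b⁻¹ ∈ A := by
        have h4 := (Subgroup.mem_normalizer_iff.mp (hAn hb.1) a⁻¹).mp (A.inv_mem haA)
        have h5 := A.mul_mem haA h4
        convert h5 using 1
        group
      have h4 : Disjoint A B := IsPGroup.disjoint_of_ne t s hst A B ht'.closure_comm.2 hs'.closure_comm.2
      have h5 : a * b * a⁻¹ * b⁻¹ = 1 := by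
        have : a * b * a⁻¹ * b⁻¹ ∈ A ⊓ B := ⟨h3, h1⟩
        rwa [h4.eq_bot, Subgroup.mem_bot] at this
      calc a * b = (a * b * a⁻¹ * b⁻¹) * (b * a) := by group
        _ = b * a := by rw [h5, one_mul]
  have h1 : Subgroup.closure (SA ρ π r H) ≤ Subgroup.centralizer (SA ρ π r H) := by
    rw [Subgroup.closure_le]
    intro a ha
    rw [SetLike.mem_coe, Subgroup.mem_centralizer_iff]
    exact fun b hb => hcomm b hb a ha
  have h2 : Subgroup.closure (SA ρ π r H) ≤ Subgroup.centralizer (Subgroup.closure (SA ρ π r H) : Set K) := by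
    rw [Subgroup.closure_le]
    intro a ha
    rw [SetLike.mem_coe, Subgroup.mem_centralizer_iff]
    intro b hb
    exact (Subgroup.mem_centralizer_iff.mp (h1 hb) a ha).symm
  exact fun a ha b hb => (Subgroup.mem_centralizer_iff.mp (h2 ha) b hb).symm

/-- `SA` generates an `r'`-group -/
theorem SA_card (h : IsoG ρ f Q) (h2 : 2 ∉ π) (hp : ∀ l ∈ π, l.Prime → (l : F) ≠ 0) (hH : IsPiHall π H)
    (hr : r.Prime) : ¬ r ∣ Nat.card (closure (SA ρ π r H)) := by
  have hAr : ∀ a ∈ Subgroup.closure (SA ρ π r H), ∃ n : ℕ, ¬ r ∣ n ∧ a ^ n = 1 := by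
    intro a ha
    induction ha using Subgroup.closure_induction with
    | mem x hx =>
      obtain ⟨t, ht, htπ, htr, hx⟩ := hx
      obtain ⟨k, hk⟩ := hx.2.1
      refine ⟨t ^ k, ?_, hk⟩
      intro hd
      exact htr ((Nat.prime_dvd_prime_iff_eq hr ht).mp (hr.dvd_of_dvd_pow hd)).symm
    | one => exact ⟨1, hr.one_lt.ne' ∘ Nat.dvd_one.mp, one_pow 1⟩
    | mul a b ha hb iha ihb =>
      obtain ⟨n, hn, hn'⟩ := iha
      obtain ⟨m, hm, hm'⟩ := ihb
      refine ⟨n * m, ?_, ?_⟩
      · rw [hr.dvd_mul]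
        exact fun h0 => h0.elim hn hm
      · have hc : Commute a b := SA_comm h h2 hp hH a ha b hb
        rw [hc.mul_pow, pow_mul, hn', one_pow, one_mul, mul_comm, pow_mul, hm', one_pow]
    | inv a _ ih =>
      obtain ⟨n, hn, hn'⟩ := ih
      exact ⟨n, hn, by rw [inv_pow, hn', inv_one]⟩
  intro hd
  have hrf := Fact.mk hr
  obtain ⟨a, ha⟩ := exists_prime_orderOf_dvd_card' (G := Subgroup.closure (SA ρ π r H)) r hd
  obtain ⟨n, hn, hn'⟩ := hAr a a.2
  apply hn
  rw [← ha, ← Subgroup.orderOf_coe]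
  exact orderOf_dvd_of_pow_eq_one hn'

theorem SA_index (hH : IsPiHall π H)
    (hSyl : ∀ t : ℕ, t.Prime → t ∈ π → t ≠ r → ¬ t ∣ (Subgroup.closure (Zs ρ t H)).index) :
    ∀ p : ℕ, p.Prime → p ∣ (_root_.Subgroup.closure (SA ρ π r H)).relIndex H → p = r := by
  intro p hpp hd
  by_contra hpr
  have hpπ : p ∈ π := hH.1 p hpp (hd.trans (Subgroup.relIndex_dvd_card _ _))
  apply hSyl p hpp hpπ hpr
  have h1 : Subgroup.closure (Zs ρ p H) ≤ Subgroup.closure (SA ρ π r H) :=
    Subgroup.closure_mono fun z hz => ⟨p, hpp, hpπ, hpr, hz⟩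
  exact (hd.trans (Subgroup.relIndex_dvd_index_of_le SA_le)).trans (Subgroup.index_dvd_of_le h1)

/-- decomposition of the elements of `H` -/
theorem exists_dec {G : Type*} [Group G] [Finite G] {A H : Subgroup G} {r : ℕ} (hr : r.Prime) (hAH : A ≤ H)
    (hn : H ≤ normalizer (A : Set G)) (hA : ¬ r ∣ Nat.card A)
    (hi : ∀ p : ℕ, p.Prime → p ∣ A.relIndex H → p = r) {x : G} (hx : x ∈ H) :
    ∃ a ∈ A, ∃ y ∈ zpowers x, (∃ k : ℕ, y ^ r ^ k = 1) ∧ x = a * y := by
  obtain ⟨k, hk⟩ : ∃ k : ℕ, A.relIndex H = r ^ k := by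
    have h1 : A.relIndex H ≠ 0 := by
      have := Subgroup.relIndex_dvd_card A H
      intro h0
      rw [h0] at this
      exact Nat.card_pos.ne' (Nat.eq_zero_of_zero_dvd this)
    exact ⟨_, Nat.eq_prime_pow_of_unique_prime_dvd h1 fun {d} hd hdd => hi d hd hdd⟩
  have hxk : x ^ r ^ k ∈ A := by
    have hN : (A.subgroupOf H).Normal := (Subgroup.normal_subgroupOf_iff_le_normalizer hAH).mpr hn
    have h1 : (⟨x, hx⟩ : H) ^ (A.subgroupOf H).index ∈ A.subgroupOf H := Subgroup.pow_index_mem _ _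
    have h2 : (A.subgroupOf H).index = r ^ k := hk
    rw [h2] at h1
    exact h1
  obtain ⟨m, hm⟩ : ∃ m : ℕ, m = Nat.card A := ⟨_, rfl⟩
  have hcop : Nat.Coprime (r ^ k) m := by
    rw [hm]
    exact Nat.Coprime.pow_left k ((Nat.Prime.coprime_iff_not_dvd hr).mpr hA)
  have hgcd := Nat.gcd_eq_gcd_ab (r ^ k) m
  rw [hcop.gcd_eq_one] at hgcd
  refine ⟨(x ^ r ^ k) ^ (Nat.gcdA (r ^ k) m), A.zpow_mem hxk _, (x ^ m) ^ (Nat.gcdB (r ^ k) m), ?_, ⟨k, ?_⟩, ?_⟩
  · exact Subgroup.zpow_mem _ (Subgroup.pow_mem _ (mem_zpowers x) _) _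
  · have h1 : (x ^ r ^ k) ^ m = 1 := by
      have h2 : (⟨x ^ r ^ k, hxk⟩ : A) ^ m = 1 := by rw [hm]; exact pow_card_eq_one'
      exact congrArg Subtype.val h2
    rw [← zpow_natCast ((x ^ m) ^ (Nat.gcdB (r ^ k) m)) (r ^ k), ← zpow_mul, mul_comm, zpow_mul, zpow_natCast,
      ← pow_mul, mul_comm m, pow_mul, h1, one_zpow]
  · rw [← zpow_natCast x (r ^ k), ← zpow_natCast x m, ← zpow_mul, ← zpow_mul, ← zpow_add, ← hgcd]
    simp

/-- elements of `H` fixing all blocks centralise `T` -/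
theorem cent_of (h : IsoG ρ f Q) (h2 : 2 ∉ π) (hp : ∀ l ∈ π, l.Prime → (l : F) ≠ 0) (hH : IsPiHall π H)
    (ht : t.Prime) (htπ : t ∈ π) (hr : r.Prime) (hrπ : r ∈ π) (hsyl : ¬ t ∣ (_root_.Subgroup.closure (Zs ρ t H)).index)
    {y : K} (hyH : y ∈ H) (hy : ∃ k : ℕ, y ^ r ^ k = 1) (hyF : y ∈ FB ρ t H) :
    ∀ z ∈ _root_.Subgroup.closure (Zs ρ t H), y * z = z * y := by
  have hs := h.std h2 hp hH ht htπ
  have hT := sylT_of hs hsyl
  set T := _root_.Subgroup.closure (Zs ρ t H) with hTd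
  have hTF : ∀ z ∈ T, ∀ U ∈ Bl ρ t H, U.map (ρ z) = U := by
    intro z hz U hU
    obtain ⟨z₀, hz₀, rfl, -⟩ := hU
    exact map_sp_of_comm (hs.closure_comm.1 z hz z₀ (_root_.Subgroup.subset_closure hz₀))
  -- on the blocks
  have key : ∀ U ∈ Bl ρ t H, ∀ z ∈ T, ∀ u ∈ U, ρ (y * z) u = ρ (z * y) u := by
    intro U hU z hz u hu
    have hnd := hs.nd_bl hU
    have hyU : U.map (ρ y) = U := hyF U hU
    obtain ⟨k, hk⟩ := h.exists_part hnd (x := y) (fun u hu => mem_of_map hyU hu)
    have hkI : k ∈ IU ρ f U := by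
      refine ⟨?_, hk.2⟩
      rw [← hyU]
      apply le_antisymm
      · rintro _ ⟨u', hu', rfl⟩
        rw [hyU] at hu' ⊢
        rw [SetLike.mem_coe] at hu'
        rw [hk.1 u' hu']
        exact mem_of_map hyU hu'
      · rintro _ ⟨u', hu', rfl⟩
        refine ⟨u', ?_, hk.1 u' hu'⟩
        rw [hyU]
        exact hu'
    have hkr : ∃ m : ℕ, k ^ r ^ m = 1 := by
      have := hk.tel (t := r) h hnd (fun u hu => mem_of_map hyU hu) hy
      exact this
    have hkn : Nrm k T := by
      intro d hd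
      -- the part of `d`
      obtain ⟨e, he⟩ := h.exists_part hnd (x := d) (fun u hu => mem_of_map (hTF d hd U hU) hu)
      have heT := hT.part_mem hnd (fun x hx => hTF x hx U hU) hd he
      have hyd : y * d * y⁻¹ ∈ T := (Subgroup.mem_normalizer_iff.mp (hs.le_norm hyH) d).mp hd
      obtain ⟨e', he'⟩ := h.exists_part hnd (x := y * d * y⁻¹) (fun u hu => mem_of_map (hTF _ hyd U hU) hu)
      have heT' := hT.part_mem hnd (fun x hx => hTF x hx U hU) hyd he'
      have h5 : k * d * k⁻¹ = e' * (d * e⁻¹) := by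
        have hki := (IU ρ f U).inv_mem hkI
        have hdU := hTF d hd U hU
        have hdO := Orth_map_of_map h hdU
        have hei := he.inv hdU
        have hdi : U.map (ρ d⁻¹) = U := map_inv_of_map hdU
        have hki1 : ∀ u ∈ U, ρ k⁻¹ u = ρ y⁻¹ u := by
          have := hk.inv hyU
          exact this.1
        apply eq_of_parts h.inj hnd
        · intro u hu
          have h6 : ρ k⁻¹ u ∈ U := mem_of_map hki.1 hu
          have h7 : ρ d (ρ k⁻¹ u) ∈ U := mem_of_map hdU h6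
          rw [mul_ap, mul_ap, hk.1 _ h7, mul_ap, mul_ap, hei.1 u hu, ap_inv, he'.1 u hu, mul_ap, mul_ap,
            hki1 u hu]
        · intro w hw
          have h6 : ρ k⁻¹ w = w := hki.2 w hw
          have h7 : ρ d w ∈ Orth f U := mem_of_map hdO hw
          rw [mul_ap, mul_ap, h6, hk.2 _ h7, mul_ap, mul_ap, hei.2 w hw, he'.2 _ h7]
      rw [h5]
      exact T.mul_mem heT' (T.mul_mem hd (T.inv_mem heT))
    have h6 := comm_of_block h h2 hp hH ht htπ hr hrπ hsyl hU hkr hkI hkn z hz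
    have hzu := mem_of_map (hTF z hz U hU) hu
    rw [mul_ap, mul_ap, ← hk.1 _ hzu, ← mul_ap, h6, mul_ap, hk.1 u hu]
  -- on `WB`
  intro z hz
  apply eq_of_parts h.inj hs.nd_WB
  · intro u hu
    have h1 : WB ρ t H ≤ LinearMap.ker (ρ (y * z) - ρ (z * y)) := by
      refine CV_closure_le fun z' hz' => hs.sp_le_of_bl (fun U hU u hu => ?_) _ z' hz' rfl
      rw [LinearMap.mem_ker, LinearMap.sub_apply, key U hU z hz u hu, sub_self]
    have h3 := h1 hu
    rw [LinearMap.mem_ker, LinearMap.sub_apply, sub_eq_zero] at h3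
    exact h3
  · intro w hw
    have hyW := Orth_map_of_map h (hs.WB_map hyH)
    have hfix : ∀ w ∈ Orth f (WB ρ t H), ρ z w = w := fun w hw => (mem_Orth_CV h).mp hw z hz
    rw [mul_ap, mul_ap, hfix w hw, hfix _ (mem_of_map hyW hw)]

/-- **Frames exist.** -/
theorem exists_frame (h : IsoG ρ f Q) (h2 : 2 ∉ π) (hp : ∀ l ∈ π, l.Prime → (l : F) ≠ 0) (hH : IsPiHall π H)
    (hnn : ¬ Group.IsNilpotent H) : ∃ r t : ℕ, Frame ρ f Q π H r t := by
  classical
  -- the exceptional prime
  let Ex : ℕ → Prop := fun t => t.Prime ∧ t ∈ π ∧ ∃ T : Subgroup K, SylT ρ f Q t H T ∧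
    ∃ x ∈ T, ∃ U ∈ Bl ρ t H, U.map (ρ x) ≠ U
  have hmin : ∀ t : ℕ, Ex t → ∀ s : ℕ, s.Prime → s ∈ π → ¬ s < t := by
    rintro t ⟨ht, htπ, T, hT, hmv⟩ s hs hsπ hst
    exact hT.perm hH h2 htπ hmv hs hsπ hst
  have hSyl0 : ∀ t : ℕ, t.Prime → t ∈ π → ¬ Ex t → ¬ t ∣ (Subgroup.closure (Zs ρ t H)).index := by
    intro t ht htπ hEx hd
    have htf := Fact.mk ht
    obtain ⟨T, S, hS⟩ := exists_sylow_map (t := t) htπ hH
    have hT : SylT ρ f Q t H (S : Subgroup K) :=
      { toStd := h.std h2 hp hH ht htπ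
        hT := S.isPGroup'
        hTH := by rw [hS]; exact Subgroup.map_subtype_le _
        hmax := fun R hR hle => S.is_maximal' hR hle }
    have hfix : ∀ x ∈ (S : Subgroup K), ∀ U ∈ Bl ρ t H, U.map (ρ x) = U := by
      by_contra hcon
      push Not at hcon
      exact hEx ⟨ht, htπ, _, hT, hcon⟩
    exact S.not_dvd_index (hd.trans (Subgroup.index_dvd_of_le (hT.le_closure hfix)))
  obtain ⟨r, hrEx⟩ : ∃ r, Ex r := by
    by_contra hcon
    push Not at hcon
    have h3 := SA_index (ρ := ρ) (r := 2) hH fun t ht htπ _ => hSyl0 t ht htπ (hcon t)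
    have h4 : (_root_.Subgroup.closure (SA ρ π 2 H)).relIndex H = 1 := by
      by_contra hne
      obtain ⟨p, hpp, hd⟩ := Nat.exists_prime_and_dvd hne
      have h5 := h3 p hpp hd
      subst h5
      exact h2 (hH.1 2 hpp (hd.trans (Subgroup.relIndex_dvd_card _ _)))
    have h5 := Subgroup.relIndex_eq_one.mp h4
    have h6 : ∀ a b : H, a * b = b * a := fun a b => Subtype.ext (SA_comm h h2 hp hH a (h5 a.2) b (h5 b.2))
    apply hnn
    let _ : CommGroup H := { (inferInstance : Group H) with mul_comm := h6 }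
    exact CommGroup.isNilpotent
  have hr : r.Prime := hrEx.1
  have hrπ : r ∈ π := hrEx.2.1
  have hSyl : ∀ t : ℕ, t.Prime → t ∈ π → t ≠ r → ¬ t ∣ (Subgroup.closure (Zs ρ t H)).index := by
    intro t ht htπ htr
    apply hSyl0 t ht htπ
    intro hEx
    rcases lt_trichotomy t r with h1 | h1 | h1
    · exact hmin r hrEx t ht htπ h1
    · exact htr h1
    · exact hmin t hEx r hr hrπ h1
  have hr3 : 3 ≤ r := by
    have h3 := hr.two_le
    have h4 : r ≠ 2 := fun h0 => h2 (h0 ▸ hrπ)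
    omega
  have hA1 := SA_le (ρ := ρ) (π := π) (r := r) (H := H)
  have hA2 := SA_norm (ρ := ρ) (π := π) (r := r) (H := H)
  have hA3 := SA_comm (r := r) h h2 hp hH
  have hA4 := SA_card h h2 hp hH hr
  have hA5 := SA_index (ρ := ρ) hH hSyl
  set A := _root_.Subgroup.closure (SA ρ π r H) with hA
  have hTA : ∀ t : ℕ, t.Prime → t ∈ π → t ≠ r → _root_.Subgroup.closure (Zs ρ t H) ≤ A := fun t ht htπ htr =>
    Subgroup.closure_mono fun z hz => ⟨t, ht, htπ, htr, hz⟩
  -- an `r`-element which does not centralise some `T`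
  obtain ⟨t, ht, htπ, htr, y, hyH, hyr, z, hz, hyz⟩ : ∃ t : ℕ, t.Prime ∧ t ∈ π ∧ t ≠ r ∧ ∃ y ∈ H,
      (∃ k : ℕ, y ^ r ^ k = 1) ∧ ∃ z ∈ _root_.Subgroup.closure (Zs ρ t H), y * z ≠ z * y := by
    by_contra hcon
    push Not at hcon
    have h3 : ∀ y ∈ H, (∃ k : ℕ, y ^ r ^ k = 1) → ∀ a ∈ A, y * a = a * y := by
      intro y hy hyr a ha
      induction ha using Subgroup.closure_induction with
      | mem x hx =>
        obtain ⟨t, ht, htπ, htr, hx⟩ := hx
        exact hcon t ht htπ htr y hy hyr x (_root_.Subgroup.subset_closure hx)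
      | one => rw [mul_one, one_mul]
      | mul a b _ _ iha ihb => rw [← mul_assoc, iha, mul_assoc, ihb, mul_assoc]
      | inv a _ ih => rw [eq_inv_mul_iff_mul_eq, ← mul_assoc, ← ih, mul_inv_cancel_right]
    have h4 : ∀ x ∈ H, ∀ a ∈ A, x * a = a * x := by
      intro x hx a ha
      obtain ⟨b, hb, y, hy, hyr, hxe⟩ := exists_dec hr hA1 hA2 hA4 hA5 hx
      have hyH : y ∈ H := (Subgroup.zpowers_le.mpr hx) hy
      rw [hxe, mul_assoc, h3 y hyH hyr a ha, ← mul_assoc, hA3 b hb a ha, mul_assoc]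
    apply hnn
    have hN : (A.subgroupOf H).Normal := (Subgroup.normal_subgroupOf_iff_le_normalizer hA1).mpr hA2
    have hrf := Fact.mk hr
    have hPG : IsPGroup r (H ⧸ A.subgroupOf H) := by
      obtain ⟨k, hk⟩ : ∃ k : ℕ, A.relIndex H = r ^ k := by
        have h1 : A.relIndex H ≠ 0 := by
          have := Subgroup.relIndex_dvd_card A H
          intro h0
          rw [h0] at this
          exact Nat.card_pos.ne' (Nat.eq_zero_of_zero_dvd this)
        exact ⟨_, Nat.eq_prime_pow_of_unique_prime_dvd h1 fun {d} hd hdd => hA5 d hd hdd⟩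
      exact IsPGroup.of_card (n := k) hk
    have h5 : Group.IsNilpotent (H ⧸ A.subgroupOf H) := hPG.isNilpotent
    refine Subgroup.isNilpotent_of_ker_le_center (QuotientGroup.mk' (A.subgroupOf H)) ?_
    rw [QuotientGroup.ker_mk']
    intro a ha
    rw [Subgroup.mem_center_iff]
    intro x
    exact Subtype.ext (h4 x x.2 a ha)
  have hs := h.std h2 hp hH ht htπ
  have hsyl := hSyl t ht htπ htr
  have hrt : r < t := by
    rcases lt_trichotomy t r with h1 | h1 | h1
    · exact absurd h1 (hmin r hrEx t ht htπ)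
    · exact absurd h1 htr
    · exact h1
  have hAF : A ≤ FB ρ t H := by
    intro a ha U hU
    obtain ⟨z₀, hz₀, rfl, -⟩ := hU
    exact map_sp_of_comm (hA3 a ha z₀ (hTA t ht htπ htr (_root_.Subgroup.subset_closure hz₀)))
  have hcent : ∀ x ∈ H, x ∈ FB ρ t H → ∀ z ∈ _root_.Subgroup.closure (Zs ρ t H), x * z = z * x := by
    intro x hx hxF z hz
    obtain ⟨b, hb, y, hy, hyr, hxe⟩ := exists_dec hr hA1 hA2 hA4 hA5 hx
    have hyH : y ∈ H := (Subgroup.zpowers_le.mpr hx) hy
    have hyF : y ∈ FB ρ t H := (Subgroup.zpowers_le.mpr hxF) hy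
    rw [hxe, mul_assoc, cent_of h h2 hp hH ht htπ hr hrπ hsyl hyH hyr hyF z hz, ← mul_assoc,
      hA3 b hb z (hTA t ht htπ htr hz), mul_assoc]
  have hmv : ∃ y ∈ H, (∃ k : ℕ, y ^ r ^ k = 1) ∧ y ∉ FB ρ t H :=
    ⟨y, hyH, hyr, fun hyF => hyz (cent_of h h2 hp hH ht htπ hr hrπ hsyl hyH hyr hyF z hz)⟩
  have hrg : ∀ p : ℕ, p.Prime → p ∣ (FB ρ t H).relIndex H → p = r := fun p hpp hd =>
    hA5 p hpp (hd.trans (Subgroup.relIndex_dvd_of_le_left H hAF))
  exact ⟨r, t, ⟨h, h2, hp, hH, hr, hrπ, ht, htπ, hr3, hrt, hsyl, hcent, hmv, hrg⟩⟩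

end Cfsg.Agent.H572.DPO
end

-- part: H22/DPi/DimGe
section
/-!
# S4247, row `POmega`: `dim V₀ ≥ 3` implies `dim V₁ ≥ 12` (helper22)
-/

set_option autoImplicit false
set_option linter.unusedSectionVars false

namespace Cfsg.Agent.H22.DPi

section planes

open QuadraticMap Module Cfsg.Agent.LieClassical.OrthCore Cfsg.Agent.H900.Four

variable {F V : Type*} [Field F] [AddCommGroup V] [Module F V] [FiniteDimensional F V] {Q : QuadraticForm F V}

theorem exists_ns {W : Submodule F V} (hW : Nd Q W) (h0 : W ≠ ⊥) : ∃ w ∈ W, Q w ≠ 0 := by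
  by_contra hcon
  push Not at hcon
  apply h0
  rw [eq_bot_iff]
  intro x hx
  rw [Submodule.mem_bot]
  refine hW x hx fun y hy => ?_
  rw [polar, hcon _ (W.add_mem hx hy), hcon x hx, hcon y hy]
  ring

theorem ne_bot_of_finrank {W : Submodule F V} (h : 1 ≤ finrank F W) : W ≠ ⊥ := by
  rintro rfl
  rw [finrank_bot] at h
  omega

/-- cutting by a linear form -/
theorem finrank_cut (W : Submodule F V) (g : V →ₗ[F] F) :
    finrank F W ≤ finrank F (W ⊓ LinearMap.ker g : Submodule F V) + 1 := by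
  have h1 := Submodule.finrank_sup_add_finrank_inf_eq W (LinearMap.ker g)
  have h2 := LinearMap.finrank_range_add_finrank_ker g
  have h3' : finrank F (LinearMap.range g) ≤ 1 := by
    have := Submodule.finrank_le (LinearMap.range g)
    rwa [finrank_self] at this
  have h4 : finrank F (W ⊔ LinearMap.ker g : Submodule F V) ≤ finrank F V := Submodule.finrank_le _
  omega

theorem nd_cut {W : Submodule F V} (hW : Nd Q W) {a : V} (ha : a ∈ W) (haa : polar Q a a ≠ 0) :
    Nd Q (W ⊓ LinearMap.ker (polarBilin Q a)) := by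
  intro x hx hxy
  have hx2 : polar Q a x = 0 := hx.2
  refine hW x hx.1 fun y hy => ?_
  have h1 : y - (polar Q a y * (polar Q a a)⁻¹) • a ∈ W ⊓ LinearMap.ker (polarBilin Q a) := by
    refine ⟨W.sub_mem hy (W.smul_mem _ ha), ?_⟩
    show polar Q a (y - (polar Q a y * (polar Q a a)⁻¹) • a) = 0
    rw [polar_sub_right, polar_smul_right, smul_eq_mul, mul_assoc, inv_mul_cancel₀ haa, mul_one, sub_self]
  have h2 := hxy _ h1
  rw [polar_sub_right, polar_smul_right, polar_comm Q x a, hx2, smul_zero, sub_zero] at h2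
  exact h2

theorem nd_cut2 {W : Submodule F V} (hW : Nd Q W) {a b : V} (ha : a ∈ W) (hb : b ∈ W) (haa : polar Q a a = 0)
    (hbb : polar Q b b = 0) (hab : polar Q a b = 1) :
    Nd Q (W ⊓ LinearMap.ker (polarBilin Q a) ⊓ LinearMap.ker (polarBilin Q b)) := by
  intro x hx hxy
  have hxa : polar Q a x = 0 := hx.1.2
  have hxb : polar Q b x = 0 := hx.2
  refine hW x hx.1.1 fun y hy => ?_
  have h1 : y - polar Q a y • b - polar Q b y • a ∈
      W ⊓ LinearMap.ker (polarBilin Q a) ⊓ LinearMap.ker (polarBilin Q b) := by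
    refine ⟨⟨W.sub_mem (W.sub_mem hy (W.smul_mem _ hb)) (W.smul_mem _ ha), ?_⟩, ?_⟩
    · show polar Q a (y - polar Q a y • b - polar Q b y • a) = 0
      rw [polar_sub_right, polar_sub_right, polar_smul_right, polar_smul_right, hab, haa]
      simp
    · show polar Q b (y - polar Q a y • b - polar Q b y • a) = 0
      rw [polar_sub_right, polar_sub_right, polar_smul_right, polar_smul_right, polar_comm Q b a, hab, hbb]
      simp
  have h2 := hxy _ h1
  rw [polar_sub_right, polar_sub_right, polar_smul_right, polar_smul_right, polar_comm Q x a, hxa,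
    polar_comm Q x b, hxb, smul_zero, smul_zero, sub_zero, sub_zero] at h2
  exact h2

/-- **the Gram matrix of a plane in a space of dimension `≥ 3`** -/
theorem exists_gram [Finite F] {U W : Submodule F V} (hU : Nd Q U) (h2 : 2 ≤ finrank F U) (hW : Nd Q W)
    (h3 : 3 ≤ finrank F W) : ∃ e₁ ∈ U, ∃ e₂ ∈ U, ∃ a ∈ W, ∃ b ∈ W, Q a = Q e₁ ∧ Q b = Q e₂ ∧
      polar Q a b = polar Q e₁ e₂ ∧ polar Q e₁ e₁ * polar Q e₂ e₂ - polar Q e₁ e₂ * polar Q e₁ e₂ ≠ 0 := by
  obtain ⟨e₁, he₁, hQ₁⟩ := exists_value_nd hU h2 1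
  by_cases h20 : (2 : F) = 0
  · have hself : ∀ v, polar Q v v = 0 := fun v => by rw [polar_self', h20, zero_mul]
    have hex : ∀ {X : Submodule F V}, Nd Q X → ∀ x ∈ X, Q x = 1 → ∃ y ∈ X, polar Q x y = 1 := by
      intro X hX x hx hQx
      have hx0 : x ≠ 0 := by
        rintro rfl
        rw [QuadraticMap.map_zero] at hQx
        exact zero_ne_one hQx
      obtain ⟨y, hy, hxy⟩ : ∃ y ∈ X, polar Q x y ≠ 0 := by
        by_contra hcon
        push Not at hcon
        exact hx0 (hX x hx hcon)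
      exact ⟨(polar Q x y)⁻¹ • y, X.smul_mem _ hy, by
        rw [polar_smul_right, smul_eq_mul, inv_mul_cancel₀ hxy]⟩
    obtain ⟨e₂, he₂, h12⟩ := hex hU e₁ he₁ hQ₁
    obtain ⟨a, ha, hQa⟩ := exists_value_nd hW (by omega) 1
    obtain ⟨w₀, hw₀, haw⟩ := hex hW a ha hQa
    have hX := nd_cut2 hW ha hw₀ (hself a) (hself w₀) haw
    have hd1 := finrank_cut W (polarBilin Q a)
    have hd2 := finrank_cut (W ⊓ LinearMap.ker (polarBilin Q a)) (polarBilin Q w₀)
    obtain ⟨w, ⟨⟨hwW, hwa⟩, hwb⟩, hQw⟩ := exists_ns hX (ne_bot_of_finrank (by omega))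
    have hwa' : polar Q a w = 0 := hwa
    have hwb' : polar Q w₀ w = 0 := hwb
    have hch : CharP F 2 := CharTwo.of_one_ne_zero_of_two_eq_zero one_ne_zero h20
    obtain ⟨l, hl⟩ : IsSquare ((Q e₂ - Q w₀) * (Q w)⁻¹) := by
      have := Fintype.ofFinite F
      exact FiniteField.isSquare_of_char_two (ringChar.eq_iff.2 hch) _
    refine ⟨e₁, he₁, e₂, he₂, a, ha, w₀ + l • w, W.add_mem hw₀ (W.smul_mem _ hwW), by rw [hQa, hQ₁], ?_, ?_, ?_⟩
    · rw [Q_add, QuadraticMap.map_smul, polar_smul_right, hwb', smul_zero, add_zero, smul_eq_mul, ← hl, mul_assoc,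
        inv_mul_cancel₀ hQw, mul_one]
      ring
    · rw [polar_add_right, polar_smul_right, haw, hwa', smul_zero, add_zero, h12]
    · rw [hself, h12]
      simp
  · have h11 : polar Q e₁ e₁ ≠ 0 := by
      rw [polar_self', hQ₁, mul_one]
      exact h20
    have hd1 := finrank_cut U (polarBilin Q e₁)
    obtain ⟨e₂, ⟨he₂, h12⟩, hQ₂⟩ := exists_ns (nd_cut hU he₁ h11) (ne_bot_of_finrank (by omega))
    have h12' : polar Q e₁ e₂ = 0 := h12
    obtain ⟨a, ha, b, hb, hQa, hQb, hab⟩ := exists_ab h20 hW h3 (α := Q e₁) (by rw [hQ₁]; exact one_ne_zero) (Q e₂)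
    refine ⟨e₁, he₁, e₂, he₂, a, ha, b, hb, hQa, hQb, by rw [hab, h12'], ?_⟩
    rw [h12', mul_zero, sub_zero]
    refine mul_ne_zero h11 ?_
    rw [polar_self']
    exact mul_ne_zero h20 hQ₂

theorem indep_of_gram {x y : V} (h : polar Q x x * polar Q y y - polar Q x y * polar Q x y ≠ 0) :
    LinearIndependent F ![x, y] := by
  rw [LinearIndependent.pair_iff]
  intro s t hst
  have h1 : s * polar Q x x + t * polar Q x y = 0 := by
    have h2 : polar Q x (s • x + t • y) = 0 := by rw [hst]; exact polar_zero_right Q x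
    rwa [polar_add_right, polar_smul_right, polar_smul_right, smul_eq_mul, smul_eq_mul] at h2
  have h3 : s * polar Q x y + t * polar Q y y = 0 := by
    have h2 : polar Q y (s • x + t • y) = 0 := by rw [hst]; exact polar_zero_right Q y
    rwa [polar_add_right, polar_smul_right, polar_smul_right, smul_eq_mul, smul_eq_mul, polar_comm Q y x] at h2
  constructor
  · refine (mul_eq_zero.1 (?_ : s * (polar Q x x * polar Q y y - polar Q x y * polar Q x y) = 0)).resolve_right h
    linear_combination polar Q y y * h1 - polar Q x y * h3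
  · refine (mul_eq_zero.1 (?_ : t * (polar Q x x * polar Q y y - polar Q x y * polar Q x y) = 0)).resolve_right h
    linear_combination polar Q x x * h3 - polar Q x y * h1

/-- **a nondegenerate plane is moved into a nondegenerate space of dimension `≥ 3`** -/
theorem exists_move [Finite F] (hQ : Nondeg Q) {U W : Submodule F V} (hU : Nd Q U) (h2 : finrank F U = 2)
    (hW : Nd Q W) (h3 : 3 ≤ finrank F W) :
    ∃ g : V ≃ₗ[F] V, (∀ v, Q (g v) = Q v) ∧ ∀ u ∈ U, g u ∈ W := by
  obtain ⟨e₁, he₁, e₂, he₂, a, ha, b, hb, hQ1, hQ2, hp, hne⟩ := exists_gram hU h2.ge hW h3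
  have hself : ∀ {x y : V}, Q x = Q y → polar Q x x = polar Q y y := fun {x y} h => by
    rw [polar_self', polar_self', h]
  have hi1 := indep_of_gram hne
  have hi2 : LinearIndependent F ![a, b] := indep_of_gram (by rw [hself hQ1, hself hQ2, hp]; exact hne)
  have hn : (polarBilin Q).Nondegenerate :=
    ⟨fun x hx => hQ x hx, fun x hx => hQ x (fun y => by rw [polar_comm]; exact hx y)⟩
  obtain ⟨g, hg, hge⟩ := ClassicalGeometry.WittQuad.extend_family Q hn 2 ![e₁, e₂] ![a, b] hi1 hi2 (by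
    intro i
    fin_cases i
    · exact hQ1.symm
    · exact hQ2.symm) (by
    intro i j
    fin_cases i <;> fin_cases j
    · exact (hself hQ1).symm
    · exact hp.symm
    · show polar Q e₂ e₁ = polar Q b a
      rw [polar_comm Q e₂, polar_comm Q b, hp]
    · exact (hself hQ2).symm)
  refine ⟨g, hg, ?_⟩
  have hspan : Submodule.span F (Set.range ![e₁, e₂]) = U := by
    apply Submodule.eq_of_le_of_finrank_eq
    · rw [Submodule.span_le]
      rintro _ ⟨i, rfl⟩
      fin_cases i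
      · exact he₁
      · exact he₂
    · rw [finrank_span_eq_card hi1, h2]
      rfl
  intro u hu
  rw [← hspan] at hu
  have h5 : Submodule.span F (Set.range ![e₁, e₂]) ≤ W.comap (g : V →ₗ[F] V) := by
    rw [Submodule.span_le]
    rintro _ ⟨i, rfl⟩
    fin_cases i
    · show g e₁ ∈ W
      have h6 : g e₁ = a := hge 0
      rw [h6]; exact ha
    · show g e₂ ∈ W
      have h6 : g e₂ = b := hge 1
      rw [h6]; exact hb
  exact h5 hu

end planes

open Module Cfsg.Agent.H167.OP Cfsg.Agent.H170.HL Cfsg.Agent.H988.CPi Cfsg.Agent.H560.HallKey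
  Cfsg.Agent.H553.OddHall Cfsg.Agent.H571.RV Cfsg.Agent.H572.RV Cfsg.Agent.H969.DPi Cfsg.Agent.H602.DPO

variable {F : Type*} [Field F] [Finite F] {V : Type*} [AddCommGroup V] [Module F V] [Finite V]
  [FiniteDimensional F V] {K : Type*} [Group K] [Finite K]
  {ρ : Representation F K V} {Q : QuadraticForm F V} {π : Set ℕ} {H : Subgroup K} {r t : ℕ}

/-- a block is not moved into `C_V(T)` -/
theorem not_moved {f : V →ₗ[F] V →ₗ[F] F} {q : V → F} (h : Frame ρ f q π H r t) {U : Submodule F V}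
    (hU : U ∈ Bl ρ t H) (g : K) (hg : ∀ u ∈ U, ρ g u ∈ Orth f (WB ρ t H)) : False := by
  have hs := std_of h
  have hU' := hU
  obtain ⟨z, hz, rfl, hz1, -⟩ := hU
  have hspy : sp ρ (g * z * g⁻¹) ≤ Orth f (WB ρ t H) := by
    rw [sp_conj]
    rintro _ ⟨u, hu, rfl⟩
    exact hg u hu
  have hyW : ∀ w ∈ WB ρ t H, ρ (g * z * g⁻¹) w = w := by
    intro w hw
    rw [← mem_Orth_sp h.toIsoG]
    intro x hx
    exact h.toIsoG.refl _ _ (hspy hx w hw)
  have hyS : ∀ z' ∈ Zs ρ t H, (g * z * g⁻¹) * z' = z' * (g * z * g⁻¹) := by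
    intro z' hz'
    have hsz : sp ρ z' ≤ WB ρ t H := range_le_CV ρ (Subgroup.subset_closure hz')
    have hz'O : ∀ w ∈ Orth f (WB ρ t H), ρ z' w = w := by
      intro w hw
      rw [← mem_Orth_sp h.toIsoG]
      exact fun x hx => hw x (hsz hx)
    have hym : (WB ρ t H).map (ρ (g * z * g⁻¹)) = WB ρ t H := by
      apply map_eq_of_le
      rintro _ ⟨w, hw, rfl⟩
      rw [hyW w hw]
      exact hw
    have hyO := Orth_map_of_map h.toIsoG hym
    have hz'm := hs.WB_map hz'.1
    apply eq_of_parts h.inj hs.nd_WB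
    · intro w hw
      rw [mul_ap (ρ := ρ) (g * z * g⁻¹) z' w, mul_ap (ρ := ρ) z' (g * z * g⁻¹) w, hyW _ (mem_of_map hz'm hw), hyW w hw]
    · intro w hw
      rw [mul_ap (ρ := ρ) (g * z * g⁻¹) z' w, mul_ap (ρ := ρ) z' (g * z * g⁻¹) w, hz'O w hw,
        hz'O _ (mem_of_map hyO hw)]
  have hyt : ∃ k : ℕ, (g * z * g⁻¹) ^ t ^ k = 1 := (hz.2.conj g).1
  have hyH : g * z * g⁻¹ ∈ H := sx_of_syl hs h.syl _ hyt hyS
  have hyZ : g * z * g⁻¹ ∈ Zs ρ t H := ⟨hyH, hz.2.conj g⟩
  have h1 : sp ρ (g * z * g⁻¹) ≤ WB ρ t H := range_le_CV ρ (Subgroup.subset_closure hyZ)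
  have h2 : sp ρ (g * z * g⁻¹) = ⊥ := by
    rw [eq_bot_iff]
    intro x hx
    rw [Submodule.mem_bot]
    exact hs.nd_WB x (h1 hx) (fun w hw => hspy hx w hw)
  rw [sp_eq_bot h.inj, conj_eq_one_iff] at h2
  exact hz1 h2

theorem dim_block (h : Frame ρ (QuadraticMap.polarBilin Q) (⇑Q) π H r t)
    (h3 : 3 ≤ finrank F (Orth (QuadraticMap.polarBilin Q) (WB ρ t H))) {U : Submodule F V} (hU : U ∈ Bl ρ t H) :
    4 ≤ finrank F U := by
  have hs := std_of h
  obtain ⟨m, hm, -⟩ := block_card hs (sx_of_syl hs h.syl) hU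
  have hm0 : m ≠ 0 := by
    rintro rfl
    exact hs.bl_ne_bot hU (Submodule.finrank_eq_zero.1 (by rw [hm]))
  have hnd : ∀ {X : Submodule F V}, ND (QuadraticMap.polarBilin Q) X → Cfsg.Agent.H900.Four.Nd Q X := by
    intro X hX x hx hxy
    exact hX x hx (fun y hy => by
      show QuadraticMap.polar Q y x = 0
      rw [QuadraticMap.polar_comm]
      exact hxy y hy)
  have hm1 : m ≠ 1 := by
    rintro rfl
    have hQ : Cfsg.Agent.LieClassical.OrthCore.Nondeg Q := by
      intro x hx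
      apply h.nd
      intro y
      show QuadraticMap.polar Q y x = 0
      rw [QuadraticMap.polar_comm]
      exact hx y
    obtain ⟨g, hg, hgU⟩ := exists_move hQ (hnd (hs.nd_bl hU)) (by omega) (hnd (nd_orth h.toIsoG hs.nd_WB)) h3
    obtain ⟨k, hk⟩ := h.full (g : V →ₗ[F] V) (fun u v => by
      show QuadraticMap.polar Q (g u) (g v) = QuadraticMap.polar Q u v
      rw [QuadraticMap.polar, ← map_add, hg, hg, hg, QuadraticMap.polar]) hg
    refine not_moved h hU k (fun u hu => ?_)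
    rw [hk]
    exact hgU u hu
  omega

/-- **`dim V₁ ≥ 12`** -/
theorem dim_ge (h : Frame ρ (QuadraticMap.polarBilin Q) (⇑Q) π H r t)
    (h3 : 3 ≤ finrank F (Orth (QuadraticMap.polarBilin Q) (WB ρ t H))) : 12 ≤ finrank F (WB ρ t H) := by
  classical
  have hs := std_of h
  obtain ⟨J, hJ, hJ3, -⟩ := exists_class h (fun v => QuadraticMap.map_neg Q v)
  have h1 := finrank_sup_bl hs J (fun U hU => mem_bls.1 (hJ hU))
  have h2 : J.sup id ≤ WB ρ t H := by
    apply Finset.sup_le
    intro U hU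
    exact le_bl hs (mem_bls.1 (hJ hU))
  have h4 := Submodule.finrank_mono h2
  have h5 : ∑ _U ∈ J, 4 ≤ ∑ U ∈ J, finrank F U :=
    Finset.sum_le_sum (fun U hU => dim_block h h3 (mem_bls.1 (hJ hU)))
  rw [Finset.sum_const, smul_eq_mul] at h5
  omega

end Cfsg.Agent.H22.DPi
end

-- part: H602/DPO/RowO
section
/-!
# S4247, row `POmega` in characteristic `p ∉ π`, modulo `excl` (helper602)
-/

set_option autoImplicit false
set_option linter.unusedSectionVars false

namespace Cfsg.Agent.H602.DPO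

open Module Subgroup Cfsg Cfsg.Agent.H167.OP Cfsg.Agent.H170.HL Cfsg.Agent.H988.CPi Cfsg.Agent.H560.HallKey
  Cfsg.Agent.H553.OddHall Cfsg.Agent.H571.RV Cfsg.Agent.H572.RV Cfsg.Agent.H602.DP Cfsg.Agent.H969.DPi
  Cfsg.Agent.H817.DPi Cfsg.Agent.LieClassical.OrthCore Cfsg.Agent.LieClassical.OrthTrans
  Cfsg.Agent.LieClassical.OrthForms Cfsg.Agent.LieClassical.OrthFinite Cfsg.Agent.TitsThree.KSideO Cfsg.Agent.H22.DPi

universe u

/-- the alternatives for the induction hypothesis -/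
def EX (π : Set ℕ) (p : ℕ) : Prop :=
  2 ∉ π → ∀ (X : Type) [Group X] [Finite X] [IsSimpleGroup X], ¬ IsMulCommutative X →
      IsLieTypeChar p X → Cls π X → (∀ P : Subgroup X, IsPiHall π P → Group.IsNilpotent P) ∨
      Nonempty (X ≃* Matrix.ProjectiveSpecialLinearGroup (Fin 3) (ZMod 2)) ∨
      Nonempty (X ≃* Matrix.ProjectiveSpecialLinearGroup (Fin 5) (ZMod 2))

theorem row_form {π : Set ℕ} {S : Type u} [Group S] [Finite S] [IsSimpleGroup S] {p : ℕ} (hp : p.Prime) (hpπ : p ∉ π)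
    {F : Type} [Field F] [Fintype F] [CharP F p] {ι : Type} [Fintype ι] [DecidableEq ι] {Q : QuadraticForm F (ι → F)}
    (hN : Nondeg Q) (hQ : OmRow.GoodQ Q) (hc : 7 ≤ Fintype.card ι) {Q' : (ι → F) → F} (hQQ : ⇑Q = Q')
    (e : S ≃* Cfsg.POmega F Q')
    (hOB : center (Cfsg.POmega F Q') = ⊥ → Cfsg.Agent.H704.DPi.OB (Cfsg.POmega F Q') (Fintype.card F) (Fintype.card ι))
    (hexc : EX π p) : Row π S := by
  subst hQQ
  have hG : Good Q := good_of_finite hN (by rw [Module.finrank_fintype_fun_eq_card]; omega)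
  have hfin : Finite (Cfsg.POmega F (⇑Q)) := Finite.of_equiv S e.toEquiv
  have hsim : IsSimpleGroup (Cfsg.POmega F (⇑Q)) := e.symm.isSimpleGroup
  apply Cfsg.Agent.H640.DPU.row_congr e
  intro P K B hC hIH
  have hna : ¬ IsMulCommutative (Cfsg.POmega F (⇑Q)) := by
    intro hc
    apply hC.nnil
    have h1 : ∀ a b : P, a * b = b * a := fun a b => Subtype.ext (hc.is_comm.comm (a : Cfsg.POmega F (⇑Q)) b)
    exact @CommGroup.isNilpotent P { (inferInstance : Group P) with mul_comm := h1 }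
  have hZ : center (Cfsg.POmega F (⇑Q)) = ⊥ := by
    rcases (inferInstance : (center (Cfsg.POmega F (⇑Q))).Normal).eq_bot_or_eq_top with h | h
    · exact h
    · exfalso
      apply hna
      refine ⟨⟨fun a b => ?_⟩⟩
      have h1 : b ∈ center (Cfsg.POmega F (⇑Q)) := by rw [h]; exact mem_top b
      exact Subgroup.mem_center_iff.mp h1 a
  have hob := hOB hZ
  rw [← Nat.card_eq_fintype_card] at hob
  exact row_of hp hG hQ (MulEquiv.refl _) hob
    (fun h2 H hH hn => Cfsg.Agent.H572.DPO.exists_frame (isoG_om hQ) h2 (cast_ne hp hpπ) hH hn)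
    (fun H r t h h3 => Cfsg.Agent.H22.DPi.dim_ge h h3) hexc P K B hC hIH

/-- **Row `POmega`** modulo `excl` -/
theorem row_om_of {π : Set ℕ} {S : Type u} [Group S] [Finite S] [IsSimpleGroup S] {p : ℕ} (hp : p.Prime) (hpπ : p ∉ π)
    (hexc : EX π p) (h : IsPOmegaOddChar p S ∨ IsPOmegaPlusChar p S ∨ IsPOmegaMinusChar p S) : Row π S := by
  rcases h with h | h | h
  · obtain ⟨F, _, _, hchar, m, hm, hodd, ⟨e⟩⟩ := h
    obtain ⟨f, hpp, hf⟩ := FiniteField.card F p
    have hpo : Odd p := by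
      rw [hf] at hodd
      rcases hp.eq_two_or_odd' with h2 | h2
      · subst h2
        exact absurd (Nat.even_pow.mpr ⟨even_two, f.ne_zero⟩) (Nat.not_even_iff_odd.mpr hodd)
      · exact h2
    have h2' : (2 : F) ≠ 0 := by
      intro h
      have h1 : ((2 : ℕ) : F) = 0 := by exact_mod_cast h
      rw [CharP.cast_eq_zero_iff F p, Nat.prime_dvd_prime_iff_eq hp Nat.prime_two] at h1
      subst h1
      exact absurd hpo (by decide)
    refine row_form hp hpπ (nondeg_oddForm m F h2') (OmRow.goodQ_odd (by omega) h2') ?_ (coe_oddForm m F) e ?_ hexc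
    · simp only [_root_.Fintype.card_sum, _root_.Fintype.card_unique, _root_.Fintype.card_fin]; omega
    · intro hZ
      have h1 := Cfsg.Agent.H704.DPi.ob_odd hp f.pos hf hpo hm hZ
      rw [hf]
      convert h1 using 1
      simp only [_root_.Fintype.card_sum, _root_.Fintype.card_unique, _root_.Fintype.card_fin]
      omega
  · obtain ⟨F, _, _, hchar, m, hm, ⟨e⟩⟩ := h
    obtain ⟨f, hpp, hf⟩ := FiniteField.card F p
    refine row_form hp hpπ (nondeg_plusForm m F) (OmRow.goodQ_plus (by omega)) ?_ (coe_plusForm m F) e ?_ hexc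
    · simp only [_root_.Fintype.card_sum, _root_.Fintype.card_fin]; omega
    · intro hZ
      have h1 := Cfsg.Agent.H704.DPi.ob_plus hp f.pos hf hm hZ
      rw [hf]
      convert h1 using 1
      simp only [_root_.Fintype.card_sum, _root_.Fintype.card_fin]
      omega
  · obtain ⟨F, _, _, hchar, m, a, b, hm, hab, ⟨e⟩⟩ := h
    obtain ⟨f, hpp, hf⟩ := FiniteField.card F p
    refine row_form hp hpπ (nondeg_minusForm (m - 1) F a b hab) (OmRow.goodQ_minus (by omega) a b hab) ?_
      (coe_minusForm (m - 1) F a b) e ?_ hexc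
    · simp only [_root_.Fintype.card_sum, _root_.Fintype.card_fin, _root_.Nat.reduceLeDiff]; omega
    · intro hZ
      have h1 := Cfsg.Agent.H704.DPi.ob_minus hp f.pos hf hm a b hab hZ
      rw [hf]
      convert h1 using 1
      simp only [_root_.Fintype.card_sum, _root_.Fintype.card_fin]
      omega

end Cfsg.Agent.H602.DPO
end
end

-- part: H783/Her/Main
section
prune_inst 0x1103045404c2212000000000082000004680001000000080000000804080822000000804004800002000200800001002001000000c20000000a000400000400209080100030400004040009000080000000000000000000000000000000000000000000000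
set_option linter.all false
open scoped Cfsg.Agent.FastGrp

-- part: H783/Her/Semi
section
/-!
# S4247: `p`-parts of the orders of groups of semilinear maps (helper783)

* `semi_le` : a group of `F`-semilinear permutations of `V`, `|F| = p ^ g`, `dim V = a`:
  `v_p |H| ≤ g (a (a - 1) / 2) + v_p g`;
* `symp_le` : a group of semisimilarities of a nondegenerate alternating form, `dim V = 2 r`:
  `v_p |H| ≤ g r² + v_p g`.
-/

set_option autoImplicit false
set_option linter.unusedSectionVars false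

namespace Cfsg.Agent.H783.Her

open Module

universe u

/-! ### numbers -/

theorem fac_pow_sub_one {p m : ℕ} (hp : p.Prime) (hm : m ≠ 0) : (p ^ m - 1).factorization p = 0 := by
  apply Nat.factorization_eq_zero_of_not_dvd
  intro h
  have h1 : 1 ≤ p ^ m := Nat.one_le_pow _ _ hp.pos
  have h2 : p ∣ p ^ m := dvd_pow_self p hm
  have h3 : p ∣ p ^ m - (p ^ m - 1) := Nat.dvd_sub h2 h
  rw [Nat.sub_sub_self h1] at h3
  exact hp.one_lt.ne' (Nat.dvd_one.1 h3)

theorem pow_sub_one_ne {p m : ℕ} (hp : p.Prime) (hm : m ≠ 0) : p ^ m - 1 ≠ 0 := by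
  have : 1 < p ^ m := Nat.one_lt_pow hm hp.one_lt
  omega

/-- the order of `GL_a` -/
def cGL (q a : ℕ) : ℕ := ∏ i : Fin a, (q ^ a - q ^ (i : ℕ))

theorem fac_term {p g a i : ℕ} (hp : p.Prime) (hg : g ≠ 0) (hi : i < a) :
    (p ^ g) ^ a - (p ^ g) ^ i ≠ 0 ∧ ((p ^ g) ^ a - (p ^ g) ^ i).factorization p = g * i := by
  have h1 : (p ^ g) ^ a - (p ^ g) ^ i = p ^ (g * i) * (p ^ (g * (a - i)) - 1) := by
    rw [Nat.mul_sub, mul_one, ← pow_add, ← Nat.mul_add, Nat.add_sub_cancel' hi.le, pow_mul, pow_mul]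
  have h2 : g * (a - i) ≠ 0 := Nat.mul_ne_zero hg (by omega)
  rw [h1]
  refine ⟨Nat.mul_ne_zero (pow_ne_zero _ hp.ne_zero) (pow_sub_one_ne hp h2), ?_⟩
  rw [Nat.factorization_mul (pow_ne_zero _ hp.ne_zero) (pow_sub_one_ne hp h2), Finsupp.add_apply,
    fac_pow_sub_one hp h2, add_zero, hp.factorization_pow, Finsupp.single_eq_same]

theorem cGL_ne {p g a : ℕ} (hp : p.Prime) (hg : g ≠ 0) : cGL (p ^ g) a ≠ 0 :=
  Finset.prod_ne_zero_iff.2 fun i _ => (fac_term hp hg i.2).1

theorem fac_cGL {p g a : ℕ} (hp : p.Prime) (hg : g ≠ 0) : (cGL (p ^ g) a).factorization p = g * (a * (a - 1) / 2) := by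
  unfold cGL
  rw [Nat.factorization_prod fun i _ => (fac_term hp hg i.2).1, Finset.sum_apply']
  rw [Finset.sum_congr rfl fun i _ => (fac_term hp hg i.2).2, ← Finset.mul_sum]
  congr 1
  rw [Fin.sum_univ_eq_sum_range (fun i => i) a, Finset.sum_range_id]

theorem cSp_ne {p g r : ℕ} (hp : p.Prime) (hg : g ≠ 0) : H196.SymForm.cSp (p ^ g) r ≠ 0 := by
  unfold H196.SymForm.cSp
  refine Nat.mul_ne_zero (pow_ne_zero _ (pow_ne_zero _ hp.ne_zero)) (Finset.prod_ne_zero_iff.2 fun i _ => ?_)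
  rw [← pow_mul]
  exact pow_sub_one_ne hp (Nat.mul_ne_zero hg (by omega))

theorem fac_cSp {p g r : ℕ} (hp : p.Prime) (hg : g ≠ 0) :
    (H196.SymForm.cSp (p ^ g) r).factorization p = g * r ^ 2 := by
  have h0 : ∀ i ∈ Finset.range r, (p ^ g) ^ (2 * (i + 1)) - 1 ≠ 0 := fun i _ => by
    rw [← pow_mul]
    exact pow_sub_one_ne hp (Nat.mul_ne_zero hg (by omega))
  unfold H196.SymForm.cSp
  rw [Nat.factorization_mul (pow_ne_zero _ (pow_ne_zero _ hp.ne_zero)) (Finset.prod_ne_zero_iff.2 h0), Finsupp.add_apply,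
    Nat.factorization_prod h0, Finset.sum_apply', ← pow_mul, hp.factorization_pow, Finsupp.single_eq_same,
    Finset.sum_eq_zero fun i _ => ?_, add_zero]
  rw [← pow_mul]
  exact fac_pow_sub_one hp (Nat.mul_ne_zero hg (by omega))

theorem card_equiv {K V : Type*} [Field K] [Fintype K] [AddCommGroup V] [Module K V] [FiniteDimensional K V] {n : ℕ}
    (hn : Module.finrank K V = n) : Nat.card (V ≃ₗ[K] V) = cGL (Fintype.card K) n := by
  classical
  have b : Module.Basis (Fin n) K V := Module.finBasisOfFinrankEq K V hn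
  unfold cGL
  rw [← Matrix.card_GL_field]
  exact (Nat.card_congr ((Matrix.GeneralLinearGroup.toLin' b).trans
    (LinearMap.GeneralLinearGroup.generalLinearEquiv K V)).toEquiv).symm

/-! ### semilinear groups -/

section semi

variable {F : Type*} {V : Type u} [Field F] [AddCommGroup V] [Module F V] {H : Subgroup (Equiv.Perm V)}

/-- additive and semilinear -/
structure SL (F : Type*) {V : Type u} [Field F] [AddCommGroup V] [Module F V] (H : Subgroup (Equiv.Perm V)) : Prop where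
  add : ∀ h ∈ H, ∀ v w : V, h (v + w) = h v + h w
  semi : ∀ h ∈ H, ∃ σ : F ≃+* F, ∀ (c : F) (v : V), h (c • v) = σ c • h v

theorem SL.zero (h : SL F H) {x : Equiv.Perm V} (hx : x ∈ H) : x 0 = 0 := by
  have := h.add x hx 0 0
  rw [add_zero] at this
  exact left_eq_add.1 this

/-- the field automorphism -/
noncomputable def SL.sig (h : SL F H) (x : H) : F ≃+* F := (h.semi x x.2).choose

theorem SL.sig_spec (h : SL F H) (x : H) (c : F) (v : V) : (x : Equiv.Perm V) (c • v) = h.sig x c • (x : Equiv.Perm V) v :=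
  (h.semi x x.2).choose_spec c v

theorem SL.uniq [Nontrivial V] (h : SL F H) {x : Equiv.Perm V} (hx : x ∈ H) {σ τ : F ≃+* F}
    (h1 : ∀ (c : F) (v : V), x (c • v) = σ c • x v) (h2 : ∀ (c : F) (v : V), x (c • v) = τ c • x v) : σ = τ := by
  obtain ⟨v, hv⟩ := exists_ne (0 : V)
  have hv' : x v ≠ 0 := by
    rw [← h.zero hx]
    exact fun h => hv (x.injective h)
  ext c
  exact smul_left_injective F hv' ((h1 c v).symm.trans (h2 c v))

theorem SL.sig_eq [Nontrivial V] (h : SL F H) (x : H) {σ : F ≃+* F}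
    (h1 : ∀ (c : F) (v : V), (x : Equiv.Perm V) (c • v) = σ c • (x : Equiv.Perm V) v) : h.sig x = σ :=
  h.uniq x.2 (h.sig_spec x) h1

/-- the homomorphism to the automorphism group of the field -/
noncomputable def SL.phi [Nontrivial V] (h : SL F H) : H →* RingAut F :=
  MonoidHom.mk' (fun x => h.sig x) fun x y => h.sig_eq _ fun c v => by
    change (x : Equiv.Perm V) ((y : Equiv.Perm V) (c • v)) = (h.sig x (h.sig y c)) • (x : Equiv.Perm V) ((y : Equiv.Perm V) v)
    rw [h.sig_spec, h.sig_spec]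

theorem SL.lin_of_ker [Nontrivial V] (h : SL F H) (x : H) (hx : h.phi x = 1) (c : F) (v : V) :
    (x : Equiv.Perm V) (c • v) = c • (x : Equiv.Perm V) v := by
  have h1 : h.sig x = 1 := hx
  rw [h.sig_spec, h1]
  rfl

/-- the linear maps -/
noncomputable def SL.lin [Nontrivial V] (h : SL F H) : h.phi.ker →* (V ≃ₗ[F] V) where
  toFun x := { (x : H).1 with
    map_add' := h.add _ x.1.2
    map_smul' := fun c v => h.lin_of_ker x.1 x.2 c v }
  map_one' := rfl
  map_mul' _ _ := rfl

theorem SL.lin_apply [Nontrivial V] (h : SL F H) (x : h.phi.ker) (v : V) : h.lin x v = x.1.1 v := rfl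

theorem SL.lin_injective [Nontrivial V] (h : SL F H) : Function.Injective h.lin := by
  intro x y hxy
  apply Subtype.ext
  apply Subtype.ext
  ext v
  rw [← h.lin_apply, hxy, h.lin_apply]

theorem card_eq {A B : Type*} [Group A] [Group B] (φ : A →* B) : Nat.card A = Nat.card φ.range * Nat.card φ.ker := by
  rw [← Subgroup.index_ker, mul_comm, Subgroup.card_mul_index]

theorem SL.fac_le [Fintype F] [Finite V] [Nontrivial V] (h : SL F H) {p g : ℕ} [Fact p.Prime] (hg : 1 ≤ g)
    (hF : Fintype.card F = p ^ g) {m : ℕ} (hm : (Nat.card h.phi.ker).factorization p ≤ m) :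
    (Nat.card H).factorization p ≤ m + g.factorization p := by
  have : Finite H := inferInstance
  have h1 : Nat.card h.phi.range ∣ g := by
    have h2 : Nat.card (RingAut F) = g := Cfsg.Agent.Lib.FieldAutCard.card_ringAut hg hF
    rw [← h2]
    exact Subgroup.card_subgroup_dvd_card _
  have h3 : (Nat.card h.phi.range).factorization p ≤ g.factorization p :=
    (Nat.factorization_le_iff_dvd (Nat.pos_of_dvd_of_pos h1 hg).ne' (by omega)).2 h1 p
  have : Finite h.phi.range := Nat.finite_of_card_ne_zero (Nat.pos_of_dvd_of_pos h1 hg).ne'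
  rw [card_eq h.phi, Nat.factorization_mul Nat.card_pos.ne' Nat.card_pos.ne', Finsupp.add_apply]
  omega

/-- **semilinear groups** -/
theorem semi_le [Fintype F] [Finite V] (h : SL F H) {p g a : ℕ} [Fact p.Prime] (hg : 1 ≤ g)
    (hF : Fintype.card F = p ^ g) (ha : finrank F V = a) (ha1 : 1 ≤ a) :
    (Nat.card H).factorization p ≤ g * (a * (a - 1) / 2) + g.factorization p := by
  have hp : p.Prime := Fact.out
  have : Module.Finite F V := Module.Finite.of_finite
  have : Nontrivial V := Module.nontrivial_of_finrank_pos (R := F) (by omega)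
  refine h.fac_le hg hF ?_
  have h1 : Nat.card h.phi.ker ∣ cGL (p ^ g) a := by
    rw [← hF, ← card_equiv ha]
    exact Subgroup.card_dvd_of_injective h.lin h.lin_injective
  rw [← fac_cGL hp (by omega)]
  exact (Nat.factorization_le_iff_dvd Nat.card_pos.ne' (cGL_ne hp (by omega))).2 h1 p

/-- **groups of semisimilarities** -/
theorem symp_le [Fintype F] [Finite V] (h : SL F H) {p g r : ℕ} [Fact p.Prime] (hg : 1 ≤ g)
    (hF : Fintype.card F = p ^ g) (ha : finrank F V = 2 * r) (hr : 1 ≤ r) (f : LinearMap.BilinForm F V)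
    (hf : f.IsAlt) (hfn : f.Nondegenerate)
    (hs : ∀ x ∈ H, ∀ σ : F ≃+* F, (∀ (c : F) (v : V), x (c • v) = σ c • x v) →
      ∃ μ : F, ∀ u v, f (x u) (x v) = μ * σ (f u v)) :
    (Nat.card H).factorization p ≤ g * r ^ 2 + g.factorization p := by
  have hp : p.Prime := Fact.out
  have : Module.Finite F V := Module.Finite.of_finite
  have : Nontrivial V := Module.nontrivial_of_finrank_pos (R := F) (by omega)
  have hchar : CharP F p := by
    obtain ⟨q, hq⟩ := CharP.exists F
    obtain ⟨n, hqp, hn⟩ := FiniteField.card F q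
    have : q ∣ p ^ g := by
      rw [← hF, hn]
      exact dvd_pow_self q n.pos.ne'
    rwa [← (Nat.prime_dvd_prime_iff_eq hqp hp).1 (hqp.dvd_of_dvd_pow this)]
  refine h.fac_le hg hF ?_
  obtain ⟨P⟩ : Nonempty (Sylow p h.phi.ker) := inferInstance
  -- the isometry group
  let I : Subgroup (V ≃ₗ[F] V) :=
    { carrier := {φ | ∀ x y, f (φ x) (φ y) = f x y}
      mul_mem' := fun {a b} h1 h2 x y => by
        change f (a (b x)) (a (b y)) = _
        rw [h1, h2]
      one_mem' := fun x y => rfl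
      inv_mem' := fun {a} h1 x y => by
        have h2 := h1 (a⁻¹ x) (a⁻¹ y)
        have h3 : ∀ z, a (a⁻¹ z) = z := fun z => a.apply_symm_apply z
        rw [h3, h3] at h2
        exact h2.symm }
  have hI : Nat.card I = H196.SymForm.cSp (p ^ g) r := by
    rw [← hF]
    exact H196.SymForm.card_iso_alt f hf hfn ha
  have key : ∀ x ∈ (P : Subgroup h.phi.ker), h.lin x ∈ I := by
    intro x hx
    obtain ⟨μ, hμ⟩ := hs x.1.1 x.1.2 (RingEquiv.refl F) fun c v => h.lin_of_ker x.1 x.2 c v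
    have hμ' : ∀ u v, f (h.lin x u) (h.lin x v) = μ * f u v := hμ
    have hpow : ∀ k : ℕ, ∀ u v, f ((h.lin x ^ k) u) ((h.lin x ^ k) v) = μ ^ k * f u v := by
      intro k
      induction k with
      | zero => intro u v; simp
      | succ k ih =>
        intro u v
        rw [pow_succ', pow_succ']
        change f (h.lin x ((h.lin x ^ k) u)) (h.lin x ((h.lin x ^ k) v)) = _
        rw [hμ', ih]
        ring
    obtain ⟨k, hk⟩ := P.2 ⟨x, hx⟩
    have hk' : x ^ p ^ k = 1 := congrArg Subtype.val hk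
    obtain ⟨u, hu⟩ := exists_ne (0 : V)
    obtain ⟨v, hv⟩ : ∃ v, f u v ≠ 0 := by
      by_contra hcon
      push Not at hcon
      exact hu (hfn.1 u hcon)
    have h1 := hpow (p ^ k) u v
    rw [← map_pow, hk', map_one] at h1
    have h2 : μ ^ p ^ k = 1 := by
      have h3 : (μ ^ p ^ k - 1) * f u v = 0 := by
        rw [sub_mul, one_mul, ← h1]
        exact sub_self _
      exact sub_eq_zero.1 ((mul_eq_zero.1 h3).resolve_right hv)
    have h4 : μ = 1 := by
      have h5 : (μ - 1) ^ p ^ k = 0 := by rw [sub_pow_char_pow, h2, one_pow, sub_self]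
      exact sub_eq_zero.1 (pow_eq_zero_iff (pow_ne_zero _ hp.ne_zero) |>.1 h5)
    intro u v
    rw [hμ', h4, one_mul]
  have h1 : Nat.card (P : Subgroup h.phi.ker) ∣ Nat.card I := by
    refine Subgroup.card_dvd_of_injective ((h.lin.comp (P : Subgroup h.phi.ker).subtype).codRestrict I
      fun x => key x x.2) ?_
    intro x y hxy
    apply Subtype.ext
    exact h.lin_injective (congrArg Subtype.val hxy)
  rw [hI, P.card_eq_multiplicity] at h1
  have h2 := (hp.pow_dvd_iff_le_factorization (cSp_ne hp (by omega))).1 h1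
  rwa [fac_cSp hp (by omega)] at h2

end semi

end Cfsg.Agent.H783.Her
end

-- part: H783/Her/Small
section
/-!
# S4247: the small cases of Hering's theorem (helper783)
-/

set_option autoImplicit false
set_option linter.unusedSectionVars false

namespace Cfsg.Agent.H783.Her

open Module

universe u

/-- a simple group of order not dividing `|GL_k(q)|` acts trivially in dimension `k` -/
theorem triv {K : Type*} {U : Type*} [Field K] [Fintype K] [AddCommGroup U] [Module K U] [Finite U] {N : Type*}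
    [Group N] [IsSimpleGroup N] (R : N →* Module.End K U) (h : ¬ Nat.card N ∣ cGL (Fintype.card K) (finrank K U))
    (x : N) : R x = 1 := by
  have : Module.Finite K U := Module.Finite.of_finite
  have hfin0 : Finite (U ≃ₗ[K] U) := Finite.of_injective (fun g : U ≃ₗ[K] U => (g : U → U)) DFunLike.coe_injective
  have hfin : Finite (Module.End K U)ˣ := Finite.of_equiv _ (LinearMap.GeneralLinearGroup.generalLinearEquiv K U).symm.toEquiv
  have h1 : R.toHomUnits.ker ≠ ⊥ := by
    intro h2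
    apply h
    rw [← card_equiv (K := K) (V := U) rfl,
      ← Nat.card_congr (LinearMap.GeneralLinearGroup.generalLinearEquiv K U).toEquiv]
    exact Subgroup.card_dvd_of_injective R.toHomUnits ((MonoidHom.ker_eq_bot_iff _).1 h2)
  have h2 : R.toHomUnits.ker = ⊤ := (IsSimpleGroup.eq_bot_or_eq_top_of_normal _ inferInstance).resolve_left h1
  have h3 : x ∈ R.toHomUnits.ker := by rw [h2]; exact Subgroup.mem_top x
  exact congrArg Units.val (MonoidHom.mem_ker.1 h3)

/-- a simple group of linear maps commuting with a linear map of order `p` -/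
theorem no_comm {K : Type*} {V : Type*} [Field K] [Fintype K] [AddCommGroup V] [Module K V] [Finite V] {p : ℕ}
    [Fact p.Prime] [CharP K p] {N : Type*} [Group N] [IsSimpleGroup N] (ρ : N →* (V ≃ₗ[K] V))
    (hρ : Function.Injective ρ) {x₀ : N} (hx₀ : x₀ ^ p ≠ 1) (c : V ≃ₗ[K] V) (hc1 : c ≠ 1) (hcp : c ^ p = 1)
    (hcomm : ∀ x, c * ρ x = ρ x * c)
    (hcard : ∀ k, k < finrank K V → ¬ Nat.card N ∣ cGL (Fintype.card K) k) : False := by
  have hp : p.Prime := Fact.out
  have : Module.Finite K V := Module.Finite.of_finite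
  have hnt : Nontrivial V := by
    by_contra h
    rw [not_nontrivial_iff_subsingleton] at h
    exact hc1 (LinearEquiv.ext fun v => Subsingleton.elim _ _)
  let C : Module.End K V := (c : V →ₗ[K] V)
  have hC : C ^ p = 1 := by
    have h1 : ∀ k : ℕ, ((c ^ k : V ≃ₗ[K] V) : V →ₗ[K] V) = C ^ k := by
      intro k
      induction k with
      | zero => rfl
      | succ k ih =>
        rw [pow_succ, pow_succ, ← ih]
        rfl
    rw [← h1, hcp]
    rfl
  have hch : CharP (Module.End K V) p :=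
    (RingHom.charP_iff (algebraMap K (Module.End K V)) (FaithfulSMul.algebraMap_injective K (Module.End K V)) p).1
      inferInstance
  have hnil : (C - 1) ^ p = 0 := by
    rw [sub_pow_char_of_commute p (Commute.one_right C), hC, one_pow, sub_self]
  let W : Submodule K V := LinearMap.ker (C - 1)
  have hmemW : ∀ v, v ∈ W ↔ c v = v := by
    intro v
    rw [LinearMap.mem_ker, LinearMap.sub_apply]
    exact sub_eq_zero
  have hWtop : W ≠ ⊤ := by
    intro h
    apply hc1
    ext v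
    exact (hmemW v).1 (by rw [h]; trivial)
  have hWbot : W ≠ ⊥ := by
    intro h
    have h1 : Function.Injective (⇑(C - 1 : Module.End K V)) := LinearMap.ker_eq_bot.1 h
    have h2 : Function.Injective (⇑((C - 1 : Module.End K V) ^ p)) := by
      rw [Module.End.coe_pow]
      exact h1.iterate p
    rw [hnil] at h2
    obtain ⟨v, hv⟩ := exists_ne (0 : V)
    exact hv (h2 rfl)
  have hinv : ∀ x : N, ∀ w ∈ W, ρ x w ∈ W := by
    intro x w hw
    rw [hmemW] at hw ⊢
    have h1 : c (ρ x w) = ρ x (c w) := LinearEquiv.congr_fun (hcomm x) w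
    rw [h1, hw]
  have hW1 : finrank K W < finrank K V := Submodule.finrank_lt hWtop
  have hW2 : finrank K (V ⧸ W) < finrank K V := by
    have h1 := W.finrank_quotient_add_finrank
    have h2 : 0 < finrank K W := by
      have : Nontrivial W := (Submodule.nontrivial_iff_ne_bot).2 hWbot
      exact Module.finrank_pos
    omega
  let R1 : N →* Module.End K W :=
    { toFun := fun x => (ρ x : V →ₗ[K] V).restrict (hinv x)
      map_one' := by
        ext w
        show (((ρ 1 : V ≃ₗ[K] V) : V →ₗ[K] V) w : V) = w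
        rw [map_one]
        rfl
      map_mul' := fun x y => by
        ext w
        show (((ρ (x * y) : V ≃ₗ[K] V) : V →ₗ[K] V) w : V) = _
        rw [map_mul]
        rfl }
  let R2 : N →* Module.End K (V ⧸ W) :=
    { toFun := fun x => W.mapQ W (ρ x : V →ₗ[K] V) (hinv x)
      map_one' := by
        apply LinearMap.ext
        intro v
        obtain ⟨v, rfl⟩ := W.mkQ_surjective v
        show W.mkQ (((ρ 1 : V ≃ₗ[K] V) : V →ₗ[K] V) v) = W.mkQ v
        rw [map_one]
        rfl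
      map_mul' := fun x y => by
        apply LinearMap.ext
        intro v
        obtain ⟨v, rfl⟩ := W.mkQ_surjective v
        show W.mkQ (((ρ (x * y) : V ≃ₗ[K] V) : V →ₗ[K] V) v) = W.mkQ _
        rw [map_mul]
        rfl }
  have hfq : Finite (V ⧸ W) := Finite.of_surjective _ W.mkQ_surjective
  have ht1 := triv R1 (hcard _ hW1) x₀
  have ht2 := triv R2 (hcard _ hW2) x₀
  have e1 : ∀ w ∈ W, ρ x₀ w = w := fun w hw => congrArg Subtype.val (LinearMap.congr_fun ht1 ⟨w, hw⟩)
  have e2 : ∀ v, ρ x₀ v - v ∈ W := fun v => by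
    have h1 : W.mkQ (ρ x₀ v) = W.mkQ v := LinearMap.congr_fun ht2 (W.mkQ v)
    rw [← sub_eq_zero, ← map_sub] at h1
    exact (Submodule.Quotient.mk_eq_zero W).1 h1
  have e3 : ∀ (k : ℕ) (v : V), (ρ x₀ ^ k) v = v + k • (ρ x₀ v - v) := by
    intro k
    induction k with
    | zero => intro v; simp
    | succ k ih =>
      intro v
      rw [pow_succ']
      change ρ x₀ ((ρ x₀ ^ k) v) = _
      rw [ih, map_add, map_nsmul, e1 _ (e2 v), succ_nsmul]
      abel
  apply hx₀
  apply hρ
  rw [map_pow, map_one]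
  ext v
  rw [e3, ← Nat.cast_smul_eq_nsmul K, CharP.cast_eq_zero, zero_smul, add_zero]
  rfl

section prime

variable {K : Type*} {V : Type u} [Field K] [Fintype K] [AddCommGroup V] [Module K V] [Finite V] [Nontrivial V]
  {H : Subgroup (Equiv.Perm V)} {p : ℕ} [hp : Fact p.Prime]

theorem SL.phi_eq_one (h : SL K H) (hK : Fintype.card K = p) (x : H) : h.phi x = 1 := by
  have h1 : Nat.card (RingAut K) = 1 := Cfsg.Agent.Lib.FieldAutCard.card_ringAut (p := p) le_rfl (by rw [hK, pow_one])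
  have h2 : Subsingleton (RingAut K) := (Nat.card_eq_one_iff_unique.1 h1).1
  exact Subsingleton.elim _ _

/-- over the prime field: linear maps -/
noncomputable def SL.gl (h : SL K H) (hK : Fintype.card K = p) : H →* (V ≃ₗ[K] V) where
  toFun x := h.lin ⟨x, h.phi_eq_one hK x⟩
  map_one' := map_one h.lin
  map_mul' x y := map_mul h.lin ⟨x, h.phi_eq_one hK x⟩ ⟨y, h.phi_eq_one hK y⟩

theorem SL.gl_injective (h : SL K H) (hK : Fintype.card K = p) : Function.Injective (h.gl hK) := fun _ _ hxy =>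
  congrArg Subtype.val (h.lin_injective hxy)

theorem char_of_card (hK : Fintype.card K = p) : CharP K p := by
  obtain ⟨q, hq⟩ := CharP.exists K
  obtain ⟨n, hqp, hn⟩ := FiniteField.card K q
  have : q ∣ p := by
    rw [← hK, hn]
    exact dvd_pow_self q n.pos.ne'
  rwa [← (Nat.prime_dvd_prime_iff_eq hqp hp.out).1 this]

/-- a simple subgroup commuting with an element of order `p` -/
theorem no_comm' (h : SL K H) (hK : Fintype.card K = p) (N : Subgroup H) [IsSimpleGroup N]
    (hx₀ : ∃ x ∈ N, x ^ p ≠ 1) {c : H} (hc : orderOf c = p) (hcomm : ∀ x ∈ N, c * x = x * c)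
    (hcard : ∀ k, k < finrank K V → ¬ Nat.card N ∣ cGL p k) : False := by
  have := char_of_card (K := K) hK
  obtain ⟨x₀, hx, hx₀⟩ := hx₀
  refine no_comm (p := p) ((h.gl hK).comp N.subtype) ((h.gl_injective hK).comp N.subtype_injective)
    (x₀ := ⟨x₀, hx⟩) (fun h1 => hx₀ (congrArg Subtype.val h1)) (h.gl hK c) ?_ ?_ ?_ (by rw [hK]; exact hcard)
  · intro h1
    have h2 : c = 1 := h.gl_injective hK (h1.trans (map_one _).symm)
    rw [h2, orderOf_one] at hc
    exact hp.out.one_lt.ne hc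
  · have h1 : c ^ p = 1 := by
      have h2 := pow_orderOf_eq_one c
      rwa [hc] at h2
    rw [← map_pow, h1, map_one]
  · intro x
    change h.gl hK c * h.gl hK x.1 = h.gl hK x.1 * h.gl hK c
    rw [← map_mul, ← map_mul, hcomm x.1 x.2]

end prime

theorem cGL_three {k : ℕ} (hk : k < 4) : ¬ 5 ∣ cGL 3 k := by
  interval_cases k <;> simp only [cGL, Fin.prod_univ_succ, _root_.Finset.univ_eq_empty, _root_.pow_zero, _root_.Finset.prod_empty, _root_.Nat.dvd_one, _root_.OfNat.ofNat_ne_one, _root_.not_false_eq_true, _root_.Finset.univ_unique, _root_.Fin.default_eq_zero, _root_.Fin.isValue, _root_.pow_one, _root_.Fin.val_eq_zero, _root_.Nat.add_one_sub_one, _root_.Finset.prod_const, _root_.Finset.card_singleton, _root_.Nat.reduceDvd, _root_.Nat.reducePow, _root_.Fin.coe_ofNat_eq_mod, _root_.Nat.zero_mod, _root_.Fin.val_succ, _root_.zero_add, _root_.Nat.reduceSub, _root_.Nat.reduceMul, _root_.Nat.reduceAdd]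

theorem cGL_two {k : ℕ} (hk : k < 6) : ¬ 6048 ∣ cGL 2 k := by
  interval_cases k <;> simp only [cGL, Fin.prod_univ_succ, _root_.Finset.univ_eq_empty, _root_.pow_zero, _root_.Finset.prod_empty, _root_.Nat.dvd_one, _root_.OfNat.ofNat_ne_one, _root_.not_false_eq_true, _root_.Finset.univ_unique, _root_.Fin.default_eq_zero, _root_.Fin.isValue, _root_.pow_one, _root_.Fin.val_eq_zero, _root_.Nat.add_one_sub_one, _root_.Finset.prod_const_one, _root_.Nat.reducePow, _root_.Fin.coe_ofNat_eq_mod, _root_.Nat.zero_mod, _root_.Fin.val_succ, _root_.zero_add, _root_.Nat.reduceSub, _root_.Finset.prod_const, _root_.Finset.card_singleton, _root_.Nat.reduceMul, _root_.Nat.reduceDvd, _root_.Nat.reduceAdd]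

theorem card_sl25 : Nat.card (Matrix.SpecialLinearGroup (Fin 2) (ZMod 5)) = 120 := by
  have : Fact (Nat.Prime 5) := ⟨by norm_num⟩
  have h := Cfsg.Agent.S0242.result (F := ZMod 5) (q := 5) (ZMod.card 5) 2 (by norm_num)
  rw [Fin.prod_univ_two] at h
  have h2 : (5 ^ 2 - 5 ^ ((0 : Fin 2) : ℕ)) * (5 ^ 2 - 5 ^ ((1 : Fin 2) : ℕ)) = 480 := by decide
  rw [h2] at h
  omega

section

variable {K : Type*} {V : Type u} [Field K] [Fintype K] [AddCommGroup V] [Module K V] [Finite V]
  {H : Subgroup (Equiv.Perm V)}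

/-- `(n, q) = (4, 3)`, `SL₂(5)` -/
theorem four_three (h : SL K H) (hK : Fintype.card K = 3) (hn : finrank K V = 4) (N : Subgroup H) [N.Normal]
    (e : N ≃* Matrix.SpecialLinearGroup (Fin 2) (ZMod 5)) : (Nat.card H).factorization 3 ≤ 4 := by
  have f3 : Fact (Nat.Prime 3) := ⟨by norm_num⟩
  have f5 : Fact (Nat.Prime 5) := ⟨by norm_num⟩
  have hnt : Nontrivial V := Module.nontrivial_of_finrank_pos (R := K) (by omega)
  have hN : Nat.card N = 120 := by rw [Nat.card_congr e.toEquiv, card_sl25]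
  obtain ⟨P⟩ : Nonempty (Sylow 3 H) := inferInstance
  obtain ⟨y, hy⟩ := exists_prime_orderOf_dvd_card' (G := N) 5 (by rw [hN]; norm_num)
  have hy' : orderOf (y : H) = 5 := by rw [Subgroup.orderOf_coe, hy]
  -- elements of order 3 do not commute with elements of order 5
  have key : ∀ u ∈ (P : Subgroup H), Commute u (y : H) → u = 1 := by
    intro u hu huy
    by_contra hne
    obtain ⟨k, hk⟩ := (IsPGroup.iff_orderOf.1 P.2) ⟨u, hu⟩
    rw [Subgroup.orderOf_mk] at hk
    have hk0 : k ≠ 0 := by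
      rintro rfl
      rw [pow_zero, orderOf_eq_one_iff] at hk
      exact hne hk
    have hc : orderOf (u ^ 3 ^ (k - 1)) = 3 := by
      rw [orderOf_pow_of_dvd (by positivity) (by rw [hk]; exact pow_dvd_pow 3 (by omega)), hk,
        Nat.pow_div (by omega) (by norm_num)]
      have : k - (k - 1) = 1 := by omega
      rw [this, pow_one]
    have hs : IsSimpleGroup (Subgroup.zpowers (y : H)) :=
      isSimpleGroup_of_prime_card (p := 5) (by rw [Nat.card_zpowers, hy'])
    refine no_comm' h hK (Subgroup.zpowers (y : H)) ⟨y, Subgroup.mem_zpowers _, ?_⟩ hc ?_ ?_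
    · intro h1
      have := orderOf_dvd_of_pow_eq_one h1
      rw [hy'] at this
      norm_num at this
    · rintro _ ⟨m, rfl⟩
      exact ((huy.pow_left _).zpow_right m).eq
    · intro k hk
      rw [Nat.card_zpowers, hy']
      exact cGL_three (by omega)
  -- the map `u ↦ u y u⁻¹`
  have hinj : Function.Injective fun u : (P : Subgroup H) =>
      (⟨(u : H) * y * (u : H)⁻¹, ‹N.Normal›.conj_mem _ y.2 _⟩ : N) := by
    intro u v huv
    have h1 : (u : H) * y * (u : H)⁻¹ = v * y * (v : H)⁻¹ := congrArg Subtype.val huv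
    have h2 : Commute ((v : H)⁻¹ * u) (y : H) := by
      show (v : H)⁻¹ * u * y = y * ((v : H)⁻¹ * u)
      calc (v : H)⁻¹ * u * y = (v : H)⁻¹ * (u * y * (u : H)⁻¹) * u := by group
        _ = (v : H)⁻¹ * (v * y * (v : H)⁻¹) * u := by rw [h1]
        _ = y * ((v : H)⁻¹ * u) := by group
    have h3 := key _ ((P : Subgroup H).mul_mem ((P : Subgroup H).inv_mem v.2) u.2) h2
    exact Subtype.ext (inv_mul_eq_one.1 h3).symm
  have h1 : Nat.card (P : Subgroup H) ≤ 120 := by
    rw [← hN]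
    exact Nat.card_le_card_of_injective _ hinj
  rw [P.card_eq_multiplicity] at h1
  by_contra hcon
  have h2 : 3 ^ 5 ≤ 3 ^ (Nat.card H).factorization 3 := Nat.pow_le_pow_right (by norm_num) (by omega)
  omega

/-- `(n, q) = (6, 2)`, `U₃(3)` -/
theorem six_two (h : SL K H) (hK : Fintype.card K = 2) (hn : finrank K V = 6) {E : Type} [Field E] [Fintype E]
    (hE : Fintype.card E = 9) (N : Subgroup H) [N.Normal] (e : N ≃* Cfsg.PSU 3 E 3) :
    (Nat.card H).factorization 2 ≤ 6 := by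
  have f2 : Fact (Nat.Prime 2) := ⟨by norm_num⟩
  have f7 : Fact (Nat.Prime 7) := ⟨by norm_num⟩
  have hnt : Nontrivial V := Module.nontrivial_of_finrank_pos (R := K) (by omega)
  have hN : Nat.card N = 6048 := by
    rw [Nat.card_congr e.toEquiv, Cfsg.Agent.SmallSimple.PSLFacts.card_psu_three_three hE]
  have hs : IsSimpleGroup (Cfsg.PSU 3 E 3) := Cfsg.Agent.S0283.result (q := 3) (by rw [hE]; norm_num) 3 le_rfl (by norm_num)
  have hsN : IsSimpleGroup N := e.isSimpleGroup
  have hA : Nat.card (MulAut (Cfsg.PSU 3 E 3)) = 48384 / 4 := by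
    rw [Cfsg.Agent.ClassicalGeometry.PSUAutCount.card_mulAut_of (q := 3) (p := 3) (f := 1) (by rw [hE]; norm_num) le_rfl
      (by norm_num) le_rfl (by norm_num) fun α => Cfsg.Agent.ClassicalGeometry.PSUAutMain.exists_toAut
        (by rw [hE]; norm_num) le_rfl (by norm_num) α, Cfsg.Agent.SmallSimple.PSLFacts.card_psu_three_three hE]
    norm_num
  have hA' : Nat.card (MulAut N) = 12096 := by
    rw [Nat.card_congr (MulAut.congr e).toEquiv, hA]
  have hfA : Finite (MulAut N) := Nat.finite_of_card_ne_zero (by rw [hA']; norm_num)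
  let ψ : H →* MulAut N := MulAut.conjNormal
  have hker : (Nat.card ψ.ker).factorization 2 = 0 := by
    apply Nat.factorization_eq_zero_of_not_dvd
    intro hd
    obtain ⟨c, hc⟩ := exists_prime_orderOf_dvd_card' (G := ψ.ker) 2 hd
    refine no_comm' h hK N ?_ (c := (c : H)) (by rw [Subgroup.orderOf_coe, hc]) ?_ ?_
    · obtain ⟨x, hx⟩ := exists_prime_orderOf_dvd_card' (G := N) 7 (by rw [hN]; norm_num)
      refine ⟨x, x.2, fun h1 => ?_⟩
      have h2 := orderOf_dvd_of_pow_eq_one h1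
      rw [Subgroup.orderOf_coe, hx] at h2
      norm_num at h2
    · intro x hx
      have h1 : ψ c.1 = 1 := c.2
      have h2 : ((ψ c.1 ⟨x, hx⟩ : N) : H) = c.1 * x * c.1⁻¹ := MulAut.conjNormal_apply _ _
      rw [h1] at h2
      have h3 : x = c.1 * x * c.1⁻¹ := h2
      exact (mul_inv_eq_iff_eq_mul.1 h3.symm)
    · intro k hk
      rw [hN]
      exact cGL_two (by omega)
  have hr : Nat.card ψ.range ∣ 12096 := by
    rw [← hA']
    exact Subgroup.card_subgroup_dvd_card _
  have hr2 : (Nat.card ψ.range).factorization 2 ≤ 6 := by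
    have h1 := (Nat.factorization_le_iff_dvd (Nat.pos_of_dvd_of_pos hr (by norm_num)).ne' (by norm_num)).2 hr 2
    have h2 : (12096 : ℕ).factorization 2 = 6 := by
      rw [show (12096 : ℕ) = 2 ^ 6 * 189 by norm_num, Nat.factorization_mul (by norm_num) (by norm_num),
        Finsupp.add_apply, Nat.prime_two.factorization_pow, Finsupp.single_eq_same,
        Nat.factorization_eq_zero_of_not_dvd (by norm_num : ¬ 2 ∣ 189)]
    omega
  have : Finite ψ.range := Nat.finite_of_card_ne_zero (Nat.pos_of_dvd_of_pos hr (by norm_num)).ne'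
  rw [card_eq ψ, Nat.factorization_mul Nat.card_pos.ne' Nat.card_pos.ne', Finsupp.add_apply]
  omega

end

end Cfsg.Agent.H783.Her
end

-- part: H783/Her/Main
section
/-!
# S4247: Hering's theorem and the `p`-part of the order (helper783)

* `her_of` : a semilinear group of degree `n ≥ 3` over a field with `p ^ f` elements which is transitive on the points
  contains `SL(V)`, or the `p`-part of its order is small;
* `lt_of` : the numerical consequence.

The hypotheses `Main`, `AltSix`, `AltSeven`, `Thirteen` are proved in `H50.HerKnown`, see `H783.Her.Full`.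
-/

set_option autoImplicit false
set_option linter.unusedSectionVars false

namespace Cfsg.Agent.H783.Her

open Module

universe u

/-- the determinant over an isomorphic field -/
theorem det_transport {K F V : Type*} [Field K] [Field F] [AddCommGroup V] [Module K V] [Module F V]
    [Module.Finite K V] (φ : K ≃+* F) (hφ : ∀ (c : K) (v : V), c • v = φ c • v)
    (g : V →ₗ[K] V) (g' : V →ₗ[F] V) (h : ∀ v, g' v = g v) : LinearMap.det g' = φ (LinearMap.det g) := by
  let b := Module.finBasis K V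
  let b' : Basis (Fin (finrank K V)) F V := b.mapCoeffs φ fun c x => (hφ c x).symm
  rw [← LinearMap.det_toMatrix b, ← LinearMap.det_toMatrix b', RingEquiv.map_det]
  congr 1
  ext i j
  rw [RingEquiv.mapMatrix_apply, Matrix.map_apply, LinearMap.toMatrix_apply, LinearMap.toMatrix_apply, h,
    show b' j = b j from Basis.mapCoeffs_apply _ _ _ _]
  rfl

theorem card_sl213 : Nat.card (Matrix.SpecialLinearGroup (Fin 2) (ZMod 13)) = 2184 := by
  have : Fact (Nat.Prime 13) := ⟨by norm_num⟩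
  have h := Cfsg.Agent.S0242.result (F := ZMod 13) (q := 13) (ZMod.card 13) 2 (by norm_num)
  rw [Fin.prod_univ_two] at h
  have h2 : (13 ^ 2 - 13 ^ ((0 : Fin 2) : ℕ)) * (13 ^ 2 - 13 ^ ((1 : Fin 2) : ℕ)) = 26208 := by decide
  rw [h2] at h
  (clear * - this h; omega)

theorem card_sp42 : Nat.card (Matrix.symplecticGroup (Fin 2) (ZMod 2)) = 720 := by
  have h := Cfsg.Agent.S0245.result (F := ZMod 2) (q := 2) (ZMod.card 2) 2
  rw [h]
  simp only [Finset.prod_range_succ, _root_.Nat.reducePow, _root_.Finset.range_one, _root_.Finset.prod_singleton, _root_.zero_add, _root_.mul_one, _root_.Nat.add_one_sub_one, _root_.Nat.reduceAdd, _root_.Nat.reduceMul]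

/-- the semilinear group of the field -/
theorem concl_le {q n : ℕ} {V : Type u} [AddCommGroup V] [Finite V] {H : Subgroup (Equiv.Perm V)}
    (hadd : ∀ h ∈ H, ∀ v w : V, h (v + w) = h v + h w)
    (h : Cfsg.Agent.H667.HerFin.ConclTwo q n H) {p f : ℕ} [Fact p.Prime] (hq : q = p ^ f) (hnf : 1 ≤ n * f) :
    (Nat.card H).factorization p ≤ (n * f).factorization p := by
  obtain ⟨F, iF, iF', e, hc, h⟩ := h
  let iM : Module F V :=
    { smul := fun c v => e.symm (c * e v)
      one_smul := fun v => by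
        change e.symm (1 * e v) = v
        rw [one_mul, e.symm_apply_apply]
      mul_smul := fun c d v => by
        change e.symm (c * d * e v) = e.symm (c * e (e.symm (d * e v)))
        rw [e.apply_symm_apply, mul_assoc]
      smul_zero := fun c => by
        change e.symm (c * e 0) = 0
        rw [map_zero, mul_zero, map_zero]
      smul_add := fun c v w => by
        change e.symm (c * e (v + w)) = e.symm (c * e v) + e.symm (c * e w)
        rw [map_add, mul_add, map_add]
      add_smul := fun c d v => by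
        change e.symm ((c + d) * e v) = e.symm (c * e v) + e.symm (d * e v)
        rw [add_mul, map_add]
      zero_smul := fun v => by
        change e.symm (0 * e v) = 0
        rw [zero_mul, map_zero] }
  have hsm : ∀ (c : F) (v : V), e (c • v) = c * e v := fun c v => e.apply_symm_apply _
  have hSL : SL F H := by
    refine ⟨hadd, fun x hx => ?_⟩
    obtain ⟨c, σ, hσ⟩ := h x hx
    refine ⟨σ, fun d v => e.injective ?_⟩
    rw [hσ, hsm, hsm, hσ, map_mul]
    ring
  have h1 : finrank F V = 1 := by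
    let E : V ≃ₗ[F] F := { e with map_smul' := fun c v => hsm c v }
    rw [E.finrank_eq, Module.finrank_self]
  have h2 := semi_le hSL (p := p) (g := n * f) hnf (by rw [hc, hq, ← pow_mul, mul_comm]) h1 le_rfl
  simpa only [_root_.ge_iff_le, _root_.tsub_self, _root_.MulZeroClass.mul_zero, _root_.Nat.zero_div, _root_.zero_add] using h2

theorem tri (a : ℕ) : 2 * (a * (a - 1) / 2) = a * (a - 1) := by
  refine Nat.mul_div_cancel' ?_
  rcases a with _ | a
  · simp
  · rw [Nat.add_sub_cancel, mul_comm]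
    exact (Nat.even_mul_succ_self a).two_dvd

/-- **Hering's theorem and the `p`-part.** -/
theorem her_of (main : Cfsg.Agent.H667.HerFin.Main.{u}) (h6 : Cfsg.Agent.H667.HerFin.AltSix.{u})
    (h7 : Cfsg.Agent.H667.HerFin.AltSeven.{u}) (h13 : Cfsg.Agent.H667.HerFin.Thirteen.{u})
    {K : Type*} {V : Type u} [Field K] [Fintype K] [AddCommGroup V] [Module K V] [Finite V] {p f n : ℕ}
    (hp : p.Prime) (hK : Fintype.card K = p ^ f) (hn : finrank K V = n) (hn3 : 3 ≤ n)
    (H : Subgroup (Equiv.Perm V)) (hadd : ∀ h ∈ H, ∀ v w : V, h (v + w) = h v + h w)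
    (hsemi : ∀ h ∈ H, ∃ σ : K ≃+* K, ∀ (c : K) (v : V), h (c • v) = σ c • h v)
    (htrans : ∀ v w : V, v ≠ 0 → w ≠ 0 → ∃ h ∈ H, ∃ c : K, h v = c • w) :
    (∀ g : V ≃ₗ[K] V, LinearEquiv.det g = 1 → ∃ h ∈ H, ∀ v, h v = g v) ∨
    (Nat.card H).factorization p ≤ (n * f).factorization p ∨
    (∃ a b : ℕ, a * b = n ∧ 2 ≤ a ∧ 2 ≤ b ∧
      (Nat.card H).factorization p ≤ f * (n * (a - 1) / 2) + (b * f).factorization p) ∨
    (Even n ∧ (Nat.card H).factorization p ≤ f * (n ^ 2 / 4) + f.factorization p) := by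
  have : Fact p.Prime := ⟨hp⟩
  have hf0 : f ≠ 0 := by
    rintro rfl
    rw [pow_zero] at hK
    have := Fintype.one_lt_card (α := K)
    omega
  have hfp : Module.Finite K V := Module.Finite.of_finite
  rcases Cfsg.Agent.H667.HerFin.action_of_main main h6 h7 h13 (p ^ f) n hK hn (by omega) H hadd hsemi htrans with
    h | h | h
  · exact Or.inr (Or.inl (concl_le hadd h rfl (Nat.mul_pos (by omega) (by omega))))
  · obtain ⟨F, iF, iF', iM, φ, b, hφ, h2, hc, hb, hsem, hcase⟩ := h
    have hSL : SL F H := ⟨hadd, hsem⟩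
    have hb0 : b ≠ 0 := by
      rintro rfl
      rw [mul_zero] at hb
      omega
    have hcF : Fintype.card F = p ^ (b * f) := by rw [hc, ← pow_mul, mul_comm]
    by_cases hb1 : b = 1
    · subst hb1
      rw [mul_one] at hb
      rw [pow_one] at hc
      rw [one_mul] at hcF
      have hsp : ∀ f' : LinearMap.BilinForm F V, f'.IsAlt → f'.Nondegenerate →
          (∀ h ∈ H, ∀ σ : F ≃+* F, (∀ (c : F) (v : V), h (c • v) = σ c • h v) →
            ∃ μ : F, ∀ u v, f' (h u) (h v) = μ * σ (f' u v)) →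
          (Even n ∧ (Nat.card H).factorization p ≤ f * (n ^ 2 / 4) + f.factorization p) := by
        intro f' ha hnd hs
        have hfF : Module.Finite F V := Module.Finite.of_finite
        obtain ⟨m, bb, hm, -⟩ := Cfsg.Agent.H177.InvolOrth.exists_symplectic_basis f' ha hnd
        have hm' : finrank F V = 2 * m := by omega
        have h3 := symp_le hSL (p := p) (g := f) (r := m) (by omega) hcF hm' (by omega) f' ha hnd hs
        have hnm : n = 2 * m := by omega
        refine ⟨⟨m, by omega⟩, ?_⟩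
        have h4 : n ^ 2 / 4 = m ^ 2 := by
          rw [hnm, show (2 * m) ^ 2 = m ^ 2 * 4 by ring, Nat.mul_div_cancel _ (by norm_num)]
        rw [h4]
        exact h3
      rcases hcase with h1 | ⟨f', ha, hn', -, hs⟩ | ⟨-, -, -, f', ha, hn', hs, -⟩
      · left
        have hbij : Function.Bijective φ :=
          (Fintype.bijective_iff_injective_and_card φ).2 ⟨φ.injective, by rw [hc, hK]⟩
        let Φ : K ≃+* F := RingEquiv.ofBijective φ hbij
        have hΦ : ∀ (c : K) (v : V), c • v = Φ c • v := hφ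
        have hΦ' : ∀ (c : F) (v : V), Φ.symm c • v = c • v := fun c v => by
          rw [hΦ, RingEquiv.apply_symm_apply]
        intro g hg
        have hlin : ∀ (c : F) (v : V), g (c • v) = c • g v := fun c v => by rw [← hΦ', map_smul, hΦ']
        let g' : V ≃ₗ[F] V := { g with map_smul' := hlin }
        obtain ⟨h, hh, e⟩ := h1 g' (by
          apply Units.ext
          have hg' : LinearMap.det (g : V →ₗ[K] V) = 1 := by
            rw [← LinearEquiv.coe_det, hg, Units.val_one]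
          rw [LinearEquiv.coe_det, det_transport Φ hΦ (g : V →ₗ[K] V) (g' : V →ₗ[F] V) (fun v => rfl), hg', map_one]
          rfl)
        exact ⟨h, hh, e⟩
      · exact Or.inr (Or.inr (Or.inr (hsp f' ha hn' hs)))
      · exact Or.inr (Or.inr (Or.inr (hsp f' ha hn' hs)))
    · refine Or.inr (Or.inr (Or.inl ⟨finrank F V, b, hb, h2, by omega, ?_⟩))
      have h3 := semi_le hSL (p := p) (g := b * f) (a := finrank F V) (Nat.mul_pos (by omega) (by omega)) hcF rfl
        (by omega)
      have h4 : b * f * (finrank F V * (finrank F V - 1) / 2) = f * (n * (finrank F V - 1) / 2) := by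
        have h5 := tri (finrank F V)
        have h6 : n * (finrank F V - 1) / 2 = b * (finrank F V * (finrank F V - 1) / 2) := by
          rw [← hb]
          have h7 : finrank F V * b * (finrank F V - 1) = b * (finrank F V * (finrank F V - 1) / 2) * 2 := by
            rw [mul_assoc b, mul_comm _ 2, h5]
            ring
          rw [h7, Nat.mul_div_cancel _ (by norm_num)]
        rw [h6]
        ring
      rwa [h4] at h3
  · right
    right
    right
    rcases h with ⟨h, -⟩ | ⟨h, -⟩ | ⟨hn4, hq2, h⟩ | ⟨hn4, hq3, h⟩ | ⟨hn6, hq3, ⟨e⟩⟩ | ⟨hn6, hq2, E, iE, iE', hE, N, hN, ⟨e⟩⟩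
    · omega
    · omega
    · have hp2 : p = 2 := (Nat.prime_dvd_prime_iff_eq hp Nat.prime_two).1 (by rw [← hq2]; exact dvd_pow_self p hf0)
      subst hp2
      subst hn4
      refine ⟨by decide, ?_⟩
      have h4 : (Nat.card H).factorization 2 ≤ 4 := by
        have key : ∀ m : ℕ, m ≠ 0 → ¬ 2 ^ 5 ∣ m → m.factorization 2 ≤ 4 := by
          intro m hm hd
          by_contra hcon
          exact hd ((Nat.prime_two.pow_dvd_iff_le_factorization hm).2 (by omega))
        rcases h with ⟨⟨e⟩⟩ | ⟨⟨e⟩⟩ | ⟨⟨e⟩⟩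
        · rw [Nat.card_congr e.toEquiv]
          have h1 : Nat.card (alternatingGroup (Fin 6)) = 360 := by
            rw [nat_card_alternatingGroup, Nat.card_eq_fintype_card, Fintype.card_fin]
            rfl
          rw [h1]
          exact key _ (by norm_num) (by norm_num)
        · rw [Nat.card_congr e.toEquiv]
          have h1 : Nat.card (alternatingGroup (Fin 7)) = 2520 := by
            rw [nat_card_alternatingGroup, Nat.card_eq_fintype_card, Fintype.card_fin]
            rfl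
          rw [h1]
          exact key _ (by norm_num) (by norm_num)
        · rw [Nat.card_congr e.toEquiv, card_sp42]
          exact key _ (by norm_num) (by norm_num)
      have h5 : 1 ≤ f := by omega
      calc (Nat.card H).factorization 2 ≤ 4 := h4
        _ ≤ f * (4 ^ 2 / 4) + f.factorization 2 := by omega
    · have hp3 : p = 3 := (Nat.prime_dvd_prime_iff_eq hp Nat.prime_three).1 (by rw [← hq3]; exact dvd_pow_self p hf0)
      subst hp3
      subst hn4
      refine ⟨by decide, ?_⟩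
      have h4 : (Nat.card H).factorization 3 ≤ 4 := by
        rcases h with ⟨N, -, -, hd⟩ | ⟨N, hN, ⟨e⟩⟩
        · by_contra hcon
          have h1 : 3 ^ 5 ∣ Nat.card H := (Nat.prime_three.pow_dvd_iff_le_factorization Nat.card_pos.ne').2 (by omega)
          have h2 := h1.trans hd
          norm_num at h2
        · exact four_three ⟨hadd, hsemi⟩ (by rw [hK, hq3]) hn N e
      have h5 : 1 ≤ f := by omega
      calc (Nat.card H).factorization 3 ≤ 4 := h4
        _ ≤ f * (4 ^ 2 / 4) + f.factorization 3 := by omega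
    · have hp3 : p = 3 := (Nat.prime_dvd_prime_iff_eq hp Nat.prime_three).1 (by rw [← hq3]; exact dvd_pow_self p hf0)
      subst hp3
      subst hn6
      refine ⟨by decide, ?_⟩
      have h4 : (Nat.card H).factorization 3 ≤ 4 := by
        rw [Nat.card_congr e.toEquiv, card_sl213]
        by_contra hcon
        have h1 : 3 ^ 5 ∣ 2184 := (Nat.prime_three.pow_dvd_iff_le_factorization (by norm_num)).2 (by omega)
        norm_num at h1
      have h5 : 1 ≤ f := by omega
      calc (Nat.card H).factorization 3 ≤ 4 := h4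
        _ ≤ f * (6 ^ 2 / 4) + f.factorization 3 := by omega
    · have hp2 : p = 2 := (Nat.prime_dvd_prime_iff_eq hp Nat.prime_two).1 (by rw [← hq2]; exact dvd_pow_self p hf0)
      subst hp2
      subst hn6
      refine ⟨by decide, ?_⟩
      have h4 := six_two ⟨hadd, hsemi⟩ (by rw [hK, hq2]) hn hE N e
      have h5 : 1 ≤ f := by omega
      calc (Nat.card H).factorization 2 ≤ 6 := h4
        _ ≤ f * (6 ^ 2 / 4) + f.factorization 2 := by omega

/-- `2 v_p(m) ≤ m` -/
theorem two_mul_fac_le {p m : ℕ} (hp : p.Prime) (hm : m ≠ 0) : 2 * m.factorization p ≤ m := by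
  have h1 : p ^ m.factorization p ≤ m := Nat.ordProj_le p hm
  have h2 : 2 ^ m.factorization p ≤ p ^ m.factorization p := Nat.pow_le_pow_left hp.two_le _
  have h3 : ∀ v : ℕ, 2 * v ≤ 2 ^ v := by
    intro v
    induction v with
    | zero => simp
    | succ v ih =>
      rw [pow_succ]
      rcases Nat.eq_zero_or_pos v with rfl | hv
      · norm_num
      · have : 2 ≤ 2 ^ v := by
          calc 2 = 2 ^ 1 := (pow_one 2).symm
            _ ≤ 2 ^ v := Nat.pow_le_pow_right (by norm_num) hv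
        omega
  exact (h3 _).trans (h2.trans h1)

/-- **the numerical consequence** -/
theorem lt_of' {p f n n₀ N : ℕ} (hp : p.Prime) (hf : 1 ≤ f) (hn3 : 3 ≤ n) (hn₀ : 2 * n₀ + 1 ≤ n)
    (h : N ≤ (n * f).factorization p ∨
      (∃ a b : ℕ, a * b = n ∧ 2 ≤ a ∧ 2 ≤ b ∧ N ≤ f * (n * (a - 1) / 2) + (b * f).factorization p) ∨
      (Even n ∧ N ≤ f * (n ^ 2 / 4) + f.factorization p)) :
    N + f * (n₀ * (n₀ - 1) / 2) + f < f * (n * (n - 1) / 2) := by
  have t1 := tri n₀
  have t2 := tri n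
  set A := n₀ * (n₀ - 1) / 2 with hA
  set B := n * (n - 1) / 2 with hB
  -- `8 A ≤ (n - 1) (n - 3)`
  obtain ⟨m, rfl⟩ : ∃ m, n = m + 3 := ⟨n - 3, by omega⟩
  have hB' : 2 * B = (m + 3) * (m + 2) := t2
  have hA' : 8 * A ≤ (m + 2) * m := by
    rcases Nat.eq_zero_or_pos n₀ with h0 | h0
    · rw [h0, Nat.zero_mul] at t1
      have : A = 0 := by omega
      rw [this]
      (clear * -; positivity)
    · obtain ⟨k, rfl⟩ : ∃ k, n₀ = k + 1 := ⟨n₀ - 1, by omega⟩
      rw [Nat.add_sub_cancel] at t1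
      have h1 : 2 * k ≤ m := by omega
      have h2 : 8 * A = (2 * k + 2) * (2 * k) := by linear_combination 4 * t1
      rw [h2]
      exact Nat.mul_le_mul (by omega) h1
  rcases h with h | ⟨a, b, hab, ha, hb, h⟩ | ⟨⟨k, hk⟩, h⟩
  · have v1 := two_mul_fac_le hp (show (m + 3) * f ≠ 0 by positivity)
    have h1 : 2 * N ≤ (m + 3) * f := by omega
    nlinarith only [hf, hB', h, v1, Nat.mul_le_mul_left f hA']
  · have v1 := two_mul_fac_le hp (show b * f ≠ 0 from Nat.mul_ne_zero (by omega) (by omega))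
    have h1 : 2 * ((m + 3) * (a - 1) / 2) ≤ (m + 3) * (a - 1) := Nat.mul_div_le _ _
    have h2 : 2 * b ≤ m + 3 := by rw [← hab]; exact Nat.mul_le_mul_right _ ha
    have h3 : 2 * a ≤ m + 3 := by rw [← hab, mul_comm a]; exact Nat.mul_le_mul_right _ hb
    obtain ⟨c, rfl⟩ : ∃ c, a = c + 1 := ⟨a - 1, by omega⟩
    rw [Nat.add_sub_cancel] at h h1
    set C := (m + 3) * c / 2 with hC
    have h4 : 4 * C ≤ (m + 3) * (m + 1) := by
      have : 2 * c ≤ m + 1 := by omega
      nlinarith only [h3, h1]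
    have h5 : 2 * (b * f) ≤ (m + 3) * f := by rw [← mul_assoc]; exact Nat.mul_le_mul_right _ h2
    have hm1 : 1 ≤ m := by
      have : 2 * 2 ≤ m + 3 := by rw [← hab]; exact Nat.mul_le_mul ha hb
      omega
    have h6 : 4 * N ≤ f * ((m + 3) * (m + 1)) + (m + 3) * f := by
      have := Nat.mul_le_mul_left f h4
      linarith only [v1, h, h5, this]
    have h7 := Nat.mul_le_mul_left f hA'
    have h8 : 2 * (f * B) = f * ((m + 3) * (m + 2)) := by rw [← hB']; ring
    linarith only [h6, h7, h8, Nat.mul_le_mul hf hm1, Nat.mul_le_mul_right (m * m) hf, _root_.mul_self_nonneg (↑m : ℤ), _root_.Nat.cast_nonneg (α := ℤ) (N)]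
  · have v1 := two_mul_fac_le hp (show f ≠ 0 by omega)
    have h1 : (m + 3) ^ 2 / 4 = k ^ 2 := by
      rw [hk, show (k + k) ^ 2 = k ^ 2 * 4 by ring, Nat.mul_div_cancel _ (by norm_num)]
    rw [h1] at h
    have hk2 : 2 ≤ k := by omega
    obtain ⟨j, rfl⟩ : ∃ j, k = j + 2 := ⟨k - 2, by omega⟩
    have hm : m = 2 * j + 1 := by omega
    have h0 : n₀ ≤ j + 1 := by omega
    have h2 : 2 * A ≤ (j + 1) * j := by
      rw [t1]
      exact Nat.mul_le_mul h0 (by omega)
    have h3 : 2 * B = (2 * j + 4) * (2 * j + 3) := by rw [hB', hm]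
    have h4 : 2 * N ≤ 2 * (f * (j + 2) ^ 2) + f := by omega
    have h5 := Nat.mul_le_mul_left f h2
    have h6 : 2 * (f * B) = f * ((2 * j + 4) * (2 * j + 3)) := by rw [← h3]; ring
    linarith only [hf, v1, h, h5, h6, Nat.mul_le_mul_right j hf, Nat.mul_le_mul_right (j * j) hf, _root_.mul_self_nonneg (↑j : ℤ), _root_.Nat.cast_nonneg (α := ℤ) (j)]

end Cfsg.Agent.H783.Her
end

private theorem dce_30a1ee57b6ad : _root_.True := by
  try have : _root_.True := by simp only [_root_.Cfsg.Agent.H783.Her.cGL.eq_1]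
  exact _root_.True.intro
end
end
end
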